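import Cfsg.Agent.Lib.SEAbelian.Final

/-!
# The core lemma

Induction on the order of the group: the odd core lies in `W`, and modulo it the group acts faithfully on the
points.
-/

set_option autoImplicit false
set_option linter.style.haveILetI false
set_option linter.unusedSectionVars false

namespace Cfsg.Agent.SEAbelian

open Subgroup MulAction
open Cfsg.Agent.Involutions
open Cfsg.Agent.SETwoClosed (TwoEl)

universe u

variable {G : Type u} [Group G] [Finite G] {H W : Subgroup G}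

/-- The odd core lies in `W`. -/
theorem Hyp.oddCore_le (h : Hyp H W) : Cfsg.oddCore G ≤ W := by
  haveI : (Cfsg.oddCore G).Normal := PLocal.Cores.pPrimeCore_normal'
  obtain ⟨a, ha, b, hb, ha2, hb2, hab, hc⟩ := h.four
  have hodd : Odd (Nat.card ↥(Cfsg.oddCore G)) :=
    Nat.coprime_two_right.1 PLocal.Cores.coprime_card_pPrimeCore
  rw [← h.Kx_base]
  exact h.oddNormal_le (h.le_stab_of_four hodd (le_normalizer_of_normal (mem_top a))
    (le_normalizer_of_normal (mem_top b)) ha2 hb2 hc hab (smul_base_iff.2 ha)) hodd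
    fun g _ => le_normalizer_of_normal (mem_top g)

/-- Passage to the quotient by the odd core. -/
theorem Hyp.map_mk (h : Hyp H W) [(Cfsg.oddCore G).Normal] :
    Hyp (H.map (QuotientGroup.mk' (Cfsg.oddCore G))) (W.map (QuotientGroup.mk' (Cfsg.oddCore G))) := by
  set N := Cfsg.oddCore G
  have hNW : N ≤ W := h.oddCore_le
  set π := QuotientGroup.mk' N
  have hodd : Odd (Nat.card ↥N) := Nat.coprime_two_right.1 PLocal.Cores.coprime_card_pPrimeCore
  have hker : π.ker = N := QuotientGroup.ker_mk' N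
  have hmem : ∀ {X : Subgroup G}, N ≤ X → ∀ {x : G}, π x ∈ X.map π → x ∈ X := fun {X} hX {x} hx => by
    have h1 : x ∈ (X.map π).comap π := hx
    rwa [comap_map_eq, hker, sup_eq_left.2 hX] at h1
  have hH : ∀ {x : G}, π x ∈ H.map π → x ∈ H := fun {x} => hmem (hNW.trans h.le)
  have hW : ∀ {x : G}, π x ∈ W.map π → x ∈ W := fun {x} => hmem hNW
  have hord : ∀ {t : G}, orderOf t = 2 → orderOf (π t) = 2 := fun {t} ht =>
    Basic.orderOf_two_iff.2 ⟨by rw [← map_mul, Basic.inv_sq_one ht, map_one], fun e => by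
      have h1 := SECore.odd_orderOf_of_mem hodd (hker ▸ (MonoidHom.mem_ker.2 e))
      rw [ht] at h1
      exact absurd h1 (by decide)⟩
  obtain ⟨a, ha, b, hb, ha2, hb2, hab, hc⟩ := h.four
  refine ⟨StronglyEmbedded.of_conj (fun e => h.se.1 (eq_top_iff.2 fun x _ => hH (e ▸ mem_top (π x))))
      ?_ ?_, map_mono h.le, ?_, h.odd.of_dvd_nat (card_map_dvd W π), ?_, ?_, ?_, ?_⟩
  · rw [even_iff_two_dvd, ← hord ha2]
    exact Subgroup.orderOf_dvd_natCard _ (mem_map_of_mem π ha)
  · intro q hq hq2 g hg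
    obtain ⟨x, rfl⟩ := QuotientGroup.mk'_surjective N q
    obtain ⟨y, hyz, hy2, hyx⟩ := exists_twoEl (N := N) (x := x) ⟨1, by
      rw [pow_one, ← hker, MonoidHom.mem_ker, map_pow, pow_two, Basic.inv_sq_one hq2]⟩
    have hπy : π y = π x := QuotientGroup.eq.2 hyx
    have hyy : y * y = 1 := by
      obtain ⟨k, hk⟩ := hy2
      refine TwoEl.eq_one_of_odd ⟨k, by rw [← pow_two, ← pow_mul, mul_comm, pow_mul, hk, one_pow]⟩
        (SECore.odd_orderOf_of_mem hodd ?_)
      rw [← hker, MonoidHom.mem_ker, map_mul, hπy, Basic.inv_sq_one hq2]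
    have hy : orderOf y = 2 := Basic.orderOf_two_iff.2 ⟨hyy, fun e => Basic.ne_one hq2 (by rw [← hπy, e, map_one])⟩
    obtain ⟨g, rfl⟩ := QuotientGroup.mk'_surjective N g
    rw [← hπy, ← map_inv, ← map_mul, ← map_mul] at hg
    exact mem_map_of_mem π (StronglyEmbedded.mem_of_conj h.se (hH (hπy ▸ hq)) hy (hH hg))
  · exact (map_mono h.normal).trans (le_normalizer_map π)
  · intro P hP x hx y hy
    haveI : Fact (Nat.Prime 2) := ⟨Nat.prime_two⟩
    have hA : PLocal.Quadratic.AbelianTwo (G ⧸ N) :=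
      h.abelianTwo.of_surjective (f := π) (QuotientGroup.mk'_surjective N)
    obtain ⟨S, hS⟩ := hP.exists_le_sylow
    exact congrArg Subtype.val ((hA S).is_comm.comm ⟨x, hS hx⟩ ⟨y, hS hy⟩)
  · rintro _ ⟨x, hx, rfl⟩ _ ⟨y, hy, rfl⟩ ⟨i, hi⟩ ⟨j, hj⟩
    rw [← map_pow] at hi hj
    obtain ⟨k, hk⟩ := h.closed x hx y hy ⟨i, hW hi⟩ ⟨j, hW hj⟩
    exact ⟨k, by rw [← map_mul, ← map_pow]; exact mem_map_of_mem π hk⟩
  · rintro _ ⟨y, hy, rfl⟩ hyo hcent
    refine mem_map_of_mem π (h.faithful y hy ?_ fun e he he2 => hW ?_)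
    · have h1 : y ^ orderOf (π y) ∈ N :=
        (QuotientGroup.eq_one_iff _).1 (show π (y ^ orderOf (π y)) = 1 by rw [map_pow, pow_orderOf_eq_one])
      have h2 : orderOf y ∣ orderOf (π y) * orderOf (y ^ orderOf (π y)) :=
        orderOf_dvd_of_pow_eq_one (by rw [pow_mul, pow_orderOf_eq_one])
      exact (hyo.mul (SECore.odd_orderOf_of_mem hodd h1)).of_dvd_nat h2
    · rw [map_mul, map_mul, map_mul, map_inv, map_inv]
      exact hcent (π e) (mem_map_of_mem π he) (by rw [← map_mul, he2, map_one])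
  · refine ⟨π a, mem_map_of_mem π ha, π b, mem_map_of_mem π hb, hord ha2, hord hb2, fun e => hab ?_,
      hc.map π⟩
    have h1 : a⁻¹ * b ∈ N := QuotientGroup.eq.1 e
    have h2 : (a⁻¹ * b) * (a⁻¹ * b) = 1 := by
      rw [Basic.inv_eq ha2, show a * b * (a * b) = a * (b * a) * b by group, ← hc.eq,
        show a * (a * b) * b = (a * a) * (b * b) by group, Basic.inv_sq_one ha2, Basic.inv_sq_one hb2,
        one_mul]
    exact inv_mul_eq_one.1 (TwoEl.eq_one_of_odd (SETwoClosed.twoEl_of_sq h2)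
      (SECore.odd_orderOf_of_mem hodd h1))

/-- Without odd core the action on the points is faithful. -/
theorem Hyp.faithfulSMul (h : Hyp H W) (hO : Cfsg.oddCore G = ⊥) : FaithfulSMul G (G ⧸ H) := by
  refine ⟨fun {g g'} hgg => ?_⟩
  by_contra hne
  have hd : g⁻¹ * g' ∈ H.normalCore := by
    rw [normalCore_eq_ker, MonoidHom.mem_ker]
    refine Equiv.ext fun z => ?_
    show (g⁻¹ * g') • z = z
    rw [mul_smul, ← hgg z, inv_smul_smul]
  have hodd : Odd (Nat.card ↥H.normalCore) := by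
    by_contra hodd
    rw [Nat.not_odd_iff_even] at hodd
    obtain ⟨t, ht, ht2⟩ := StronglyEmbedded.exists_involution_mem hodd
    obtain ⟨y, hy⟩ := h.exists_other (base H)
    obtain ⟨k, rfl⟩ := exists_smul_base y
    refine hy (h.eq_of_fixed ht2 (smul_base_iff.2 (H.normalCore_le ht)) ?_)
    have h1 : k⁻¹ * t * k ∈ H := H.normalCore_le (by
      simpa using (inferInstance : H.normalCore.Normal).conj_mem t ht k⁻¹)
    have h2 := smul_base_iff.2 h1
    rwa [mul_smul, mul_smul, inv_smul_eq_iff] at h2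
  exact hne (inv_mul_eq_one.1 (mem_bot.1 (hO ▸ PLocal.Cores.le_pPrimeCore (p := 2)
    (Nat.coprime_two_right.2 hodd) hd)))

theorem le_oddCore_aux : ∀ (m : ℕ) (G : Type u) [Group G] [Finite G], Nat.card G ≤ m →
    ∀ H W : Subgroup G, Hyp H W → W ≤ Cfsg.oddCore G := by
  intro m
  induction m with
  | zero => intro G _ _ hm; have := (Nat.card_pos : 0 < Nat.card G); omega
  | succ m ih =>
    intro G _ _ hm H W h
    haveI : (Cfsg.oddCore G).Normal := PLocal.Cores.pPrimeCore_normal'
    by_cases hO : Cfsg.oddCore G = ⊥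
    · haveI := h.faithfulSMul hO
      refine h.le_oddCore_of_faithful fun X hX K W' h' => ih X ?_ K W' h'
      have h2 : Nat.card X < Nat.card G := lt_of_le_of_ne (Subgroup.card_le_card_group X)
        fun e => hX (Subgroup.card_eq_iff_eq_top X |>.1 e)
      omega
    · have hlt : Nat.card (G ⧸ Cfsg.oddCore G) < Nat.card G := by
        have h1 := (Cfsg.oddCore G).card_mul_index
        have h2 : 1 < Nat.card (Cfsg.oddCore G) := (Subgroup.one_lt_card_iff_ne_bot _).2 hO
        rw [← Subgroup.index, ← h1]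
        exact lt_mul_of_one_lt_left (Nat.pos_of_ne_zero Subgroup.index_ne_zero_of_finite) h2
      have h1 := ih _ (by omega) _ _ h.map_mk
      rw [show Cfsg.oddCore (G ⧸ Cfsg.oddCore G) = ⊥ from Cores.pPrimeCore_quotient_self 2, le_bot_iff,
        Subgroup.map_eq_bot_iff, QuotientGroup.ker_mk'] at h1
      exact h1

/-- The core lemma. -/
theorem coreLemma : CoreLemma.{u} := fun G _ _ H W h => le_oddCore_aux _ G le_rfl H W h

end Cfsg.Agent.SEAbelian
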