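import Cfsg.Agent.Lib.SEAbelian.ReduceQuotient
import Cfsg.Agent.Lib.SETwoClosed.TIMain
import Cfsg.Agent.Lib.CTwoAbelian.Lie

/-!
# The simple case of the reduction

With trivial signalizer the Sylow 2-subgroups are TI, and theorem T leaves `PSL(2, 2ⁿ)`.
-/

set_option autoImplicit false
set_option linter.style.haveILetI false

namespace Cfsg.Agent.SEAbelian

open Subgroup
open Cfsg.Agent.Involutions

universe u

theorem charP_two {F : Type} [Field F] [Fintype F] {n : ℕ} (hn : n ≠ 0)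
    (hF : Fintype.card F = 2 ^ n) : CharP F 2 := by
  have h : ringChar F = 2 := FiniteField.even_card_iff_char_two.2 (by
    rw [hF, ← Nat.dvd_iff_mod_eq_zero]
    exact dvd_pow_self 2 hn)
  exact h ▸ ringChar.charP F

theorem isLieTypeChar_of_kindTI {G : Type u} [Group G] (h : CyclicSylowInter.KindTI G) :
    Cfsg.IsLieTypeChar 2 G := by
  rcases h with ⟨n, F, i1, i2, hn, hF, e⟩ | ⟨m, F, i1, i2, hm, hF, e⟩ | ⟨n, F, i1, i2, hn, hF, e⟩
  · refine Or.inl ⟨F, i1, i2, charP_two (by omega) hF, 2, le_rfl, fun _ => ?_, e⟩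
    rw [hF]
    calc 4 = 2 ^ 2 := rfl
      _ ≤ 2 ^ n := Nat.pow_le_pow_right (by norm_num) hn
  · exact Or.inr (Or.inr (Or.inr (Or.inr (Or.inr (Or.inr (Or.inr (Or.inr
      (Or.inl ⟨rfl, F, i1, i2, m, hm, hF, e⟩))))))))
  · refine Or.inr (Or.inr (Or.inl ⟨F, i1, i2, charP_two (n := 2 * n) (by omega) (by rw [hF, pow_mul]; norm_num),
      3, 2 ^ n, ?_, le_rfl, fun h3 => ?_, e⟩))
    · rw [hF, ← pow_mul, mul_comm, pow_mul]
      norm_num
    · have := Nat.pow_le_pow_right (show 0 < 2 by norm_num) hn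
      omega

variable {G : Type u} [Group G] [Finite G]

/-- Rank at least three, from the core lemma. -/
theorem out_of_rank_three (hcore : CoreLemma.{u}) [IsSimpleGroup G] (hnc : ¬ IsMulCommutative G)
    (h : AbTwo G) (hC : ∀ t : G, orderOf t = 2 → Group.IsSolvable ↥(centralizer ({t} : Set G)))
    (S : Sylow 2 G) (h8 : 8 ≤ Nat.card ↥(omegaOf h S)) : Out G := by
  haveI : Fact (Nat.Prime 2) := ⟨Nat.prime_two⟩
  have hle := hcore G _ _ (hyp_sig h S hC hnc h8)
  have hcard : 8 ≤ Nat.card ↥(S : Subgroup G) :=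
    h8.trans (Subgroup.card_le_of_le fun x hx => hx.1)
  have h0 : Cfsg.oddCore G = ⊥ := by
    refine (IsSimpleGroup.eq_bot_or_eq_top_of_normal _ inferInstance).resolve_right fun e => ?_
    have hodd := Agent.Cores.oddCore_odd (G := G)
    rw [e, Subgroup.card_top] at hodd
    haveI := S0205.result (G := G) hodd
    exact hnc ⟨⟨IsSimpleGroup.comm_iff_isSolvable.2 inferInstance⟩⟩
  rw [h0, le_bot_iff] at hle
  have hsub : ∀ a ∈ omegaOf h S, a ≠ 1 →
      centralizer ({a} : Set G) ≤ normalizer ((S : Subgroup G) : Set G) := by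
    intro a ha ha1 g hg
    obtain ⟨w, hw, n, hn, rfl⟩ := centralizer_le_sigM h S hC ha ha1 hg
    rw [hle, mem_bot] at hw
    rwa [hw, one_mul]
  have hone : ∀ (T : Sylow 2 G) (x : G), orderOf x = 2 → x ∈ (S : Subgroup G) →
      x ∈ (T : Subgroup G) → S = T := by
    intro T x hx hxS hxT
    have hTN := (sylow_le_centralizer h T hxT).trans
      (hsub x ⟨hxS, Basic.inv_sq_one hx⟩ (Basic.ne_one hx))
    refine Sylow.ext (le_antisymm ?_ ?_)
    · refine (eq_of_le_of_card_ge (fun t ht => ?_) (Nat.card_congr (S.equiv T).toEquiv).le).ge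
      obtain ⟨k, hk⟩ := T.2 ⟨t, ht⟩
      exact mem_sylow_of_normalizer S (hTN ht) (congrArg Subtype.val hk)
    · intro t ht
      obtain ⟨k, hk⟩ := T.2 ⟨t, ht⟩
      exact mem_sylow_of_normalizer S (hTN ht) (congrArg Subtype.val hk)
  have hTI : CyclicSylowInter.TISylow G := by
    intro T₁ T₂ x hx h1 h2
    obtain ⟨g, hg⟩ := MulAction.exists_smul_eq G T₁ S
    have hm : ∀ T : Sylow 2 G, x ∈ (T : Subgroup G) →
        g * x * g⁻¹ ∈ ((g • T : Sylow 2 G) : Subgroup G) := fun T hT => by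
      rw [Sylow.coe_subgroup_smul]
      exact ⟨x, hT, rfl⟩
    have := hone (g • T₂) (g * x * g⁻¹) (by rw [Basic.orderOf_conj, hx]) (hg ▸ hm T₁ h1) (hm T₂ h2)
    exact smul_left_cancel g (hg.trans this)
  have hH := SETwoClosed.hyp_normalizer hnc hTI S
  obtain ⟨F, i1, i2, hF, e⟩ := Lib.CTwoAbelian.lie_two
    (isLieTypeChar_of_kindTI (SETwoClosed.kindTI_of_concl hH hH.concl)) hnc S
    ⟨⟨fun a b => Subtype.ext (h _ S.2 a a.2 b b.2).eq⟩⟩
  refine ⟨F, i1, i2, Or.inr ⟨_, ?_, hF⟩, e⟩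
  rw [S.card_eq_multiplicity] at hcard
  by_contra hlt
  have := Nat.pow_le_pow_right (show 0 < 2 by norm_num) (show (Nat.card G).factorization 2 ≤ 1 by omega)
  omega

/-- The simple case. -/
theorem simpleCase (hcore : CoreLemma.{u}) : SimpleCase.{u} := by
  intro G _ _ _ hnc h hC
  haveI : Fact (Nat.Prime 2) := ⟨Nat.prime_two⟩
  obtain ⟨S⟩ := (inferInstance : Nonempty (Sylow 2 G))
  by_cases h4 : Nat.card ↥(omegaOf h S) ≤ 4
  · exact out_of_rank_two hnc h S h4
  · refine out_of_rank_three hcore hnc h hC S ?_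
    obtain ⟨k, hk⟩ := IsPGroup.iff_card.1
      (S.2.to_le (fun x hx => hx.1 : omegaOf h S ≤ (S : Subgroup G)))
    rw [hk] at h4 ⊢
    rcases Nat.lt_or_ge k 3 with hk3 | hk3
    · exact absurd (Nat.pow_le_pow_right (show 0 < 2 by norm_num) (show k ≤ 2 by omega)) h4
    · exact (show 8 = 2 ^ 3 by norm_num) ▸ Nat.pow_le_pow_right (by norm_num) hk3

/-- The theorem on abelian Sylow 2-subgroups with solvable centralizers of involutions, from the core
lemma. -/
theorem s3188_of_core (hcore : CoreLemma.{u}) {G : Type u} [Group G] [Finite G] (S : Sylow 2 G)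
    (hS : IsMulCommutative ↥(S : Subgroup G))
    (hC : ∀ t : G, orderOf t = 2 → Group.IsSolvable ↥(Subgroup.centralizer ({t} : Set G))) :
    Group.IsSolvable G ∨
      ∃ (F : Type) (_ : Field F) (_ : Fintype F),
        (((Fintype.card F % 8 = 3 ∨ Fintype.card F % 8 = 5) ∧ 5 ≤ Fintype.card F) ∨
          (∃ n : ℕ, 2 ≤ n ∧ Fintype.card F = 2 ^ n)) ∧
        ∃ N : Subgroup (G ⧸ Cfsg.oddCore G), N.Normal ∧
          Nonempty (↥N ≃* Matrix.ProjectiveSpecialLinearGroup (Fin 2) F) ∧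
          Subgroup.centralizer (N : Set (G ⧸ Cfsg.oddCore G)) = ⊥ :=
  conclusion_of_simpleCase (simpleCase hcore) S hS hC

end Cfsg.Agent.SEAbelian
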