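import Cfsg.Agent.Lib.SEAbelian.Defs
import Cfsg.Agent.Lib.ZStar.CyclicIntersections.Basic
import Cfsg.Agent.Lib.Coprime.OmegaDetect
import Cfsg.Agent.Lib.Transfer.NormalPComplement

/-!
# Groups with abelian 2-subgroups: tools for the reduction to the core lemma

Normalizers of Sylow 2-subgroups, the action on the involutions, and the structure of solvable groups.
-/

set_option autoImplicit false
set_option linter.style.haveILetI false

namespace Cfsg.Agent.SEAbelian

open Subgroup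

universe u

variable {G H : Type u} [Group G] [Group H]

/-- All 2-subgroups are abelian. -/
def AbTwo (G : Type u) [Group G] : Prop :=
  ∀ P : Subgroup G, IsPGroup 2 P → ∀ a ∈ P, ∀ b ∈ P, Commute a b

theorem abTwo_of_sylow [Finite G] (S : Sylow 2 G) (hS : IsMulCommutative ↥(S : Subgroup G)) :
    AbTwo G := by
  haveI : Fact (Nat.Prime 2) := ⟨Nat.prime_two⟩
  intro P hP a ha b hb
  obtain ⟨T, hT⟩ := hP.exists_le_sylow
  let e := T.equiv S
  have h := hS.is_comm.comm (e ⟨a, hT ha⟩) (e ⟨b, hT hb⟩)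
  rw [← map_mul, ← map_mul] at h
  exact congrArg Subtype.val (e.injective h)

theorem AbTwo.subgroup (h : AbTwo G) (K : Subgroup G) : AbTwo K := by
  intro P hP a ha b hb
  exact Subtype.ext (h _ (hP.map K.subtype) _ (mem_map_of_mem _ ha) _ (mem_map_of_mem _ hb)).eq

theorem AbTwo.map [Finite G] (h : AbTwo G) {f : G →* H} (hf : Function.Surjective f) : AbTwo H := by
  intro P hP a ha b hb
  obtain ⟨D, hD, -, hmap⟩ :=
    ZStar.CyclicIntersections.exists_lift hf hP (D₀ := ⊥) IsPGroup.of_bot bot_le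
  rw [← hmap] at ha hb
  obtain ⟨x, hx, rfl⟩ := ha
  obtain ⟨y, hy, rfl⟩ := hb
  exact (h D hD x hx y hy).map f

variable [Finite G]

omit [Finite G] in
theorem isPGroup_zpowers {x : G} {k : ℕ} (hk : x ^ 2 ^ k = 1) : IsPGroup 2 ↥(zpowers x) := by
  intro b
  obtain ⟨i, hi⟩ := mem_zpowers_iff.1 b.2
  refine ⟨k, Subtype.ext ?_⟩
  rw [Subgroup.coe_pow, ← hi, ← zpow_natCast (x ^ i), zpow_comm, zpow_natCast, hk, one_zpow]
  rfl

omit [Finite G] in
/-- A 2-element normalizing a Sylow 2-subgroup lies in it. -/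
theorem mem_sylow_of_normalizer (S : Sylow 2 G) {x : G}
    (hx : x ∈ normalizer ((S : Subgroup G) : Set G)) {k : ℕ} (hk : x ^ 2 ^ k = 1) :
    x ∈ (S : Subgroup G) :=
  S.3 ((isPGroup_zpowers hk).to_sup_of_normal_right' S.2 (zpowers_le.2 hx)) le_sup_right ▸
    mem_sup_left (mem_zpowers x)

omit [Finite G] in
/-- A subgroup containing the odd and the 2-power part of an element contains the element. -/
theorem mem_of_parts {K : Subgroup G} {x : G} {j m : ℕ} (hm : Odd m) (h1 : x ^ 2 ^ j ∈ K)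
    (h2 : x ^ m ∈ K) : x ∈ K := by
  have hab := Nat.gcd_eq_gcd_ab (2 ^ j) m
  rw [(Nat.coprime_two_left.2 hm).pow_left j] at hab
  have hx : x = x ^ ((1 : ℕ) : ℤ) := by simp
  rw [hab, zpow_add, zpow_mul, zpow_mul, zpow_natCast, zpow_natCast] at hx
  rw [hx]
  exact mul_mem (zpow_mem h1 _) (zpow_mem h2 _)

/-- The order of an element, split. -/
theorem exists_parts (x : G) : ∃ j m : ℕ, Odd m ∧ x ^ (2 ^ j * m) = 1 := by
  obtain ⟨j, m, hm, he⟩ := Nat.exists_eq_pow_mul_and_not_dvd (orderOf_pos x).ne' 2 (by norm_num)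
  exact ⟨j, m, Nat.odd_iff.2 (Nat.two_dvd_ne_zero.1 hm), he ▸ pow_orderOf_eq_one x⟩

omit [Finite G] in
theorem odd_orderOf_of_pow {x : G} {m : ℕ} (hm : Odd m) (h : x ^ m = 1) : Odd (orderOf x) :=
  hm.of_dvd_nat (orderOf_dvd_of_pow_eq_one h)

/-- The normalizer of an abelian Sylow subgroup centralizes it when its odd elements do. -/
theorem normalizer_le_centralizer_of_odd (h : AbTwo G) (S : Sylow 2 G)
    (hy : ∀ y ∈ normalizer ((S : Subgroup G) : Set G), Odd (orderOf y) →
      ∀ s ∈ (S : Subgroup G), Commute y s) :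
    normalizer ((S : Subgroup G) : Set G) ≤ centralizer ((S : Subgroup G) : Set G) := by
  intro x hx
  obtain ⟨j, m, hm, hxe⟩ := exists_parts x
  refine mem_of_parts (j := j) hm (mem_centralizer_iff.2 fun s hs => ?_) (mem_centralizer_iff.2 fun s hs => ?_)
  · exact (hy _ (pow_mem hx _) (odd_orderOf_of_pow hm (by rw [← pow_mul, hxe])) s hs).symm.eq
  · refine h _ S.2 s hs _ (mem_sylow_of_normalizer S (pow_mem hx _) (k := j) ?_)
    rw [← pow_mul, mul_comm, hxe]

/-- In a nonabelian simple group an element of odd order acts nontrivially on the Sylow subgroup. -/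
theorem exists_acting [IsSimpleGroup G] (hnc : ¬ IsMulCommutative G) (h : AbTwo G) (S : Sylow 2 G) :
    ∃ y ∈ normalizer ((S : Subgroup G) : Set G), Odd (orderOf y) ∧
      ∃ s ∈ (S : Subgroup G), ¬ Commute y s := by
  haveI : Fact (Nat.Prime 2) := ⟨Nat.prime_two⟩
  by_contra hcon
  push Not at hcon
  obtain ⟨P, N, hNn, hN⟩ :=
    Transfer.NormalPComplement.hasNormalPComplement_of_normalizer_le_centralizer S
      (normalizer_le_centralizer_of_odd h S hcon)
  have hab : IsMulCommutative ↥(⊤ : Subgroup G) → False := fun h1 => hnc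
    ⟨⟨fun a b => congrArg Subtype.val (h1.is_comm.comm ⟨a, mem_top a⟩ ⟨b, mem_top b⟩)⟩⟩
  rcases IsSimpleGroup.eq_bot_or_eq_top_of_normal N hNn with h0 | h0
  · rw [h0, Subgroup.isComplement'_bot_left] at hN
    exact hab ⟨⟨fun a b => Subtype.ext
      (h P P.2 a (by rw [hN]; exact a.2) b (by rw [hN]; exact b.2)).eq⟩⟩
  · rw [h0, Subgroup.isComplement'_top_left] at hN
    haveI := S0205.result (G := G) (by
      rw [Nat.odd_iff, ← Nat.two_dvd_ne_zero]
      intro hd
      exact P.ne_bot_of_dvd_card hd hN)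
    exact hnc ⟨⟨IsSimpleGroup.comm_iff_isSolvable.2 inferInstance⟩⟩

omit [Finite G] in
/-- An element of odd order centralizing the involutions of an abelian 2-subgroup it normalizes
centralizes it. -/
theorem commute_of_omega {P : Subgroup G} (hP : IsPGroup 2 P)
    (hab : ∀ a ∈ P, ∀ b ∈ P, Commute a b) {y : G} (hy : y ∈ normalizer (P : Set G))
    (ho : Odd (orderOf y)) (hfix : ∀ x ∈ P, x * x = 1 → Commute y x) :
    ∀ x ∈ P, Commute y x := by
  haveI : Fact (Nat.Prime 2) := ⟨Nat.prime_two⟩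
  have hcop : (orderOf y).Coprime 2 := Nat.coprime_two_right.2 ho
  suffices key : ∀ k, ∀ x ∈ P, x ^ 2 ^ k = 1 → Commute y x by
    intro x hx
    obtain ⟨k, hk⟩ := hP ⟨x, hx⟩
    exact key k x hx (congrArg Subtype.val hk)
  intro k
  induction k with
  | zero =>
    intro x _ hx
    rw [pow_zero, pow_one] at hx
    rw [hx]
    exact Commute.one_right y
  | succ k ih =>
    intro x hx hxk
    have h1 := ih (x ^ 2) (pow_mem hx 2) (by rw [← pow_mul, ← pow_succ', hxk])
    have hyx : y * x * y⁻¹ ∈ P := (mem_normalizer_iff.1 hy x).1 hx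
    have hd : y * x * y⁻¹ * x⁻¹ * (y * x * y⁻¹ * x⁻¹) = 1 := by
      rw [← pow_two, (hab _ hyx _ (inv_mem hx)).mul_pow, conj_pow, h1.eq, mul_inv_cancel_right,
        inv_pow, mul_inv_cancel]
    have hdP : y * x * y⁻¹ * x⁻¹ ∈ P := mul_mem hyx (inv_mem hx)
    exact Coprime.OmegaDetect.eq_one_of_fix (hfix _ hdP hd)
      (Coprime.OmegaDetect.coprime_of_mem hP hcop hdP)

section Solvable

variable [hsol : Group.IsSolvable G]

include hsol

/-- A solvable group without odd core has a normal self-centralizing Sylow 2-subgroup. -/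
theorem sylow_le_pCore (h : AbTwo G) (h0 : Cfsg.oddCore G = ⊥) (S : Sylow 2 G) :
    (S : Subgroup G) ≤ Cfsg.pCore 2 G ∧
      centralizer ((S : Subgroup G) : Set G) ≤ (S : Subgroup G) := by
  haveI := Fact.mk Nat.prime_two
  have hF : Cfsg.fittingSubgroup G ≤ Cfsg.pCore 2 G := by
    rw [Agent.Cores.fittingSubgroup_eq_iSup]
    refine iSup_le fun p => ?_
    rcases eq_or_ne (p : ℕ) 2 with h2 | h2
    · rw [h2]
    · haveI : Fact (p : ℕ).Prime := ⟨Nat.prime_of_mem_primeFactors p.2⟩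
      obtain ⟨k, hk⟩ := IsPGroup.iff_card.mp (Agent.Cores.pCore_isPGroup (G := G) p)
      have hodd : Odd (Nat.card (Cfsg.pCore (p : ℕ) G)) := by
        rw [hk]
        exact ((Nat.prime_of_mem_primeFactors p.2).odd_of_ne_two h2).pow
      exact (Agent.Cores.le_oddCore hodd).trans (h0 ▸ bot_le)
  have hcore : Cfsg.pCore 2 G ≤ (S : Subgroup G) := Agent.Cores.pCore_le_sylow S
  have hc : centralizer ((S : Subgroup G) : Set G) ≤ Cfsg.pCore 2 G := fun x hx =>
    hF (Agent.Cores.centralizer_fittingSubgroup_le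
      (centralizer_le (hF.trans hcore) hx))
  refine ⟨fun x hx => hc (mem_centralizer_iff.2 fun s hs => ?_), hc.trans hcore⟩
  exact h _ S.2 s hs x hx

/-- A subgroup of odd order normalized by a Sylow 2-subgroup lies in the odd core. -/
theorem le_oddCore_of_normalized (h : AbTwo G) (S : Sylow 2 G) {D : Subgroup G}
    (hD : Odd (Nat.card D)) (hn : (S : Subgroup G) ≤ normalizer (D : Set G)) :
    D ≤ Cfsg.oddCore G := by
  haveI := Fact.mk Nat.prime_two
  have hf := QuotientGroup.mk'_surjective (Cfsg.oddCore G)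
  set f := QuotientGroup.mk' (Cfsg.oddCore G) with hfdef
  have hS := sylow_le_pCore (h.map hf) (Agent.Cores.pPrimeCore_quotient_self 2) (S.mapSurjective hf)
  have hpn : (Cfsg.pCore 2 (G ⧸ Cfsg.oddCore G)).Normal := inferInstance
  have heq : ((S.mapSurjective hf : Sylow 2 _) : Subgroup _) = Cfsg.pCore 2 (G ⧸ Cfsg.oddCore G) :=
    le_antisymm hS.1 (Agent.Cores.pCore_le_sylow _)
  intro d hd
  have hone : ∀ z : G ⧸ Cfsg.oddCore G, z ∈ D.map f →
      z ∈ ((S.mapSurjective hf : Sylow 2 _) : Subgroup _) → z = 1 := by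
    intro z hz hz'
    have h1 : orderOf z ∣ Nat.card D :=
      (Subgroup.orderOf_dvd_natCard _ hz).trans (Subgroup.card_map_dvd _ _)
    obtain ⟨k, hk⟩ := IsPGroup.iff_orderOf.1 (S.mapSurjective hf).2 ⟨z, hz'⟩
    rw [Subgroup.orderOf_mk] at hk
    rw [hk] at h1
    rcases Nat.eq_zero_or_pos k with rfl | hk0
    · exact orderOf_eq_one_iff.1 (by simpa using hk)
    · exact absurd (dvd_trans (dvd_pow_self 2 hk0.ne') h1)
        (Nat.two_dvd_ne_zero.2 (Nat.odd_iff.1 hD))
  refine (QuotientGroup.eq_one_iff d).1 (hone (f d) (mem_map_of_mem _ hd) (hS.2 ?_))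
  refine mem_centralizer_iff.2 fun s hs => ?_
  obtain ⟨s₀, hs₀, rfl⟩ : ∃ s₀ ∈ (S : Subgroup G), f s₀ = s := by
    rw [SetLike.mem_coe, Sylow.coe_mapSurjective] at hs
    exact hs
  have hz1 : f (d * (s₀ * d⁻¹ * s₀⁻¹)) ∈ D.map f :=
    mem_map_of_mem _ (mul_mem hd ((mem_normalizer_iff.1 (hn hs₀) _).1 (inv_mem hd)))
  have hz2 : f (d * (s₀ * d⁻¹ * s₀⁻¹)) ∈ ((S.mapSurjective hf : Sylow 2 _) : Subgroup _) := by
    rw [show d * (s₀ * d⁻¹ * s₀⁻¹) = (d * s₀ * d⁻¹) * s₀⁻¹ by group, map_mul]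
    refine mul_mem ?_ (by rw [map_inv]; exact inv_mem hs)
    rw [map_mul, map_mul, map_inv]
    rw [heq] at hs ⊢
    exact hpn.conj_mem _ hs _
  have h1 := hone _ hz1 hz2
  rw [show d * (s₀ * d⁻¹ * s₀⁻¹) = (d * s₀) * (s₀ * d)⁻¹ by group, map_mul, map_inv,
    mul_inv_eq_one, map_mul, map_mul] at h1
  exact h1.symm

/-- A solvable group is its odd core times the normalizer of a Sylow 2-subgroup. -/
theorem exists_core_mul_normalizer (h : AbTwo G) (S : Sylow 2 G) (g : G) :
    ∃ w ∈ Cfsg.oddCore G, ∃ n ∈ normalizer ((S : Subgroup G) : Set G), w * n = g := by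
  haveI := Fact.mk Nat.prime_two
  have hf := QuotientGroup.mk'_surjective (Cfsg.oddCore G)
  have hS := sylow_le_pCore (h.map hf) (Agent.Cores.pPrimeCore_quotient_self 2) (S.mapSurjective hf)
  set N := (Cfsg.pCore 2 (G ⧸ Cfsg.oddCore G)).comap (QuotientGroup.mk' (Cfsg.oddCore G)) with hN
  have hSN : (S : Subgroup G) ≤ N := fun x hx =>
    hS.1 (by rw [Sylow.coe_mapSurjective]; exact mem_map_of_mem _ hx)
  have htop := Sylow.normalizer_sup_eq_top (S.subtype hSN)
  rw [Sylow.coe_subtype, Subgroup.subgroupOf_map_subtype, inf_eq_left.2 hSN] at htop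
  have hsplit : N ≤ Cfsg.oddCore G ⊔ (S : Subgroup G) := by
    intro x hx
    have hx' : QuotientGroup.mk' (Cfsg.oddCore G) x ∈
        ((S.mapSurjective hf : Sylow 2 _) : Subgroup _) :=
      Agent.Cores.pCore_le_sylow _ hx
    rw [Sylow.coe_mapSurjective] at hx'
    obtain ⟨s, hs, hse⟩ := hx'
    have : x * s⁻¹ ∈ Cfsg.oddCore G := (QuotientGroup.eq_one_iff _).1 (by
      show QuotientGroup.mk' (Cfsg.oddCore G) (x * s⁻¹) = 1
      rw [map_mul, map_inv, hse, mul_inv_cancel])
    rw [show x = (x * s⁻¹) * s by group]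
    exact mul_mem (mem_sup_left this) (mem_sup_right hs)
  have hg : g ∈ Cfsg.oddCore G ⊔ normalizer ((S : Subgroup G) : Set G) := by
    have : g ∈ normalizer ((S : Subgroup G) : Set G) ⊔ N := htop ▸ mem_top g
    revert this
    exact fun h' => (sup_le le_sup_right (hsplit.trans (sup_le_sup_left le_normalizer _))) h'
  exact Subgroup.mem_sup_of_normal_left.1 hg

end Solvable

end Cfsg.Agent.SEAbelian
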