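import Cfsg.Agent.Lib.Hall.NumbersSevenLocal
import Cfsg.Agent.Lib.PLocal.BlockBasic
import Cfsg.Agent.Lib.SETwoClosed.Sylow

/-!
# The core lemma: `Z(J(T))` inside a solvable subgroup
-/

set_option autoImplicit false
set_option linter.unusedSectionVars false

namespace Cfsg.Agent.SEAbelian

open Subgroup
open Cfsg.Agent.SETwoClosed (IsSyl)

universe u

variable {G : Type u} [Group G] [Finite G] {p : ℕ} [hp : Fact p.Prime]

/-- `Z(J(T))` lies in `T`. -/
theorem zj_le (T : Subgroup G) : Cfsg.centerThompsonOf p T ≤ T :=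
  inf_le_left.trans (PLocal.ThompsonComplement.J_le T)

/-- `Z(J(T))` is not trivial for a nontrivial `p`-group. -/
theorem zj_ne_bot {T : Subgroup G} (hT : IsPGroup p ↥T) (hne : T ≠ ⊥) :
    Cfsg.centerThompsonOf p T ≠ ⊥ :=
  PLocal.ThompsonComplement.Z_ne_bot (hT.to_le (PLocal.ThompsonComplement.J_le T))
    (PLocal.ThompsonComplement.J_ne_bot hT hne)

/-- The normalizer of `T` normalizes `Z(J(T))`. -/
theorem normalizer_le_zj (T : Subgroup G) :
    normalizer (T : Set G) ≤ normalizer (Cfsg.centerThompsonOf p T : Set G) :=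
  (PLocal.ThompsonComplement.normalizer_le_J T).trans
    (PLocal.ThompsonComplement.normalizer_le_Z _)

/-- A solvable subgroup with abelian Sylow 2-subgroups is its `p'`-core times the normalizer of `Z(J(T))`. -/
theorem zj_cover (hab : PLocal.Quadratic.AbelianTwo G) (hp2 : p ≠ 2) {L T : Subgroup G}
    (hsol : Group.IsSolvable ↥L) (hT : IsSyl p T L) {g : G} (hg : g ∈ L) :
    ∃ o ∈ (Cfsg.pPrimeCore p ↥L).map L.subtype,
      ∃ m ∈ L ⊓ normalizer (Cfsg.centerThompsonOf p T : Set G), o * m = g := by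
  obtain ⟨T0, rfl⟩ := hT.exists_sylow
  haveI : (Cfsg.pPrimeCore p ↥L).Normal := PLocal.Cores.pPrimeCore_normal'
  have htop := Hall.Numbers.Seven.zj_frattini (p := p) hsol hp2 (hab.subgroup L) T0
  have hmem : (⟨g, hg⟩ : ↥L) ∈ Cfsg.pPrimeCore p ↥L ⊔
      normalizer (Cfsg.centerThompsonOf p (T0 : Subgroup ↥L) : Set ↥L) := htop ▸ mem_top _
  obtain ⟨o, ho, m, hm, hom⟩ := mem_sup_of_normal_left.1 hmem
  refine ⟨o, ⟨o, ho, rfl⟩, m, mem_inf.2 ⟨m.2, ?_⟩, congrArg Subtype.val hom⟩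
  have hmap : (Cfsg.centerThompsonOf p (T0 : Subgroup ↥L)).map L.subtype =
      Cfsg.centerThompsonOf p ((T0 : Subgroup ↥L).map L.subtype) := by
    show (PLocal.ThompsonComplement.Z _).map _ = PLocal.ThompsonComplement.Z _
    rw [PLocal.ThompsonComplement.map_Z L.subtype_injective.injOn,
      PLocal.ThompsonComplement.map_J L.subtype_injective.injOn]
  rw [← hmap]
  refine Subgroup.mem_normalizer_fintype fun x hx => ?_
  obtain ⟨y, hy, rfl⟩ := hx
  exact ⟨_, (mem_normalizer_iff.1 hm y).1 hy, rfl⟩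

end Cfsg.Agent.SEAbelian
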