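import Cfsg.Agent.Lib.SEAbelian.ReduceTools
import Cfsg.Agent.Lib.Involutions.StronglyEmbedded
import Cfsg.Agent.S0217

/-!
# Abelian Sylow 2-subgroups of rank at least three: the odd signalizer

The odd cores of the centralizers of the involutions of a Sylow 2-subgroup `S` generate an odd group
`W`; with the normalizer of `S` it gives a strongly embedded subgroup satisfying the hypothesis of the
core lemma.
-/

set_option autoImplicit false
set_option linter.style.haveILetI false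
set_option linter.unusedSectionVars false

namespace Cfsg.Agent.SEAbelian

open Subgroup
open Cfsg.Agent.Involutions

universe u

variable {G : Type u} [Group G]

/-- The involutions of an abelian 2-subgroup and `1`. -/
def omegaOf (h : AbTwo G) (S : Sylow 2 G) : Subgroup G where
  carrier := {x | x ∈ (S : Subgroup G) ∧ x * x = 1}
  one_mem' := ⟨one_mem _, one_mul 1⟩
  mul_mem' {a b} ha hb := ⟨mul_mem ha.1 hb.1, by
    rw [show a * b * (a * b) = a * (b * a) * b by group, ← (h _ S.2 a ha.1 b hb.1).eq,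
      show a * (a * b) * b = (a * a) * (b * b) by group, ha.2, hb.2, one_mul]⟩
  inv_mem' {a} ha := ⟨inv_mem ha.1, by rw [← mul_inv_rev, ha.2, inv_one]⟩

theorem mem_omegaOf {h : AbTwo G} {S : Sylow 2 G} {x : G} :
    x ∈ omegaOf h S ↔ x ∈ (S : Subgroup G) ∧ x * x = 1 := Iff.rfl

/-- The product of a subgroup with a subgroup normalizing it. -/
def prodN (W N : Subgroup G) (hN : N ≤ normalizer (W : Set G)) : Subgroup G where
  carrier := {g | ∃ w ∈ W, ∃ n ∈ N, w * n = g}
  one_mem' := ⟨1, one_mem _, 1, one_mem _, one_mul 1⟩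
  mul_mem' := by
    rintro _ _ ⟨w, hw, n, hn, rfl⟩ ⟨w', hw', n', hn', rfl⟩
    exact ⟨w * (n * w' * n⁻¹), mul_mem hw ((mem_normalizer_iff.1 (hN hn) w').1 hw'), n * n',
      mul_mem hn hn', by group⟩
  inv_mem' := by
    rintro _ ⟨w, hw, n, hn, rfl⟩
    exact ⟨n⁻¹ * w⁻¹ * n, (mem_normalizer_iff'.1 (hN hn) _).2 (by simpa [mul_assoc] using inv_mem hw),
      n⁻¹, inv_mem hn, by group⟩

variable {W N : Subgroup G} {hN : N ≤ normalizer (W : Set G)}

theorem mem_prodN {g : G} : g ∈ prodN W N hN ↔ ∃ w ∈ W, ∃ n ∈ N, w * n = g := Iff.rfl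

theorem le_prodN_left : W ≤ prodN W N hN := fun w hw => ⟨w, hw, 1, one_mem _, mul_one w⟩

theorem le_prodN_right : N ≤ prodN W N hN := fun n hn => ⟨1, one_mem _, n, hn, one_mul n⟩

theorem prodN_le_normalizer : prodN W N hN ≤ normalizer (W : Set G) := by
  rintro _ ⟨w, hw, n, hn, rfl⟩
  exact mul_mem (le_normalizer hw) (hN hn)

/-- Powers of `w * n` and of `n` agree modulo `W`. -/
theorem pow_mul_mem {n w : G} (hn : n ∈ normalizer (W : Set G)) (hw : w ∈ W) (j : ℕ) :
    (w * n) ^ j * (n ^ j)⁻¹ ∈ W := by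
  induction j with
  | zero => simp
  | succ j ih =>
    have h1 := mul_mem hw ((mem_normalizer_iff.1 hn _).1 ih)
    convert h1 using 1
    rw [pow_succ' (w * n), pow_succ' n]
    group

theorem pow_mem_iff_right {n w : G} (hn : n ∈ normalizer (W : Set G)) (hw : w ∈ W) (j : ℕ) :
    (w * n) ^ j ∈ W ↔ n ^ j ∈ W := by
  have h1 := pow_mul_mem hn hw j
  constructor
  · intro h
    have := mul_mem (inv_mem h1) h
    simpa [mul_assoc] using this
  · intro h
    have := mul_mem h1 h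
    simpa [mul_assoc] using this

variable [Finite G]

/-- An element of odd order with a 2-power power in a subgroup lies in it. -/
theorem mem_of_pow_two {K : Subgroup G} {x : G} (ho : Odd (orderOf x)) {k : ℕ}
    (hk : x ^ 2 ^ k ∈ K) : x ∈ K := by
  obtain ⟨m, hm⟩ := exists_pow_eq_self_of_coprime
    ((Nat.coprime_two_left.2 ho).pow_left k : Nat.Coprime (2 ^ k) (orderOf x))
  exact hm ▸ pow_mem hk m

/-- The odd core of a centralizer. -/
def theta (a : G) : Subgroup G :=
  (Cfsg.oddCore ↥(centralizer ({a} : Set G))).map (centralizer ({a} : Set G)).subtype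

theorem theta_le (a : G) : theta a ≤ centralizer ({a} : Set G) := map_subtype_le _

theorem odd_theta (a : G) : Odd (Nat.card ↥(theta a)) :=
  Agent.Cores.oddCore_odd.of_dvd_nat (Subgroup.card_map_dvd _ _)

theorem theta_conj {a g x : G} (hg : g ∈ centralizer ({a} : Set G)) (hx : x ∈ theta a) :
    g * x * g⁻¹ ∈ theta a := by
  obtain ⟨y, hy, rfl⟩ := hx
  exact ⟨⟨g, hg⟩ * y * ⟨g, hg⟩⁻¹,
    (inferInstance : (Cfsg.oddCore ↥(centralizer ({a} : Set G))).Normal).conj_mem _ hy _, rfl⟩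

theorem sylow_le_centralizer (h : AbTwo G) (S : Sylow 2 G) {a : G} (ha : a ∈ (S : Subgroup G)) :
    (S : Subgroup G) ≤ centralizer ({a} : Set G) := fun s hs =>
  mem_centralizer_singleton_iff.2 (h _ S.2 s hs a ha).eq

variable (h : AbTwo G) (S : Sylow 2 G)

include h in
theorem le_theta {a : G} (ha : a ∈ (S : Subgroup G))
    (hC : Group.IsSolvable ↥(centralizer ({a} : Set G))) {D : Subgroup G}
    (hD : Odd (Nat.card D)) (hle : D ≤ centralizer ({a} : Set G))
    (hn : ∀ s ∈ (S : Subgroup G), ∀ d ∈ D, s * d * s⁻¹ ∈ D) : D ≤ theta a := by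
  haveI := hC
  set C := centralizer ({a} : Set G)
  have h1 := le_oddCore_of_normalized (h.subgroup C)
    (S.subtype (sylow_le_centralizer h S ha)) (D := D.subgroupOf C)
    (by rwa [Nat.card_congr (Subgroup.subgroupOfEquivOfLe hle).toEquiv]) (by
      intro s hs
      rw [Sylow.coe_subtype, mem_subgroupOf] at hs
      refine mem_normalizer_iff.2 fun x => ?_
      simp only [mem_subgroupOf, Subgroup.coe_mul, Subgroup.coe_inv]
      refine ⟨hn _ hs _, fun hx => ?_⟩
      have := hn _ (inv_mem hs) _ hx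
      simpa [mul_assoc] using this)
  intro d hd
  exact ⟨⟨d, hle hd⟩, h1 (show (⟨d, hle hd⟩ : C) ∈ D.subgroupOf C from hd), rfl⟩

include h in
theorem exists_theta_mul {a g : G} (ha : a ∈ (S : Subgroup G))
    (hC : Group.IsSolvable ↥(centralizer ({a} : Set G))) (hg : g ∈ centralizer ({a} : Set G)) :
    ∃ w ∈ theta a, ∃ n ∈ normalizer ((S : Subgroup G) : Set G), w * n = g := by
  haveI := hC
  have hle := sylow_le_centralizer h S ha
  obtain ⟨w, hw, n, hn, he⟩ := exists_core_mul_normalizer (h.subgroup _) (S.subtype hle) ⟨g, hg⟩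
  refine ⟨w, mem_map_of_mem _ hw, n, mem_normalizer_iff.2 fun s => ?_, congrArg Subtype.val he⟩
  constructor
  · intro hs
    exact (mem_normalizer_iff.1 hn ⟨s, hle hs⟩).1 (show (⟨s, hle hs⟩ : ↥(centralizer ({a} : Set G))) ∈
      (S : Subgroup G).subgroupOf _ from hs)
  · intro hs
    have := (mem_normalizer_iff.1 (inv_mem hn) ⟨_, hle hs⟩).1 (show (⟨_, hle hs⟩ :
      ↥(centralizer ({a} : Set G))) ∈ (S : Subgroup G).subgroupOf _ from hs)
    simpa [mem_subgroupOf, mul_assoc] using this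

/-- The group generated by the odd cores of the centralizers of the involutions of `S`. -/
def sigW : Subgroup G := ⨆ a : {a : G // a ∈ omegaOf h S ∧ a ≠ 1}, theta (a : G)

theorem theta_le_sigW {a : G} (ha : a ∈ omegaOf h S) (ha1 : a ≠ 1) : theta a ≤ sigW h S :=
  le_iSup (fun b : {b : G // b ∈ omegaOf h S ∧ b ≠ 1} => theta (b : G)) ⟨a, ha, ha1⟩

variable (hC : ∀ t : G, orderOf t = 2 → Group.IsSolvable ↥(centralizer ({t} : Set G)))

include hC in
omit [Finite G] in
theorem solvable_cent {a : G} (ha : a ∈ omegaOf h S) (ha1 : a ≠ 1) :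
    Group.IsSolvable ↥(centralizer ({a} : Set G)) :=
  hC a (Basic.orderOf_two_iff.2 ⟨ha.2, ha1⟩)

include hC

theorem odd_sigW (h8 : 8 ≤ Nat.card ↥(omegaOf h S)) : Odd (Nat.card ↥(sigW h S)) := by
  haveI : Fact (Nat.Prime 2) := ⟨Nat.prime_two⟩
  have hodd : ∀ {n : ℕ}, Odd n → ¬ 2 ∣ n := fun hn => Nat.two_dvd_ne_zero.2 (Nat.odd_iff.1 hn)
  refine Nat.odd_iff.2 (Nat.two_dvd_ne_zero.1 (S0217.result (omegaOf h S)
    (fun a ha b hb => (h _ S.2 a ha.1 b hb.1).eq) (fun a ha => by rw [pow_two]; exact ha.2) h8 theta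
    (fun a _ _ => theta_le a) (fun a _ _ => hodd (odd_theta a)) (fun a ha _ b hb x hx => ?_)
    (fun a _ _ => S0205.result (odd_theta a)) (fun a ha ha1 b hb hb1 => ?_)).1)
  · exact theta_conj (sylow_le_centralizer h S ha.1 hb.1) hx
  · refine le_theta h S hb.1 (solvable_cent h S hC hb hb1)
      ((odd_theta a).of_dvd_nat (Subgroup.card_dvd_of_le inf_le_left)) inf_le_right fun s hs d hd => ?_
    refine ⟨theta_conj (sylow_le_centralizer h S ha.1 hs) hd.1, ?_⟩
    exact (centralizer ({b} : Set G)).mul_mem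
      ((centralizer ({b} : Set G)).mul_mem (sylow_le_centralizer h S hb.1 hs) hd.2)
      ((centralizer ({b} : Set G)).inv_mem (sylow_le_centralizer h S hb.1 hs))

theorem theta_normalizer {a n x : G} (ha : a ∈ omegaOf h S) (ha1 : a ≠ 1)
    (hn : n ∈ normalizer ((S : Subgroup G) : Set G)) (hx : x ∈ theta a) :
    n * x * n⁻¹ ∈ sigW h S := by
  have hb : n * a * n⁻¹ ∈ omegaOf h S := ⟨(mem_normalizer_iff.1 hn a).1 ha.1, by
    rw [show n * a * n⁻¹ * (n * a * n⁻¹) = n * (a * a) * n⁻¹ by group, ha.2, mul_one, mul_inv_cancel]⟩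
  have hb1 : n * a * n⁻¹ ≠ 1 := fun e => ha1 (conj_eq_one_iff.1 e)
  refine theta_le_sigW h S hb hb1 (le_theta h S hb.1 (solvable_cent h S hC hb hb1)
    ((odd_theta a).of_dvd_nat (Subgroup.card_map_dvd _ _)) ?_ ?_
    (show n * x * n⁻¹ ∈ (theta a).map (MulAut.conj n).toMonoidHom from ⟨x, hx, rfl⟩))
  · rintro _ ⟨y, hy, rfl⟩
    have := mem_centralizer_singleton_iff.1 (theta_le a hy)
    refine mem_centralizer_singleton_iff.2 ?_
    show n * y * n⁻¹ * (n * a * n⁻¹) = n * a * n⁻¹ * (n * y * n⁻¹)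
    calc n * y * n⁻¹ * (n * a * n⁻¹) = n * (y * a) * n⁻¹ := by group
      _ = n * (a * y) * n⁻¹ := by rw [this]
      _ = _ := by group
  · rintro s hs _ ⟨y, hy, rfl⟩
    refine ⟨n⁻¹ * s * n * y * (n⁻¹ * s * n)⁻¹, theta_conj (sylow_le_centralizer h S ha.1
      ((mem_normalizer_iff'.1 hn _).2 (by simpa [mul_assoc] using hs))) hy, ?_⟩
    show n * (n⁻¹ * s * n * y * (n⁻¹ * s * n)⁻¹) * n⁻¹ = s * (n * y * n⁻¹) * s⁻¹
    group

theorem normalizer_le_sigW :
    normalizer ((S : Subgroup G) : Set G) ≤ normalizer (sigW h S : Set G) := by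
  have key : ∀ n ∈ normalizer ((S : Subgroup G) : Set G), ∀ x ∈ sigW h S,
      n * x * n⁻¹ ∈ sigW h S := by
    intro n hn x hx
    have hle : sigW h S ≤ (sigW h S).comap (MulAut.conj n).toMonoidHom :=
      iSup_le fun a y hy => theta_normalizer h S hC a.2.1 a.2.2 hn hy
    exact hle hx
  intro n hn
  refine mem_normalizer_iff.2 fun x => ⟨key n hn x, fun hx => ?_⟩
  have := key n⁻¹ (inv_mem hn) _ hx
  simpa [mul_assoc] using this

/-- The strongly embedded subgroup. -/
def sigM : Subgroup G :=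
  prodN (sigW h S) (normalizer ((S : Subgroup G) : Set G)) (normalizer_le_sigW h S hC)

theorem centralizer_le_sigM {a : G} (ha : a ∈ omegaOf h S) (ha1 : a ≠ 1) :
    centralizer ({a} : Set G) ≤ sigM h S hC := by
  intro g hg
  obtain ⟨w, hw, n, hn, he⟩ := exists_theta_mul h S ha.1 (solvable_cent h S hC ha ha1) hg
  exact ⟨w, theta_le_sigW h S ha ha1 hw, n, hn, he⟩

theorem sylow_le_sigM : (S : Subgroup G) ≤ sigM h S hC :=
  le_normalizer.trans le_prodN_right

theorem sigM_ne_top [IsSimpleGroup G] (hnc : ¬ IsMulCommutative G)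
    (h8 : 8 ≤ Nat.card ↥(omegaOf h S)) : sigM h S hC ≠ ⊤ := by
  intro htop
  have hWn : (sigW h S).Normal := normalizer_eq_top_iff.1
    (top_unique (htop ▸ (prodN_le_normalizer : sigM h S hC ≤ normalizer (sigW h S : Set G))))
  have heven : 2 ∣ Nat.card G := by
    by_contra hcon
    haveI := S0205.result (G := G) (Nat.odd_iff.2 (Nat.two_dvd_ne_zero.1 hcon))
    exact hnc ⟨⟨IsSimpleGroup.comm_iff_isSolvable.2 inferInstance⟩⟩
  rcases IsSimpleGroup.eq_bot_or_eq_top_of_normal _ hWn with h0 | h0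
  · have hNtop : normalizer ((S : Subgroup G) : Set G) = ⊤ := top_unique fun g _ => by
      obtain ⟨w, hw, n, hn, rfl⟩ := htop ▸ mem_top g
      rw [h0, mem_bot] at hw
      rw [hw, one_mul]
      exact hn
    rcases IsSimpleGroup.eq_bot_or_eq_top_of_normal _ (normalizer_eq_top_iff.1 hNtop) with h1 | h1
    · haveI : Fact (Nat.Prime 2) := ⟨Nat.prime_two⟩
      exact S.ne_bot_of_dvd_card heven h1
    · exact hnc ⟨⟨fun x y => (h _ S.2 x (h1 ▸ mem_top x) y (h1 ▸ mem_top y)).eq⟩⟩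
  · have h1 := odd_sigW h S hC h8
    rw [h0, Subgroup.card_top, Nat.odd_iff, ← Nat.two_dvd_ne_zero] at h1
    exact h1 heven

omit hC in
theorem exists_two_omega (h8 : 8 ≤ Nat.card ↥(omegaOf h S)) :
    ∃ a ∈ omegaOf h S, ∃ b ∈ omegaOf h S, orderOf a = 2 ∧ orderOf b = 2 ∧ a ≠ b := by
  obtain ⟨a, ha, ha1⟩ : ∃ a ∈ omegaOf h S, a ≠ 1 := by
    by_contra hcon
    push Not at hcon
    have : omegaOf h S = ⊥ := (eq_bot_iff_forall _).2 hcon
    rw [this, Subgroup.card_bot] at h8
    omega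
  obtain ⟨b, hb, hb'⟩ : ∃ b ∈ omegaOf h S, b ∉ zpowers a := by
    by_contra hcon
    push Not at hcon
    have := Subgroup.card_le_of_le (show omegaOf h S ≤ zpowers a from hcon)
    rw [Nat.card_zpowers, Basic.orderOf_two_iff.2 ⟨ha.2, ha1⟩] at this
    omega
  exact ⟨a, ha, b, hb, Basic.orderOf_two_iff.2 ⟨ha.2, ha1⟩, Basic.orderOf_two_iff.2 ⟨hb.2,
    fun e => hb' (e ▸ one_mem _)⟩, fun e => hb' (e ▸ mem_zpowers a)⟩

/-- The hypothesis of the core lemma. -/
theorem hyp_sig [IsSimpleGroup G] (hnc : ¬ IsMulCommutative G)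
    (h8 : 8 ≤ Nat.card ↥(omegaOf h S)) : Hyp (sigM h S hC) (sigW h S) := by
  haveI : Fact (Nat.Prime 2) := ⟨Nat.prime_two⟩
  set M := sigM h S hC
  set W := sigW h S
  have hWodd : Odd (Nat.card W) := odd_sigW h S hC h8
  have hSM : (S : Subgroup G) ≤ M := sylow_le_sigM h S hC
  have hNW := normalizer_le_sigW h S hC
  obtain ⟨a, ha, b, hb, ha2, hb2, hab⟩ := exists_two_omega h S h8
  have heven : Even (Nat.card M) := by
    rw [even_iff_two_dvd, ← ha2]
    exact orderOf_coe (⟨a, hSM ha.1⟩ : M) ▸ orderOf_dvd_natCard _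
  have hinto : ∀ x ∈ M, orderOf x = 2 → ∃ m ∈ M, m * x * m⁻¹ ∈ (S : Subgroup G) := by
    intro x hx hx2
    have hp : IsPGroup 2 ↥(zpowers (⟨x, hx⟩ : M)) := isPGroup_zpowers (k := 1) (Subtype.ext (by
      rw [Subgroup.coe_pow, pow_one, pow_two, Subgroup.coe_one]
      exact Basic.inv_sq_one hx2))
    obtain ⟨T, hT⟩ := hp.exists_le_sylow
    obtain ⟨m, hm⟩ := MulAction.exists_smul_eq M T (S.subtype hSM)
    refine ⟨m, m.2, ?_⟩
    have h1 : m * ⟨x, hx⟩ * m⁻¹ ∈ ((m • T : Sylow 2 M) : Subgroup M) := by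
      rw [Sylow.coe_subgroup_smul]
      exact ⟨_, hT (mem_zpowers _), rfl⟩
    rw [hm, Sylow.coe_subtype, mem_subgroupOf] at h1
    simpa using h1
  refine ⟨?_, le_prodN_left, prodN_le_normalizer, hWodd, h, ?_, ?_,
    a, hSM ha.1, b, hSM hb.1, ha2, hb2, hab, h _ S.2 a ha.1 b hb.1⟩
  · refine StronglyEmbedded.of_conj (sigM_ne_top h S hC hnc h8) heven fun t ht ht2 g hg => ?_
    obtain ⟨m, hm, hmS⟩ := hinto t ht ht2
    obtain ⟨m', hm', hm'S⟩ := hinto (g * t * g⁻¹) hg (by rw [Basic.orderOf_conj, ht2])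
    set c := m * t * m⁻¹ with hc
    set k := m' * g * m⁻¹ with hk
    have hcS : c ∈ omegaOf h S := ⟨hmS, Basic.inv_sq_one (by rw [hc, Basic.orderOf_conj, ht2])⟩
    have hkc : (k⁻¹)⁻¹ * c * k⁻¹ ∈ (S : Subgroup G) := by
      rw [hk, hc]
      simpa [mul_assoc] using hm'S
    haveI : IsMulCommutative ↥(S : Subgroup G) :=
      ⟨⟨fun x y => Subtype.ext (h _ S.2 x x.2 y y.2).eq⟩⟩
    obtain ⟨n, hn, hne⟩ := S.conj_eq_normalizer_conj_of_mem c k⁻¹ hmS hkc
    have h1 : n * k ∈ centralizer ({c} : Set G) := by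
      refine mem_centralizer_singleton_iff.2 ?_
      rw [inv_inv] at hne
      calc n * k * c = n * (k * c * k⁻¹) * k := by group
        _ = n * (n⁻¹ * c * n) * k := by rw [hne]
        _ = c * (n * k) := by group
    have h2 : k ∈ M := by
      have := mul_mem (inv_mem (le_prodN_right hn : n ∈ M)) (centralizer_le_sigM h S hC hcS
        (fun e => by
          have h3 : orderOf c = 2 := by rw [hc, Basic.orderOf_conj, ht2]
          rw [e, orderOf_one] at h3
          omega) h1)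
      rwa [show n⁻¹ * (n * k) = k by group] at this
    have := mul_mem (mul_mem (inv_mem hm') h2) hm
    simpa [hk, mul_assoc] using this
  · -- the 2-elements modulo `W` form `W S`
    have hSW : (S : Subgroup G) ≤ normalizer (W : Set G) := le_normalizer.trans hNW
    have hin : ∀ x ∈ M, (∃ k : ℕ, x ^ 2 ^ k ∈ W) → x ∈ prodN W (S : Subgroup G) hSW := by
      rintro _ ⟨w, hw, n, hn, rfl⟩ ⟨k, hk⟩
      rw [pow_mem_iff_right (hNW hn) hw] at hk
      obtain ⟨j, m, hm, hne⟩ := exists_parts n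
      refine mul_mem (le_prodN_left hw) (mem_of_parts (j := j) hm ?_ ?_)
      · refine le_prodN_left (mem_of_pow_two (odd_orderOf_of_pow hm (by rw [← pow_mul, hne]))
          (k := k) ?_)
        rw [← pow_mul, mul_comm, pow_mul]
        exact pow_mem hk _
      · refine le_prodN_right (mem_sylow_of_normalizer S (pow_mem hn _) (k := j) ?_)
        rw [← pow_mul, mul_comm, hne]
    intro x hx y hy hx2 hy2
    obtain ⟨w, hw, s, hs, he⟩ := mul_mem (hin x hx hx2) (hin y hy hy2)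
    obtain ⟨k, hk⟩ := S.2 ⟨s, hs⟩
    refine ⟨k, ?_⟩
    rw [← he, pow_mem_iff_right (hSW hs) hw, show s ^ 2 ^ k = 1 from congrArg Subtype.val hk]
    exact one_mem _
  · rintro _ ⟨w, hw, n, hn, rfl⟩ ho hfix
    have hcomm : ∀ e ∈ (S : Subgroup G), e * e = 1 → Commute n e := by
      intro e he he2
      have h1 := hfix e (hSM he) he2
      have hd : n * e * n⁻¹ * e⁻¹ ∈ W := by
        have hen : e ∈ normalizer (W : Set G) := hNW (le_normalizer he)
        have hne : n * e * n⁻¹ ∈ normalizer (W : Set G) :=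
          mul_mem (mul_mem (hNW hn) hen) (inv_mem (hNW hn))
        have h2 := mul_mem (mul_mem (inv_mem hw) h1)
          ((mem_normalizer_iff.1 hen w).1 hw)
        convert h2 using 1
        group
      have hdS : n * e * n⁻¹ * e⁻¹ ∈ (S : Subgroup G) :=
        mul_mem ((mem_normalizer_iff.1 hn e).1 he) (inv_mem he)
      have : n * e * n⁻¹ * e⁻¹ = 1 := by
        obtain ⟨k, hk⟩ := S.2 ⟨_, hdS⟩
        exact (mem_bot).1 (mem_of_pow_two (hWodd.of_dvd_nat (Subgroup.orderOf_dvd_natCard W hd))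
          (k := k) (by rw [show (n * e * n⁻¹ * e⁻¹) ^ 2 ^ k = 1 from congrArg Subtype.val hk]
                       exact one_mem _))
      exact mul_inv_eq_iff_eq_mul.1 (mul_inv_eq_one.1 this)
    obtain ⟨j, m, hm, hne⟩ := exists_parts n
    have hodd : Odd (orderOf (n ^ 2 ^ j)) := odd_orderOf_of_pow hm (by rw [← pow_mul, hne])
    have hnS : ∀ s ∈ (S : Subgroup G), Commute (n ^ 2 ^ j) s :=
      commute_of_omega S.2 (h _ S.2) (pow_mem hn _) hodd
        fun e he he2 => (hcomm e he he2).pow_left _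
    have hnW : n ^ 2 ^ j ∈ W := by
      refine theta_le_sigW h S ha (fun e => by rw [e, orderOf_one] at ha2; omega)
        (le_theta h S ha.1 (hC a ha2) (D := zpowers (n ^ 2 ^ j)) (by rwa [Nat.card_zpowers]) ?_ ?_
          (mem_zpowers _))
      · exact zpowers_le.2 (mem_centralizer_singleton_iff.2 (hnS a ha.1).eq)
      · rintro s hs _ ⟨i, rfl⟩
        refine ⟨i, ?_⟩
        show (n ^ 2 ^ j) ^ i = s * (n ^ 2 ^ j) ^ i * s⁻¹
        rw [← ((hnS s hs).zpow_left i).eq, mul_inv_cancel_right]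
    exact mem_of_pow_two ho (k := j) ((pow_mem_iff_right (hNW hn) hw _).2 hnW)

end Cfsg.Agent.SEAbelian
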