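import Mathlib
import Cfsg.Prelude.Def_Involutions
import Cfsg.Prelude.Def_CaseTheorems

/-!
# The core lemma for strongly embedded subgroups with abelian Sylow 2-subgroups

`notes/s1221-abelian-h18.md`: a normal subgroup `W` of odd order of a strongly embedded subgroup `H`, such
that `H / W` has a normal Sylow 2-subgroup on whose involutions the odd part acts faithfully, lies in the
odd core of the whole group, provided that the Sylow 2-subgroups are abelian and not cyclic.
-/

set_option autoImplicit false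

namespace Cfsg.Agent.SEAbelian

open Subgroup

universe u

/-- The hypothesis of the core lemma. -/
structure Hyp {G : Type u} [Group G] (H W : Subgroup G) : Prop where
  se : Cfsg.IsStronglyEmbedded H
  le : W ≤ H
  normal : H ≤ normalizer (W : Set G)
  odd : Odd (Nat.card W)
  abelian : ∀ P : Subgroup G, IsPGroup 2 P → ∀ a ∈ P, ∀ b ∈ P, Commute a b
  closed : ∀ a ∈ H, ∀ b ∈ H, (∃ k : ℕ, a ^ (2 ^ k) ∈ W) → (∃ k : ℕ, b ^ (2 ^ k) ∈ W) →
    ∃ k : ℕ, (a * b) ^ (2 ^ k) ∈ W
  faithful : ∀ y ∈ H, Odd (orderOf y) → (∀ e ∈ H, e * e = 1 → y * e * y⁻¹ * e⁻¹ ∈ W) → y ∈ W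
  four : ∃ a ∈ H, ∃ b ∈ H, orderOf a = 2 ∧ orderOf b = 2 ∧ a ≠ b ∧ Commute a b

/-- The core lemma: `W` lies in the odd core. -/
def CoreLemma : Prop :=
  ∀ (G : Type u) [Group G] [Finite G] (H W : Subgroup G), Hyp H W → W ≤ Cfsg.oddCore G

end Cfsg.Agent.SEAbelian
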