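import Cfsg.Agent.S0205
import Cfsg.Agent.Lib.SEAbelian.Points
import Cfsg.Agent.Lib.SETwoClosed.Linear

/-!
# The core lemma: the action on the involutions modulo `Kx W x`

The prime `p` and what the image of a point stabilizer on `Ex W x` modulo `Kx W x` satisfies.
-/

set_option autoImplicit false
set_option linter.style.haveILetI false
set_option linter.unusedSectionVars false

namespace Cfsg.Agent.SEAbelian

open Subgroup MulAction
open Cfsg.Agent.Involutions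
open Cfsg.Agent.SETwoClosed (IsSyl isPGroup_cj)

universe u

variable {G : Type u} [Group G] {H W : Subgroup G}

/-- The `p`-part of `2 ^ n - 1`. -/
def pPart (n p : ℕ) : ℕ := p ^ (2 ^ n - 1).factorization p

/-- The prime and its properties at every point. -/
structure Par (H W : Subgroup G) (n p : ℕ) : Prop where
  hyp : Hyp H W
  two_le : 2 ≤ n
  card_E : ∀ x : G ⧸ H, (Kx W x).relIndex (Ex W x) = 2 ^ n
  prime : p.Prime
  dvd : p ∣ 2 ^ n - 1
  fpf : ∀ (x : G ⧸ H) (g : G), g • x = x → (∃ k : ℕ, g ^ p ^ k ∈ Tx W x) → g ∉ Tx W x →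
    ∀ e ∈ Ex W x, g * e * g⁻¹ * e⁻¹ ∈ Kx W x → e ∈ Kx W x
  index : ∀ (x : G ⧸ H) (R : Subgroup G), R ≤ stabilizer G x → IsPGroup p ↥R →
    (Tx W x).relIndex R ∣ pPart n p
  index_sylow : ∀ (x y : G ⧸ H), x ≠ y → ∀ T : Subgroup G, IsSyl p T (Dp x y) →
    (Tx W x).relIndex T = pPart n p
  cover : ∀ (x y : G ⧸ H), x ≠ y → ∀ T : Subgroup G, IsSyl p T (Dp x y) →
    ∀ c : G, c • x = x → (∃ k : ℕ, c ^ p ^ k ∈ Tx W x) → ∃ r ∈ T, r⁻¹ * c ∈ Tx W x
  commute : ∀ (x : G ⧸ H) (g c : G), g • x = x → c • x = x → (∃ k : ℕ, g ^ p ^ k ∈ Tx W x) →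
    (∃ k : ℕ, c ^ p ^ k ∈ Tx W x) → g * c * g⁻¹ * c⁻¹ ∈ Tx W x
  comm : ∀ (x : G ⧸ H) (g c : G), g • x = x → c • x = x → (∃ k : ℕ, c ^ p ^ k ∈ Tx W x) →
    ∃ k : ℕ, (g * c * g⁻¹ * c⁻¹) ^ p ^ k ∈ Tx W x

variable [Finite G]

/-- The two-point stabilizer is transitive on the nontrivial classes of `Ex W x`. -/
theorem Hyp.exists_conj_class (h : Hyp H W) {x y : G ⧸ H} (hxy : x ≠ y) {e f : G} (he : e ∈ Ex W x)
    (he1 : e ∉ Kx W x) (hf : f ∈ Ex W x) (hf1 : f ∉ Kx W x) :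
    ∃ d ∈ Dp x y, f⁻¹ * (d * e * d⁻¹) ∈ Kx W x := by
  obtain ⟨t, ht, htx, hte, -⟩ := h.exists_invol he he1
  obtain ⟨s, hs, hsx, hsf, -⟩ := h.exists_invol hf hf1
  obtain ⟨d, hd, hde⟩ := h.exists_conj_D hxy ht htx hs hsx
  refine ⟨d, hd, ?_⟩
  have h1 : d * (t⁻¹ * e) * d⁻¹ ∈ Kx W x := h.Kx_normal (mem_stabilizer_iff.1 (mem_inf.1 hd).1) hte
  rw [show f⁻¹ * (d * e * d⁻¹) = (f⁻¹ * (d * t * d⁻¹)) * (d * (t⁻¹ * e) * d⁻¹) by group, hde]
  refine mul_mem ?_ h1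
  simpa using inv_mem hsf

/-- The action modulo `W` at the base point. -/
theorem Hyp.exists_act (h : Hyp H W) :
    ∃ (Eb : Type u) (_ : CommGroup Eb) (_ : Finite Eb) (φ : ↥H →* MulAut Eb) (π : ↥H → Eb),
      (∀ v : Eb, ∃ e : ↥H, (e : G) ∈ Ex W (base H) ∧ π e = v) ∧
      (∀ e f : ↥H, (e : G) ∈ Ex W (base H) → (f : G) ∈ Ex W (base H) →
        (π e = π f ↔ (e : G)⁻¹ * f ∈ W)) ∧
      (∀ v : Eb, v * v = 1) ∧ π 1 = 1 ∧
      (∀ g e : ↥H, (e : G) ∈ Ex W (base H) → φ g (π e) = π (g * e * g⁻¹)) ∧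
      Nat.card Eb = (Kx W (base H)).relIndex (Ex W (base H)) := by
  haveI hWn : (W.subgroupOf H).Normal := ⟨fun e he g => (mem_normalizer_iff.1 (h.normal g.2) e).1 he⟩
  set f := QuotientGroup.mk' (W.subgroupOf H)
  haveI hEn : ((Ex W (base H)).subgroupOf H).Normal :=
    ⟨fun e he g => h.Ex_normal (smul_base_iff.2 g.2) he⟩
  set Eb := ((Ex W (base H)).subgroupOf H).map f with hEb
  haveI : Eb.Normal := hEn.map f (QuotientGroup.mk'_surjective _)
  have hfW : ∀ a b : ↥H, f a = f b ↔ (a : G)⁻¹ * b ∈ W := fun a b => QuotientGroup.eq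
  have hsq : ∀ v : ↥Eb, v * v = 1 := by
    rintro ⟨_, e, he, rfl⟩
    refine Subtype.ext ((map_mul f e e).symm.trans ((QuotientGroup.eq_one_iff _).2 ?_))
    have := (h.mem_Ex.1 he).2
    rwa [h.Kx_base] at this
  letI : CommGroup ↥Eb :=
    { (inferInstance : Group ↥Eb) with
      mul_comm := fun a b => by
        have h1 := hsq (a * b)
        have ha : a⁻¹ = a := inv_eq_of_mul_eq_one_right (hsq a)
        have hb : b⁻¹ = b := inv_eq_of_mul_eq_one_right (hsq b)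
        have h2 : (a * b)⁻¹ = a * b := inv_eq_of_mul_eq_one_right h1
        rw [mul_inv_rev, ha, hb] at h2
        exact h2.symm }
  classical
  let π : ↥H → ↥Eb := fun e => if he : (e : G) ∈ Ex W (base H) then ⟨f e, e, he, rfl⟩ else 1
  have hπ : ∀ e : ↥H, (e : G) ∈ Ex W (base H) → (π e : _ ⧸ _) = f e := fun e he => by
    simp only [π, dif_pos he]
  refine ⟨↥Eb, inferInstance, inferInstance, (MulAut.conjNormal : _ →* MulAut ↥Eb).comp f, π, ?_, ?_,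
    hsq, Subtype.ext ((hπ 1 (one_mem _)).trans (map_one f)), ?_, ?_⟩
  · rintro ⟨_, e, he, rfl⟩
    exact ⟨e, he, Subtype.ext (hπ e he)⟩
  · intro a b ha hb
    rw [← Subtype.coe_inj, hπ a ha, hπ b hb, hfW]
  · intro g e he
    have hge : ((g * e * g⁻¹ : ↥H) : G) ∈ Ex W (base H) := h.Ex_normal (smul_base_iff.2 g.2) he
    refine Subtype.ext ?_
    rw [hπ _ hge, map_mul, map_mul, map_inv]
    show ((MulAut.conjNormal (f g) (π e) : ↥Eb) : ↥H ⧸ W.subgroupOf H) = _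
    rw [MulAut.conjNormal_apply, hπ e he]
  · rw [hEb, ← relIndex_ker, QuotientGroup.ker_mk', h.Kx_base,
      relIndex_subgroupOf (fun e he => smul_base_iff.1 (h.Ex_le _ he))]

theorem Hyp.exists_par (h : Hyp H W) : ∃ n p : ℕ, Par H W n p := by
  classical
  set x0 := base H
  obtain ⟨Eb, _, _, φ, π, hπs, hπe, hsq, hπ1, hφ, hcard⟩ := h.exists_act
  set A := φ.range
  letI : DistribMulAction ↥A (Additive Eb) :=
    { smul := fun a w => Additive.ofMul ((a : MulAut Eb) (Additive.toMul w))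
      one_smul := fun w => rfl
      mul_smul := fun a b w => rfl
      smul_zero := fun a => congrArg Additive.ofMul (map_one (a : MulAut Eb))
      smul_add := fun a v w => congrArg Additive.ofMul (map_mul (a : MulAut Eb) _ _) }
  haveI : FaithfulSMul ↥A (Additive Eb) := ⟨fun {a b} e => Subtype.ext (MulEquiv.ext fun w =>
    Additive.ofMul.injective (e (Additive.ofMul w)))⟩
  -- the kernel
  have hker : ∀ g : ↥H, φ g = 1 ↔ ∀ e ∈ Ex W x0, (g : G) * e * (g : G)⁻¹ * e⁻¹ ∈ W := by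
    intro g
    constructor
    · intro hg e he
      have heH : e ∈ H := smul_base_iff.1 (h.Ex_le _ he)
      have h1 := (hπe ⟨e, heH⟩ (g * ⟨e, heH⟩ * g⁻¹) he (h.Ex_normal (smul_base_iff.2 g.2) he)).1
        (by have := hφ g ⟨e, heH⟩ he; rw [hg] at this; exact this)
      rw [show (g : G) * e * (g : G)⁻¹ * e⁻¹ = e * (e⁻¹ * ((g : G) * e * (g : G)⁻¹)) * e⁻¹ by group]
      exact (mem_normalizer_iff.1 (h.normal heH) _).1 h1
    · intro hg
      refine MulEquiv.ext fun v => ?_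
      obtain ⟨e, he, rfl⟩ := hπs v
      show φ g (π e) = π e
      rw [hφ g e he]
      refine ((hπe e _ he (h.Ex_normal (smul_base_iff.2 g.2) he)).2 ?_).symm
      rw [show (e : G)⁻¹ * ((g * e * g⁻¹ : ↥H) : G) = (e : G)⁻¹ * ((g : G) * e * (g : G)⁻¹ * (e : G)⁻¹) *
        (e : G)⁻¹⁻¹ by rw [Subgroup.coe_mul, Subgroup.coe_mul, Subgroup.coe_inv]; group]
      exact (mem_normalizer_iff.1 (h.normal (inv_mem e.2)) _).1 (hg e he)
  have hTker : ∀ g : ↥H, (g : G) ∈ Tx W x0 ↔ φ g = 1 := by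
    intro g
    rw [hker]
    constructor
    · intro hg e he
      have := h.Tx_comm hg (h.Ex_le_Tx _ he)
      rwa [h.Kx_base] at this
    · intro hg
      -- split off the odd part
      obtain ⟨e, m, hm, hom⟩ := Nat.exists_eq_two_pow_mul_odd (orderOf_pos (g : G)).ne'
      refine h.mem_Tx.2 ⟨smul_base_iff.2 g.2, e, ?_⟩
      have hgk : ∀ j : ℕ, φ (g ^ j) = 1 := fun j => by rw [map_pow, (hker g).2 hg, one_pow]
      refine h.mem_Kx_of_cent (smul_base_iff.2 (pow_mem g.2 _)) (hm.of_dvd_nat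
        (orderOf_dvd_of_pow_eq_one (by rw [← pow_mul, ← hom, pow_orderOf_eq_one]))) fun t ht htx => ?_
      rw [h.Kx_base]
      have := (hker _).1 (hgk (2 ^ e)) t (h.mem_Ex_of_inv ht htx)
      rwa [Subgroup.coe_pow] at this
  have hodd : Odd (Nat.card ↥A) := by
    by_contra hodd
    rw [Nat.not_odd_iff_even] at hodd
    obtain ⟨a, ⟨g, rfl⟩, hg⟩ := StronglyEmbedded.exists_involution_mem hodd
    obtain ⟨e, m, hm, hom⟩ := Nat.exists_eq_two_pow_mul_odd (orderOf_pos (g : G)).ne'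
    have h1 : φ (g ^ m) = 1 := (hTker _).1 (h.mem_Tx.2 ⟨smul_base_iff.2 (g ^ m).2, e, by
      rw [Subgroup.coe_pow, ← pow_mul, mul_comm, ← hom, pow_orderOf_eq_one]
      exact one_mem _⟩)
    rw [map_pow, ← orderOf_dvd_iff_pow_eq_one, hg] at h1
    exact Nat.not_even_iff_odd.2 hm (even_iff_two_dvd.2 h1)
  -- the order of the module
  obtain ⟨n, hn2, hn⟩ : ∃ n : ℕ, 2 ≤ n ∧ Nat.card Eb = 2 ^ n := by
    haveI : Fact (Nat.Prime 2) := ⟨Nat.prime_two⟩
    obtain ⟨n, hn⟩ := (IsPGroup.iff_card (G := Eb) (p := 2)).1 fun v => ⟨1, by rw [pow_one, pow_two, hsq]⟩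
    refine ⟨n, ?_, hn⟩
    obtain ⟨a, b, ha, hb, hax, hbx, hab, hc, habK⟩ := h.exists_four x0
    rw [h.Kx_base] at habK
    have haE := h.mem_Ex_of_inv ha hax
    have hbE := h.mem_Ex_of_inv hb hbx
    have hne : ∀ v w : ↥H, (v : G) ∈ Ex W x0 → (w : G) ∈ Ex W x0 → (v : G)⁻¹ * w ∉ W → π v ≠ π w :=
      fun v w hv hw hvw e => hvw ((hπe v w hv hw).1 e)
    by_contra hn'
    have h1 : ∀ v w z : Eb, v ≠ w → v ≠ z → w ≠ z → 3 ≤ Nat.card Eb := fun v w z h1 h2 h3 => by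
      have := Fintype.ofFinite Eb
      rw [Nat.card_eq_fintype_card]
      calc 3 = ({v, w, z} : Finset Eb).card := by simp [Finset.card_insert_of_notMem, h1, h2, h3]
        _ ≤ _ := Finset.card_le_univ _
    have h3 := h1 (π 1) (π ⟨a, smul_base_iff.1 hax⟩) (π ⟨b, smul_base_iff.1 hbx⟩)
      (hne _ _ (one_mem _) haE (by
        rw [OneMemClass.coe_one, inv_one, one_mul, ← h.Kx_base]; exact h.inv_notMem_Kx ha))
      (hne _ _ (one_mem _) hbE (by
        rw [OneMemClass.coe_one, inv_one, one_mul, ← h.Kx_base]; exact h.inv_notMem_Kx hb))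
      (hne _ _ haE hbE (by rw [Basic.inv_eq ha]; exact habK))
    have h4 : (2 : ℕ) ^ n ≤ 2 ^ 1 := Nat.pow_le_pow_right (by norm_num) (by omega)
    omega
  obtain ⟨y0, hy0⟩ : ∃ y : G ⧸ H, x0 ≠ y := by
    obtain ⟨u, hu, hu2⟩ := StronglyEmbedded.exists_involution_notMem h.se
    exact ⟨u • x0, fun e => hu (smul_base_iff.1 e.symm)⟩
  have hclass : ∀ v : Additive Eb, v ≠ 0 → ∃ e : ↥H, (e : G) ∈ Ex W x0 ∧ (e : G) ∉ Kx W x0 ∧
      Additive.ofMul (π e) = v := fun v hv => by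
    obtain ⟨e, he, hev⟩ := hπs (Additive.toMul v)
    refine ⟨e, he, fun heK => hv ?_, by rw [hev]; rfl⟩
    rw [h.Kx_base] at heK
    rw [← ofMul_toMul v, ← hev, (hπe e 1 he (one_mem _)).2 (by simpa using inv_mem heK), hπ1]
    rfl
  have htransD : ∀ y : G ⧸ H, x0 ≠ y → ∀ a b : Additive Eb, a ≠ 0 → b ≠ 0 →
      ∃ d : ↥H, (d : G) • y = y ∧ (⟨φ d, d, rfl⟩ : ↥A) • a = b := by
    intro y hy a b ha hb
    obtain ⟨e, he, heK, rfl⟩ := hclass a ha
    obtain ⟨f, hf, hfK, rfl⟩ := hclass b hb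
    obtain ⟨d, hd, hdef⟩ := h.exists_conj_class hy he heK hf hfK
    rw [h.Kx_base] at hdef
    refine ⟨⟨d, smul_base_iff.1 (mem_inf.1 hd).1⟩, (mem_inf.1 hd).2, congrArg Additive.ofMul ?_⟩
    show φ _ (π e) = π f
    rw [hφ _ e he]
    exact ((hπe f _ hf (h.Ex_normal (mem_inf.1 hd).1 he)).2 hdef).symm
  obtain ⟨p, hT⟩ := SETwoClosed.exists_torus (W := Additive Eb) hodd (Cfsg.Agent.S0205.result hodd)
    (fun w => hsq (Additive.toMul w)) hn2 (show Nat.card (Additive Eb) = 2 ^ n from hn)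
    (fun a b ha hb => let ⟨d, _, hd⟩ := htransD y0 hy0 a b ha hb; ⟨_, hd⟩)
  haveI := Fact.mk hT.prime
  obtain ⟨P, hPn, hPc, hPmem, hPcard⟩ := hT.cyclic
  haveI := hPn
  -- transport
  have hconj : ∀ {x : G ⧸ H} {γ g : G}, γ • x0 = x → g • x = x → γ⁻¹ * g * γ ∈ H := fun hγ hg =>
    smul_base_iff.1 (by rw [mul_smul, mul_smul, hγ, hg, ← hγ, inv_smul_smul])
  have hTc : ∀ {x : G ⧸ H} {γ g : G}, γ • x0 = x → (γ⁻¹ * g * γ ∈ Tx W x0 ↔ g ∈ Tx W x) := by
    intro x γ g hγ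
    constructor
    · intro hg
      have := h.conj_mem_Tx (g := γ) hg
      rw [hγ] at this
      simpa [mul_assoc] using this
    · intro hg
      rw [← hγ] at hg
      simpa using h.conj_mem_Tx (g := γ⁻¹) hg
  let img : ∀ {x : G ⧸ H} (γ : G), γ • x0 = x → ↥(stabilizer G x) →* ↥A := fun {x} γ hγ =>
    φ.rangeRestrict.comp (MonoidHom.mk' (fun g : ↥(stabilizer G x) =>
      (⟨γ⁻¹ * g * γ, hconj hγ g.2⟩ : ↥H)) fun a b => Subtype.ext (by
        show γ⁻¹ * ((a * b : ↥(stabilizer G x)) : G) * γ = γ⁻¹ * a * γ * (γ⁻¹ * b * γ)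
        rw [Subgroup.coe_mul]; group))
  have img_one : ∀ {x : G ⧸ H} {γ : G} (hγ : γ • x0 = x) (g : ↥(stabilizer G x)),
      img γ hγ g = 1 ↔ (g : G) ∈ Tx W x := fun {x γ} hγ g => by
    rw [← hTc hγ, hTker ⟨_, hconj hγ g.2⟩, ← Subtype.coe_inj]
    rfl
  have img_pow : ∀ {x : G ⧸ H} {γ : G} (hγ : γ • x0 = x) (g : ↥(stabilizer G x)),
      (∃ k : ℕ, (g : G) ^ p ^ k ∈ Tx W x) ↔ img γ hγ g ∈ P := fun {x γ} hγ g => by
    rw [hPmem]
    refine exists_congr fun k => ?_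
    rw [← map_pow, img_one hγ, Subgroup.coe_pow]
  have hidx : ∀ {x : G ⧸ H} {γ : G} (hγ : γ • x0 = x) (R : Subgroup G), R ≤ stabilizer G x →
      (Tx W x).relIndex R = Nat.card ↥((R.subgroupOf (stabilizer G x)).map (img γ hγ)) := by
    intro x γ hγ R hR
    rw [← relIndex_ker, show (img γ hγ).ker = (Tx W x).subgroupOf (stabilizer G x) from
      Subgroup.ext fun g => by rw [MonoidHom.mem_ker, img_one hγ, mem_subgroupOf],
      relIndex_subgroupOf hR]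
  have hle : ∀ {x : G ⧸ H} {γ : G} (hγ : γ • x0 = x) (R : Subgroup G), IsPGroup p ↥R →
      (R.subgroupOf (stabilizer G x)).map (img γ hγ) ≤ P := by
    rintro x γ hγ R hR _ ⟨r, hr, rfl⟩
    obtain ⟨k, hk⟩ := hR ⟨r, hr⟩
    refine (img_pow hγ r).1 ⟨k, ?_⟩
    rw [show (r : G) ^ p ^ k = 1 from congrArg Subtype.val hk]
    exact one_mem _
  have hfull : ∀ {x y : G ⧸ H} {γ : G} (hγ : γ • x0 = x), x ≠ y → ∀ T : Subgroup G, IsSyl p T (Dp x y) →
      (T.subgroupOf (stabilizer G x)).map (img γ hγ) = P := by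
    intro x y γ hγ hxy T hT'
    refine eq_of_le_of_card_ge (hle hγ T hT'.2.1) ?_
    rw [hPcard]
    set D := (Dp x y).subgroupOf (stabilizer G x)
    set DA := D.map (img γ hγ)
    -- the order of the image of the two-point stabilizer
    have hdvd : 2 ^ n - 1 ∣ Nat.card ↥DA := by
      obtain ⟨w0, hw0⟩ : ∃ w : Additive Eb, w ≠ 0 := by
        haveI : Nontrivial (Additive Eb) := by
          rw [← Finite.one_lt_card_iff_nontrivial, show Nat.card (Additive Eb) = 2 ^ n from hn]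
          exact Nat.one_lt_two_pow (by omega)
        exact exists_ne 0
      have horb : orbit ↥DA w0 = {0}ᶜ := by
        ext v
        refine ⟨?_, fun hv => ?_⟩
        · rintro ⟨a, rfl⟩
          exact fun e => hw0 ((smul_eq_zero_iff_eq (a : ↥A)).1 e)
        · have hy' : x0 ≠ γ⁻¹ • y := fun e => hxy (by rw [← hγ, e, smul_inv_smul])
          obtain ⟨d, hdy, hd⟩ := htransD _ hy' w0 v hw0 hv
          have hd' : γ * d * γ⁻¹ ∈ Dp x y := mem_inf.2 ⟨hγ ▸ conj_smul_fix (smul_base_iff.2 d.2),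
            mem_stabilizer_iff.2 (by rw [mul_smul, mul_smul, hdy, smul_inv_smul])⟩
          refine ⟨⟨_, ⟨⟨γ * d * γ⁻¹, (mem_inf.1 hd').1⟩, hd', rfl⟩⟩, ?_⟩
          rw [← hd]
          refine congrArg (fun a : ↥A => a • w0) ?_
          show φ.rangeRestrict _ = φ.rangeRestrict d
          congr 1
          exact Subtype.ext (show γ⁻¹ * (γ * (d : G) * γ⁻¹) * γ = d by group)
      have h1 := Nat.card_congr (orbitEquivQuotientStabilizer ↥DA w0)
      rw [horb, ← Subgroup.index, Nat.card_coe_set_eq, Set.ncard_compl, Set.ncard_singleton,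
        show Nat.card (Additive Eb) = 2 ^ n from hn] at h1
      rw [h1]
      exact index_dvd_card _
    obtain ⟨T0, hT0⟩ := hT'.exists_sylow
    set f : ↥(Dp x y) →* ↥DA := MonoidHom.codRestrict
      ((img γ hγ).comp (inclusion (inf_le_left : Dp x y ≤ stabilizer G x))) DA
      fun d => ⟨⟨(d : G), (mem_inf.1 d.2).1⟩, d.2, rfl⟩
    have hf : Function.Surjective f := by
      rintro ⟨_, d, hd, rfl⟩
      exact ⟨⟨d, hd⟩, Subtype.ext rfl⟩
    have hcard : Nat.card ↥((T0.mapSurjective hf : Sylow p ↥DA) : Subgroup ↥DA) ≤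
        Nat.card ↥((T.subgroupOf (stabilizer G x)).map (img γ hγ)) := by
      rw [← card_map_of_injective DA.subtype_injective, Sylow.coe_mapSurjective, map_map]
      refine card_le_of_le ?_
      rintro _ ⟨d, hd, rfl⟩
      exact ⟨⟨(d : G), (mem_inf.1 d.2).1⟩, (hT0 ▸ mem_map_of_mem _ hd : (d : G) ∈ T), rfl⟩
    refine le_trans (le_trans ?_ (le_of_eq (Sylow.card_eq_multiplicity _).symm)) hcard
    refine Nat.pow_le_pow_right hT.prime.pos ?_
    exact (Nat.factorization_le_iff_dvd (by have := Nat.one_lt_two_pow (show n ≠ 0 by omega); omega)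
      Nat.card_pos.ne').2 hdvd p
  refine ⟨n, p, h, hn2, fun x => ?_, hT.prime, hT.dvd, ?_, ?_, ?_, ?_, ?_, ?_⟩
  · obtain ⟨γ, rfl⟩ := exists_smul_base x
    have hE : Ex W (γ • x0) = SETwoClosed.cj γ (Ex W x0) := by
      ext e
      rw [SETwoClosed.mem_cj]
      constructor
      · intro he; simpa using h.conj_mem_Ex (g := γ⁻¹) he
      · intro he; simpa [mul_assoc] using h.conj_mem_Ex (g := γ) he
    rw [hE, h.Kx_smul, relIndex_map_map_of_injective _ _ (MulAut.conj γ).injective, ← hcard, hn]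
  · rintro x g hg hgk hgT e he hge
    obtain ⟨γ, hγ⟩ := exists_smul_base x
    have he0 : γ⁻¹ * e * γ ∈ Ex W x0 := by
      rw [← hγ] at he; simpa using h.conj_mem_Ex (g := γ⁻¹) he
    have hK : ∀ c : G, c ∈ Kx W x ↔ γ⁻¹ * c * γ ∈ W := fun c => by
      rw [← hγ, h.mem_Kx_smul, h.Kx_base]
    have hfix : img γ hγ ⟨g, hg⟩ • Additive.ofMul (π ⟨_, smul_base_iff.1 (h.Ex_le _ he0)⟩) =
        Additive.ofMul (π ⟨_, smul_base_iff.1 (h.Ex_le _ he0)⟩) := by
      refine congrArg Additive.ofMul ?_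
      show φ ⟨_, hconj hγ hg⟩ (π _) = _
      rw [hφ _ _ he0]
      refine ((hπe _ _ he0 (h.Ex_normal (smul_base_iff.2 (hconj hγ hg)) he0)).2 ?_).symm
      show (γ⁻¹ * e * γ)⁻¹ * (γ⁻¹ * g * γ * (γ⁻¹ * e * γ) * (γ⁻¹ * g * γ)⁻¹) ∈ W
      rw [show (γ⁻¹ * e * γ)⁻¹ * (γ⁻¹ * g * γ * (γ⁻¹ * e * γ) * (γ⁻¹ * g * γ)⁻¹) =
        γ⁻¹ * (e⁻¹ * (g * e * g⁻¹ * e⁻¹) * e⁻¹⁻¹) * γ by group, ← hK]
      exact h.Kx_normal (mem_stabilizer_iff.1 (inv_mem (h.Ex_le _ he))) hge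
    have h1 := hT.fpf _ ((hPmem _).1 ((img_pow hγ ⟨g, hg⟩).1 hgk))
      (by rw [Ne, img_one hγ]; exact hgT) _ hfix
    have h2 := (hπe ⟨_, smul_base_iff.1 (h.Ex_le _ he0)⟩ 1 he0 (one_mem _)).1
      ((congrArg Additive.toMul h1).trans hπ1.symm)
    rw [hK]
    simpa using inv_mem h2
  · intro x R hR hRp
    obtain ⟨γ, hγ⟩ := exists_smul_base x
    rw [hidx hγ R hR]
    exact (card_dvd_of_le (hle hγ R hRp)).trans (dvd_of_eq hPcard)
  · intro x y hxy T hT'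
    obtain ⟨γ, hγ⟩ := exists_smul_base x
    rw [hidx hγ T (hT'.1.trans inf_le_left), hfull hγ hxy T hT', hPcard]
    rfl
  · intro x y hxy T hT' c hc hck
    obtain ⟨γ, hγ⟩ := exists_smul_base x
    have h1 := (img_pow hγ ⟨c, hc⟩).1 hck
    rw [← hfull hγ hxy T hT'] at h1
    obtain ⟨r, hr, hrc⟩ := h1
    refine ⟨r, hr, (img_one hγ (r⁻¹ * ⟨c, hc⟩)).1 ?_⟩
    rw [map_mul, map_inv, hrc, inv_mul_cancel]
  · intro x g c hg hc hgk hck
    obtain ⟨γ, hγ⟩ := exists_smul_base x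
    refine (img_one hγ (⟨g, hg⟩ * ⟨c, hc⟩ * ⟨g, hg⟩⁻¹ * ⟨c, hc⟩⁻¹)).1 ?_
    haveI := hPc
    obtain ⟨⟨gen, hgenP⟩, hgen⟩ := IsCyclic.exists_generator (α := ↥P)
    obtain ⟨i, hi⟩ := mem_zpowers_iff.1 (hgen ⟨_, (img_pow hγ ⟨g, hg⟩).1 hgk⟩)
    obtain ⟨j, hj⟩ := mem_zpowers_iff.1 (hgen ⟨_, (img_pow hγ ⟨c, hc⟩).1 hck⟩)
    have hi' := congrArg Subtype.val hi
    have hj' := congrArg Subtype.val hj
    simp only [SubgroupClass.coe_zpow] at hi' hj'
    rw [map_mul, map_mul, map_mul, map_inv, map_inv, ← hi', ← hj',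
      (Commute.refl gen).zpow_zpow i j |>.eq]
    group
  · intro x g c hg hc hck
    obtain ⟨γ, hγ⟩ := exists_smul_base x
    have h1 : img γ hγ (⟨g, hg⟩ * ⟨c, hc⟩ * ⟨g, hg⟩⁻¹ * ⟨c, hc⟩⁻¹) ∈ P := by
      rw [map_mul, map_mul, map_mul, map_inv, map_inv]
      have hcP := (img_pow hγ ⟨c, hc⟩).1 hck
      exact mul_mem (hPn.conj_mem _ hcP _) (inv_mem hcP)
    exact (img_pow hγ _).2 h1

end Cfsg.Agent.SEAbelian
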