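import Cfsg.Agent.S0205
import Cfsg.Agent.Solvable.Fitting
import Cfsg.Agent.Lib.Cores.Basic
import Cfsg.Agent.Lib.SEAbelian.Par
import Cfsg.Agent.Lib.SETwoClosed.Tail.Main

/-!
# The core lemma: subgroups containing a four-group of a point

By induction an odd normal subgroup of `X ⊓ stabilizer d` lies in the odd core of `X`, which fixes the whole
`X`-orbit of `d`; when `X` covers `Ex W d` theorem T gives the length of the orbit.
-/

set_option autoImplicit false
set_option linter.style.haveILetI false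
set_option linter.unusedSectionVars false

namespace Cfsg.Agent.SEAbelian

open Subgroup MulAction
open Cfsg.Agent.Involutions
open Cfsg.Agent.SETwoClosed (cj mem_cj conj_mem_cj cj_eq_self TwoEl)

universe u

/-- The lemma for all proper subgroups. -/
def IndHyp (G : Type u) [Group G] : Prop :=
  ∀ X : Subgroup G, X ≠ ⊤ → ∀ K W' : Subgroup ↥X, Hyp K W' → W' ≤ Cfsg.oddCore ↥X

/-- The odd core of a subgroup, as a subgroup of the group. -/
def oc {G : Type u} [Group G] (X : Subgroup G) : Subgroup G := (Cfsg.oddCore ↥X).map X.subtype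

section Build

variable {G : Type u} [Group G] [Finite G]

theorem oc_le (X : Subgroup G) : oc X ≤ X := map_subtype_le _

theorem odd_oc (X : Subgroup G) : Odd (Nat.card ↥(oc X)) := by
  rw [oc, card_map_of_injective X.subtype_injective]
  exact Nat.coprime_two_right.1 PLocal.Cores.coprime_card_pPrimeCore

theorem le_normalizer_oc (X : Subgroup G) : X ≤ normalizer (oc X : Set G) := fun x hx => by
  refine Subgroup.mem_normalizer_fintype fun e he => ?_
  obtain ⟨e', he', rfl⟩ := he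
  exact ⟨_, PLocal.Cores.pPrimeCore_normal'.conj_mem e' he' ⟨x, hx⟩, rfl⟩

/-- A 2-element modulo a normal subgroup is congruent to a 2-element power of itself. -/
theorem exists_twoEl {N : Subgroup G} [N.Normal] {x : G} (hx : ∃ k : ℕ, x ^ 2 ^ k ∈ N) :
    ∃ y ∈ zpowers x, TwoEl y ∧ y⁻¹ * x ∈ N := by
  obtain ⟨k, hk⟩ := hx
  obtain ⟨e, m, hm, hxm⟩ := Nat.exists_eq_two_pow_mul_odd (orderOf_pos x).ne'
  have hco : m.Coprime (orderOf (x : G ⧸ N)) :=
    Nat.Coprime.coprime_dvd_right (orderOf_dvd_of_pow_eq_one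
      (by rw [← QuotientGroup.mk_pow]; exact (QuotientGroup.eq_one_iff _).2 hk))
      (Nat.Coprime.pow_right k (Nat.coprime_two_right.2 hm))
  obtain ⟨j, hj⟩ := exists_pow_eq_self_of_coprime hco
  refine ⟨(x ^ m) ^ j, pow_mem (pow_mem (mem_zpowers x) m) j, ⟨e, ?_⟩, QuotientGroup.eq.1 ?_⟩
  · rw [← pow_mul, ← pow_mul, show m * (j * 2 ^ e) = (2 ^ e * m) * j by ring, ← hxm, pow_mul,
      pow_orderOf_eq_one, one_pow]
  · rw [QuotientGroup.mk_pow, QuotientGroup.mk_pow, hj]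

/-- The hypothesis for a strongly embedded solvable subgroup and its odd core. -/
theorem Hyp.of_oddCore {K W0 : Subgroup G} (hse : Cfsg.IsStronglyEmbedded K) (hsol : Group.IsSolvable ↥K)
    (hab : ∀ P : Subgroup G, IsPGroup 2 P → ∀ a ∈ P, ∀ b ∈ P, Commute a b)
    (hfour : ∃ a ∈ K, ∃ b ∈ K, orderOf a = 2 ∧ orderOf b = 2 ∧ a ≠ b ∧ Commute a b)
    (hW0 : W0 ≤ oc K) (hclosed : ∀ a ∈ K, ∀ b ∈ K, TwoEl a → TwoEl b → ∃ k : ℕ, (a * b) ^ 2 ^ k ∈ W0) :
    Hyp K (oc K) := by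
  haveI : (Cfsg.oddCore ↥K).Normal := PLocal.Cores.pPrimeCore_normal'
  set N := Cfsg.oddCore ↥K
  set π := QuotientGroup.mk' N
  have hmem : ∀ x : ↥K, (x : G) ∈ oc K ↔ x ∈ N := fun x =>
    ⟨fun ⟨y, hy, e⟩ => Subtype.ext (a1 := y) (a2 := x) e ▸ hy, fun hx => ⟨x, hx, rfl⟩⟩
  -- products of two-elements modulo the core
  have hmul : ∀ a b : ↥K, (∃ k : ℕ, a ^ 2 ^ k ∈ N) → (∃ k : ℕ, b ^ 2 ^ k ∈ N) →
      ∃ k : ℕ, (a * b) ^ 2 ^ k ∈ N := by
    intro a b ha hb
    obtain ⟨a', -, ha2, haa⟩ := exists_twoEl ha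
    obtain ⟨b', -, hb2, hbb⟩ := exists_twoEl hb
    obtain ⟨k, hk⟩ := hclosed a' a'.2 b' b'.2
      (ha2.imp fun i hi => by rw [← Subgroup.coe_pow, hi, OneMemClass.coe_one])
      (hb2.imp fun i hi => by rw [← Subgroup.coe_pow, hi, OneMemClass.coe_one])
    refine ⟨k, ?_⟩
    rw [← QuotientGroup.eq_one_iff, QuotientGroup.mk_pow, QuotientGroup.mk_mul,
      ← QuotientGroup.eq.2 haa, ← QuotientGroup.eq.2 hbb, ← QuotientGroup.mk_mul,
      ← QuotientGroup.mk_pow, QuotientGroup.eq_one_iff, ← hmem]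
    rw [Subgroup.coe_pow, Subgroup.coe_mul]
    exact hW0 hk
  let P2 : Subgroup (↥K ⧸ N) :=
    { carrier := {q | ∃ k : ℕ, q ^ 2 ^ k = 1}
      one_mem' := ⟨0, one_pow _⟩
      inv_mem' := fun {q} ⟨k, hk⟩ => ⟨k, by rw [inv_pow, hk, inv_one]⟩
      mul_mem' := fun {q r} hq hr => by
        obtain ⟨a, rfl⟩ := QuotientGroup.mk_surjective q
        obtain ⟨b, rfl⟩ := QuotientGroup.mk_surjective r
        obtain ⟨k, hk⟩ := hmul a b (hq.imp fun i hi => by rwa [← QuotientGroup.eq_one_iff, QuotientGroup.mk_pow])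
          (hr.imp fun i hi => by rwa [← QuotientGroup.eq_one_iff, QuotientGroup.mk_pow])
        exact ⟨k, by rw [← QuotientGroup.mk_mul, ← QuotientGroup.mk_pow]; exact (QuotientGroup.eq_one_iff _).2 hk⟩ }
  have hcomm : ∀ q ∈ P2, ∀ r ∈ P2, q * r = r * q := by
    intro q hq r hr
    have h2 : PLocal.Quadratic.AbelianTwo G := fun T =>
      ⟨⟨fun a b => Subtype.ext (hab _ T.2 a a.2 b b.2).eq⟩⟩
    have h3 : PLocal.Quadratic.AbelianTwo (↥K ⧸ N) :=
      (h2.subgroup K).of_surjective (f := π) (QuotientGroup.mk'_surjective _)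
    have hP : IsPGroup 2 ↥P2 := fun x => x.2.imp fun k hk => Subtype.ext (by simpa using hk)
    obtain ⟨S, hS⟩ := hP.exists_le_sylow
    exact congrArg Subtype.val ((h3 S).is_comm.comm ⟨q, hS hq⟩ ⟨r, hS hr⟩)
  refine ⟨hse, oc_le K, le_normalizer_oc K, odd_oc K, hab, fun a ha b hb hak hbk => ?_, ?_, hfour⟩
  · obtain ⟨k, hk⟩ := hmul ⟨a, ha⟩ ⟨b, hb⟩ (hak.imp fun i hi => (hmem _).1 hi)
      (hbk.imp fun i hi => (hmem _).1 hi)
    exact ⟨k, (hmem _).2 hk⟩
  · intro y hy hyo hc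
    rw [show y = ((⟨y, hy⟩ : ↥K) : G) from rfl, hmem]
    set Y : ↥K ⧸ N := π ⟨y, hy⟩
    have hYo : Odd (orderOf Y) := hyo.of_dvd_nat
      ((orderOf_map_dvd π ⟨y, hy⟩).trans (dvd_of_eq (Subgroup.orderOf_mk _ hy)))
    have hfix : ∀ (k : ℕ) (q : ↥K ⧸ N), q ^ 2 ^ k = 1 → Y * q * Y⁻¹ = q := by
      intro k
      induction k with
      | zero =>
        intro q hq
        rw [pow_zero, pow_one] at hq
        rw [hq]; group
      | succ k ih =>
        intro q hq
        have hq2 : Y * (q * q) * Y⁻¹ = q * q := ih _ (by rw [← pow_two, ← pow_mul, ← pow_succ', hq])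
        have hqP : q ∈ P2 := ⟨k + 1, hq⟩
        have hYq : Y * q * Y⁻¹ ∈ P2 := ⟨k + 1, by rw [conj_pow, hq]; group⟩
        set c := Y * q * Y⁻¹ * q⁻¹
        have hcP : c ∈ P2 := mul_mem hYq (inv_mem hqP)
        have hc2 : c * c = 1 := by
          have e := hcomm _ hYq _ (inv_mem hqP)
          calc c * c = Y * q * Y⁻¹ * (q⁻¹ * (Y * q * Y⁻¹)) * q⁻¹ := by simp only [c]; group
            _ = Y * q * Y⁻¹ * (Y * q * Y⁻¹ * q⁻¹) * q⁻¹ := by rw [e]
            _ = Y * (q * q) * Y⁻¹ * (q * q)⁻¹ := by group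
            _ = 1 := by rw [hq2, mul_inv_cancel]
        have hYc : Y * c * Y⁻¹ = c := by
          obtain ⟨x, hx⟩ := QuotientGroup.mk_surjective c
          obtain ⟨x', -, hx2, hxx⟩ := exists_twoEl (N := N) (x := x) ⟨1, by
            rw [pow_one, pow_two, ← QuotientGroup.eq_one_iff, QuotientGroup.mk_mul, hx, hc2]⟩
          have hπx : π x' = c := (QuotientGroup.eq.2 hxx).trans hx
          have hsq : (x' : G) * x' = 1 := by
            obtain ⟨i, hi⟩ := hx2
            have h1 : x' * x' ∈ N := (QuotientGroup.eq_one_iff _).1 (by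
              rw [QuotientGroup.mk_mul]; show π x' * π x' = 1; rw [hπx, hc2])
            have h2 : Odd (orderOf (x' * x')) :=
              SECore.odd_orderOf_of_mem (Nat.coprime_two_right.1 PLocal.Cores.coprime_card_pPrimeCore) h1
            have h3 : x' * x' = 1 := SETwoClosed.TwoEl.eq_one_of_odd
              ⟨i, by rw [← pow_two, ← pow_mul, mul_comm, pow_mul, hi, one_pow]⟩ h2
            rw [← Subgroup.coe_mul, h3, OneMemClass.coe_one]
          have h1 := hc x' x'.2 hsq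
          rw [← hπx, ← mul_inv_eq_one]
          show π ⟨y, hy⟩ * π x' * (π ⟨y, hy⟩)⁻¹ * (π x')⁻¹ = 1
          rw [← map_inv, ← map_inv, ← map_mul, ← map_mul, ← map_mul]
          exact (QuotientGroup.eq_one_iff _).2 ((hmem _).1 h1)
        have hpow : ∀ j : ℕ, Y ^ j * q * (Y ^ j)⁻¹ = c ^ j * q := by
          intro j
          induction j with
          | zero => simp
          | succ j ihj =>
            rw [pow_succ', show Y * Y ^ j * q * (Y * Y ^ j)⁻¹ = Y * (Y ^ j * q * (Y ^ j)⁻¹) * Y⁻¹ by group,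
              ihj, show Y * (c ^ j * q) * Y⁻¹ = (Y * c ^ j * Y⁻¹) * (Y * q * Y⁻¹) by group, ← conj_pow, hYc,
              show Y * q * Y⁻¹ = c * q by simp only [c]; group, ← mul_assoc, ← pow_succ]
        obtain ⟨m, hm⟩ := hYo
        have h1 := hpow (orderOf Y)
        rw [pow_orderOf_eq_one, one_mul, inv_one, mul_one, hm, pow_succ, pow_mul, pow_two, hc2, one_pow,
          one_mul] at h1
        have hc1 : c = 1 := mul_eq_right.1 h1.symm
        exact mul_inv_eq_one.1 hc1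
    haveI := hsol
    haveI : Group.IsSolvable (↥K ⧸ N) := Group.isSolvable_of_surjective (QuotientGroup.mk'_surjective N)
    haveI : Fact (Nat.Prime 2) := ⟨Nat.prime_two⟩
    have hYC : Y ∈ centralizer (Cfsg.pCore 2 (↥K ⧸ N) : Set (↥K ⧸ N)) := by
      refine mem_centralizer_iff.2 fun q hq => ?_
      obtain ⟨k, hk⟩ := PLocal.Cores.isPGroup_pCore (⟨q, hq⟩ : ↥(Cfsg.pCore 2 (↥K ⧸ N)))
      exact (mul_inv_eq_iff_eq_mul.1 (hfix k q (congrArg Subtype.val hk))).symm
    have hY2 := Solvable.Fitting.centralizer_pCore_le 2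
      (show Cfsg.pPrimeCore 2 (↥K ⧸ N) = ⊥ from PLocal.Cores.pPrimeCore_quotient_pPrimeCore) hYC
    obtain ⟨k, hk⟩ := PLocal.Cores.isPGroup_pCore (⟨Y, hY2⟩ : ↥(Cfsg.pCore 2 (↥K ⧸ N)))
    exact (QuotientGroup.eq_one_iff _).1
      (SETwoClosed.TwoEl.eq_one_of_odd ⟨k, congrArg Subtype.val hk⟩ hYo)

/-- An odd normal subgroup lies in the odd core. -/
theorem le_oc {X N : Subgroup G} (hNX : N ≤ X) (hodd : Odd (Nat.card ↥N))
    (hn : X ≤ normalizer (N : Set G)) : N ≤ oc X := by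
  intro e he
  haveI : (N.subgroupOf X).Normal := ⟨fun a ha g => (mem_normalizer_iff.1 (hn g.2) a).1 ha⟩
  exact ⟨⟨e, hNX he⟩, PLocal.Cores.le_pPrimeCore (N := N.subgroupOf X)
    (by rw [Nat.card_congr (subgroupOfEquivOfLe hNX).toEquiv]; exact Nat.coprime_two_right.2 hodd) he, rfl⟩

end Build

variable {G : Type u} [Group G] [Finite G] {H W : Subgroup G}

/-- The point stabilizers are solvable. -/
theorem Hyp.isSolvable_stab (h : Hyp H W) (x : G ⧸ H) : Group.IsSolvable ↥(stabilizer G x) := by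
  set S := stabilizer G x
  haveI hKn : ((Kx W x).subgroupOf S).Normal := ⟨fun e he g => h.Kx_normal (mem_stabilizer_iff.1 g.2) he⟩
  haveI hTn : ((Tx W x).subgroupOf S).Normal := ⟨fun e he g => h.Tx_normal (mem_stabilizer_iff.1 g.2) he⟩
  set K' := (Kx W x).subgroupOf S
  set T' := (Tx W x).subgroupOf S
  -- the odd part
  have hq : Group.IsSolvable (↥S ⧸ T') := by
    refine Cfsg.Agent.S0205.result ?_
    by_contra hodd
    rw [Nat.not_odd_iff_even] at hodd
    haveI : Fact (Nat.Prime 2) := ⟨Nat.prime_two⟩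
    obtain ⟨q, hq2⟩ := exists_prime_orderOf_dvd_card' 2 (even_iff_two_dvd.1 hodd)
    obtain ⟨g, rfl⟩ := QuotientGroup.mk_surjective q
    obtain ⟨e, m, hm, hom⟩ := Nat.exists_eq_two_pow_mul_odd (orderOf_pos g).ne'
    have h1 : ((g : ↥S) : ↥S ⧸ T') ^ m = 1 := by
      rw [← QuotientGroup.mk_pow, QuotientGroup.eq_one_iff, mem_subgroupOf]
      refine h.mem_Tx.2 ⟨mem_stabilizer_iff.1 (g ^ m).2, e, ?_⟩
      rw [← Subgroup.coe_pow, ← pow_mul, mul_comm, ← hom, pow_orderOf_eq_one, OneMemClass.coe_one]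
      exact one_mem _
    rw [← orderOf_dvd_iff_pow_eq_one, hq2] at h1
    exact Nat.not_even_iff_odd.2 hm (even_iff_two_dvd.2 h1)
  -- the 2-part modulo the kernel
  haveI hK : Group.IsSolvable ↥K' := Cfsg.Agent.S0205.result (by
    rw [Nat.card_congr (subgroupOfEquivOfLe (h.Kx_le x)).toEquiv]; exact h.odd_Kx x)
  haveI : Fact (Nat.Prime 2) := ⟨Nat.prime_two⟩
  haveI hP : Group.IsSolvable ↥(T'.map (QuotientGroup.mk' K')) := by
    haveI := IsPGroup.isNilpotent (p := 2) (G := ↥(T'.map (QuotientGroup.mk' K'))) (by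
      rintro ⟨_, e, he, rfl⟩
      obtain ⟨k, hk⟩ := (h.mem_Tx.1 he).2
      exact ⟨k, Subtype.ext ((map_pow _ e _).symm.trans ((QuotientGroup.eq_one_iff _).2 hk))⟩)
    infer_instance
  haveI hT : Group.IsSolvable ↥T' := by
    refine Group.isSolvable_of_ker_le_range (inclusion (show K' ≤ T' from fun e he => h.Kx_le_Tx x he))
      ((QuotientGroup.mk' K').subgroupMap T') fun e he => ?_
    have h1 : ((e : ↥S) : ↥S ⧸ K') = 1 := congrArg Subtype.val (MonoidHom.mem_ker.1 he)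
    exact ⟨⟨e, (QuotientGroup.eq_one_iff _).1 h1⟩, rfl⟩
  exact Group.isSolvable_of_ker_le_range T'.subtype (QuotientGroup.mk' T')
    (by rw [QuotientGroup.ker_mk', range_subtype])

variable (h : Hyp H W) (IH : IndHyp G)
include h IH

/-- By induction the odd normal subgroups of the stabilizer of `d` in `X` fix the orbit of `d`. -/
theorem Hyp.slice_core {X : Subgroup G} (hX : X ≠ ⊤) {d : G ⧸ H} (hmov : ∃ x ∈ X, x • d ≠ d) {a b : G}
    (haX : a ∈ X) (hbX : b ∈ X) (ha : orderOf a = 2) (hb : orderOf b = 2) (had : a • d = d)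
    (hbd : b • d = d) (hab : a ≠ b) (hc : Commute a b) :
    oc X ≤ stabilizer G d ∧
    ∀ N : Subgroup G, N ≤ X ⊓ stabilizer G d → Odd (Nat.card ↥N) →
      X ⊓ stabilizer G d ≤ normalizer (N : Set G) → N ≤ oc X := by
  set K := stabilizer ↥X d
  have hK : ∀ x : ↥X, x ∈ K ↔ (x : G) • d = d := fun x => Iff.rfl
  have h2 : ∀ x : ↥X, orderOf x = 2 ↔ orderOf (x : G) = 2 := fun x => by rw [Subgroup.orderOf_coe]
  have hse : Cfsg.IsStronglyEmbedded K := by
    refine StronglyEmbedded.of_conj (fun e => ?_) ?_ fun t ht ht2 g hg => ?_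
    · obtain ⟨x, hx, hxd⟩ := hmov
      exact hxd ((hK ⟨x, hx⟩).1 (e ▸ mem_top _))
    · rw [even_iff_two_dvd]
      have h1 := orderOf_dvd_natCard (⟨⟨a, haX⟩, (hK ⟨a, haX⟩).2 had⟩ : ↥K)
      rwa [Subgroup.orderOf_mk, Subgroup.orderOf_mk, ha] at h1
    · have e1 : ((g : G) * t * (g : G)⁻¹) • ((g : G) • d) = (g : G) • d := conj_smul_fix ((hK t).1 ht)
      exact (hK g).2 (h.eq_of_fixed (by rw [Basic.orderOf_conj]; exact (h2 t).1 ht2) e1 ((hK _).1 hg))
  have hsol : Group.IsSolvable ↥K := by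
    haveI := h.isSolvable_stab d
    exact Group.isSolvable_of_isSolvable_injective (f := MonoidHom.mk'
      (fun k : ↥K => (⟨((k : ↥X) : G), (hK k).1 k.2⟩ : ↥(stabilizer G d))) fun _ _ => rfl)
      fun k l e => Subtype.ext (Subtype.ext (congrArg Subtype.val e :))
  set W0 : Subgroup ↥X := (Kx W d).subgroupOf X ⊓ K
  have hW0 : W0 ≤ oc K := by
    refine le_oc inf_le_right ?_ fun g hg => mem_normalizer_fintype fun e he =>
      mem_inf.2 ⟨h.Kx_normal ((hK g).1 hg) (mem_inf.1 he).1,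
        mul_mem (mul_mem hg (mem_inf.1 he).2) (inv_mem hg)⟩
    rw [← card_map_of_injective X.subtype_injective]
    refine (h.odd_Kx d).of_dvd_nat (card_dvd_of_le ?_)
    rintro _ ⟨e, he, rfl⟩
    exact he.1
  have hyp : Hyp K (oc K) := by
    refine Hyp.of_oddCore hse hsol (fun P hP x hx y hy => Subtype.ext ?_)
      ⟨⟨a, haX⟩, (hK _).2 had, ⟨b, hbX⟩, (hK _).2 hbd, (h2 _).2 ha, (h2 _).2 hb,
        fun e => hab (congrArg Subtype.val e), Subtype.ext hc⟩ hW0 fun x hx y hy hx2 hy2 => ?_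
    · exact (h.abelian _ (hP.map X.subtype) x ⟨x, hx, rfl⟩ y ⟨y, hy, rfl⟩).eq
    · have hT : ∀ z : ↥X, z ∈ K → TwoEl z → (z : G) ∈ Tx W d := fun z hz hz2 =>
        h.mem_Tx.2 ⟨(hK z).1 hz, hz2.imp fun k hk => by
          rw [← Subgroup.coe_pow, hk, OneMemClass.coe_one]; exact one_mem _⟩
      obtain ⟨-, k, hk⟩ := h.mem_Tx.1 (mul_mem (hT x hx hx2) (hT y hy hy2))
      exact ⟨k, hk, pow_mem (mul_mem hx hy) _⟩
  have hle := IH X hX K (oc K) hyp
  constructor
  · refine SECore.le_of_four (odd_oc X) (Basic.inv_sq_one ha) (Basic.inv_sq_one hb) hc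
      (le_normalizer_oc X haX) (le_normalizer_oc X hbX) fun y _ hy => ?_
    rcases hy with hy | hy | hy
    · exact h.smul_of_commute ha had hy
    · exact h.smul_of_commute hb hbd hy
    · refine h.smul_of_commute (t := a * b) (Basic.orderOf_two_iff.2 ⟨?_, fun e => hab ?_⟩) ?_ hy
      · rw [show a * b * (a * b) = a * (b * a) * b by group, ← hc.eq,
          show a * (a * b) * b = (a * a) * (b * b) by group, Basic.inv_sq_one ha, Basic.inv_sq_one hb, one_mul]
      · rw [← Basic.inv_eq hb]; exact eq_inv_of_mul_eq_one_left e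
      · rw [mul_smul, hbd, had]
  · intro N hN hodd hn e he
    have h1 : N.subgroupOf X ≤ oc K := by
      refine le_oc (fun x hx => (hK x).2 (mem_inf.1 (hN hx)).2) ?_ fun g hg =>
        mem_normalizer_fintype fun x hx => (mem_normalizer_iff.1 (hn (mem_inf.2 ⟨g.2, (hK g).1 hg⟩)) x).1 hx
      rwa [Nat.card_congr (subgroupOfEquivOfLe (hN.trans inf_le_left)).toEquiv]
    exact ⟨⟨e, (mem_inf.1 (hN he)).1⟩, hle (h1 he), rfl⟩

/-- An odd normal subgroup of the stabilizer of `d` in `X` fixes the orbit of `d`. -/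
theorem Hyp.slice_fix {X : Subgroup G} (hX : X ≠ ⊤) {d : G ⧸ H} (hmov : ∃ x ∈ X, x • d ≠ d) {a b : G}
    (haX : a ∈ X) (hbX : b ∈ X) (ha : orderOf a = 2) (hb : orderOf b = 2) (had : a • d = d)
    (hbd : b • d = d) (hab : a ≠ b) (hc : Commute a b) {N : Subgroup G} (hN : N ≤ X ⊓ stabilizer G d)
    (hodd : Odd (Nat.card ↥N)) (hn : X ⊓ stabilizer G d ≤ normalizer (N : Set G)) {x : G} (hx : x ∈ X) :
    N ≤ stabilizer G (x • d) := by
  obtain ⟨hO, hle⟩ := h.slice_core IH hX hmov haX hbX ha hb had hbd hab hc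
  exact (hle N hN hodd hn).trans (smul_fix_of_normalizer (le_normalizer_oc X hx) hO)

/-- When `X` covers the involutions at `d` its odd core is the intersection with each kernel of the orbit. -/
theorem Hyp.slice_full {X : Subgroup G} (hX : X ≠ ⊤) {d : G ⧸ H} (hmov : ∃ x ∈ X, x • d ≠ d)
    (hfull : ∀ t : G, orderOf t = 2 → t • d = d →
      ∃ s ∈ X, orderOf s = 2 ∧ s • d = d ∧ s⁻¹ * t ∈ Kx W d)
    {x : G} (hx : x ∈ X) : X ⊓ Kx W (x • d) = oc X := by
  obtain ⟨a, b, ha, hb, had, hbd, hab, hc, habK⟩ := h.exists_four d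
  obtain ⟨a', ha'X, ha', ha'd, haa⟩ := hfull a ha had
  obtain ⟨b', hb'X, hb', hb'd, hbb⟩ := hfull b hb hbd
  -- commuting involutions
  obtain ⟨s, t, hsX, htX, hs, ht, hsd, htd, hst, hcst⟩ : ∃ s t : G, s ∈ X ∧ t ∈ X ∧ orderOf s = 2 ∧
      orderOf t = 2 ∧ s • d = d ∧ t • d = d ∧ s ≠ t ∧ Commute s t := by
    have hne : a' * b' ∉ Kx W d := fun e => habK (by
      rw [show a * b = a' * ((a'⁻¹ * a) * b') * ((b'⁻¹ * b)) by group]
      refine mul_mem ?_ hbb
      rw [show a' * (a'⁻¹ * a * b') = (a' * (a'⁻¹ * a) * a'⁻¹) * (a' * b') by group]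
      exact mul_mem (h.Kx_normal ha'd haa) e)
    have hT : a' * b' ∈ Tx W d := mul_mem (h.mem_Tx_of_inv (Basic.inv_sq_one ha') ha'd)
      (h.mem_Tx_of_inv (Basic.inv_sq_one hb') hb'd)
    have heven : Even (orderOf (a' * b')) := by
      by_contra ho
      exact hne (h.odd_mem_Kx hT (Nat.not_even_iff_odd.1 ho))
    obtain ⟨hm, hma, hmb⟩ := Basic.middle_involution ha' hb' heven
    have hmX : (a' * b') ^ (orderOf (a' * b') / 2) ∈ X := pow_mem (mul_mem ha'X hb'X) _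
    have hmd := mem_stabilizer_iff.1 (pow_mem (h.Tx_le d hT) (orderOf (a' * b') / 2))
    by_cases hma' : (a' * b') ^ (orderOf (a' * b') / 2) = a'
    · refine ⟨a', b', ha'X, hb'X, ha', hb', ha'd, hb'd, fun e => hne ?_, hma' ▸ hmb⟩
      rw [e, Basic.inv_sq_one hb']; exact one_mem _
    · exact ⟨_, a', hmX, ha'X, hm, ha', hmd, ha'd, hma', hma⟩
  obtain ⟨hO, hle⟩ := h.slice_core IH hX hmov hsX htX hs ht hsd htd hst hcst
  have heq : X ⊓ Kx W d = oc X := by
    refine le_antisymm (hle _ (inf_le_inf_left _ (h.Kx_le d))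
      ((h.odd_Kx d).of_dvd_nat (card_dvd_of_le inf_le_right)) fun g hg => mem_normalizer_fintype fun e he =>
      mem_inf.2 ⟨mul_mem (mul_mem (mem_inf.1 hg).1 (mem_inf.1 he).1) (inv_mem (mem_inf.1 hg).1),
        h.Kx_normal (mem_inf.1 hg).2 (mem_inf.1 he).2⟩) fun y hy => mem_inf.2 ⟨oc_le X hy, ?_⟩
    refine h.mem_Kx_of_cent (hO hy) (SECore.odd_orderOf_of_mem (odd_oc X) hy) fun i hi hid => ?_
    obtain ⟨j, hjX, hj, hjd, hji⟩ := hfull i hi hid
    have hjT := h.mem_Tx_of_inv (Basic.inv_sq_one hj) hjd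
    have h1 : y * j * y⁻¹ * j⁻¹ ∈ Kx W d := by
      refine h.odd_mem_Kx (mul_mem (h.Tx_normal (hO hy) hjT) (inv_mem hjT)) ?_
      refine SECore.odd_orderOf_of_mem (odd_oc X) ?_
      rw [show y * j * y⁻¹ * j⁻¹ = y * (j * y⁻¹ * j⁻¹) by group]
      exact mul_mem hy ((mem_normalizer_iff.1 (le_normalizer_oc X hjX) _).1 (inv_mem hy))
    rw [show y * i * y⁻¹ * i⁻¹ =
      (y * j * y⁻¹ * j⁻¹) * (j * ((y * (j⁻¹ * i) * y⁻¹) * (j⁻¹ * i)⁻¹) * j⁻¹) by group]
    exact mul_mem h1 (h.Kx_normal hjd (mul_mem (h.Kx_normal (hO hy) hji) (inv_mem hji)))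
  rw [h.Kx_smul, ← heq]
  ext e
  rw [mem_inf, mem_cj]
  constructor
  · rintro ⟨he, hek⟩
    have h1 : x⁻¹ * e * x ∈ oc X := heq ▸ mem_inf.2 ⟨mul_mem (mul_mem (inv_mem hx) he) hx, hek⟩
    rw [heq]
    simpa [mul_assoc] using (mem_normalizer_iff.1 (le_normalizer_oc X hx) _).1 h1
  · intro he
    rw [heq] at he
    have h1 := (mem_normalizer_iff.1 (le_normalizer_oc X (inv_mem hx)) _).1 he
    rw [inv_inv, ← heq] at h1
    exact ⟨oc_le X he, (mem_inf.1 h1).2⟩

end Cfsg.Agent.SEAbelian
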