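import Cfsg.Agent.Lib.SEAbelian.Fpf
import Cfsg.Agent.Lib.Coprime.Generation
import Cfsg.Agent.Lib.Cores.Fitting

/-!
# The core lemma: a Sylow 2-subgroup with a fixed point free element of order `p`

From four classes of involutions on, some element of order `p` outside the kernel normalizes a Sylow 2-subgroup
of the stabilizer.
-/

set_option autoImplicit false
set_option linter.style.haveILetI false
set_option linter.unusedSectionVars false

namespace Cfsg.Agent.SEAbelian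

open Subgroup MulAction
open Cfsg.Agent.Involutions
open Cfsg.Agent.SETwoClosed (cj mem_cj conj_mem_cj cj_cj cj_one card_cj cj_eq_self isPGroup_cj IsSyl exists_isSyl
  exists_isSyl_ge mem_normalizer_of_cj mem_normalizer_of_le centralizer_le_normalizer ncard_fixed_modEq)

universe u

variable {G : Type u} [Group G]

/-- A nonidentity `p`-element has a power of order `p`. -/
theorem exists_pow_prime {p : ℕ} {c : G} (hc : c ≠ 1) (hck : ∃ k : ℕ, c ^ p ^ k = 1) :
    ∃ i : ℕ, c ^ i ≠ 1 ∧ (c ^ i) ^ p = 1 := by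
  obtain ⟨k, hk⟩ := hck
  induction k with
  | zero => exact absurd (by simpa using hk) hc
  | succ k ih =>
    by_cases h : c ^ p ^ k = 1
    · exact ih h
    · exact ⟨p ^ k, h, by rw [← pow_mul, ← pow_succ, hk]⟩

/-- A `p`-element outside a subgroup has a power outside it with `p`-th power inside. -/
theorem exists_pow_last {p : ℕ} {K : Subgroup G} {c : G} (hc : c ∉ K) (hck : ∃ k : ℕ, c ^ p ^ k ∈ K) :
    ∃ i : ℕ, c ^ i ∉ K ∧ (c ^ i) ^ p ∈ K := by
  obtain ⟨k, hk⟩ := hck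
  induction k with
  | zero => exact absurd (by simpa using hk) hc
  | succ k ih =>
    by_cases h : c ^ p ^ k ∈ K
    · exact ih h
    · exact ⟨p ^ k, h, by rwa [← pow_mul, ← pow_succ]⟩

/-- A `q`-group permuting a family of conjugates of size prime to `q` normalizes one of them. -/
theorem exists_normalized_conj [Finite G] {q : ℕ} (hq : q.Prime) {Q K R L : Subgroup G} (hQ : IsPGroup q ↥Q)
    (hQK : Q ≤ normalizer (K : Set G)) (hconj : ∀ g ∈ Q, ∃ k ∈ K, cj k R = cj g R)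
    (hLR : L ≤ normalizer (R : Set G)) (hdiv : ¬ q ∣ L.relIndex K) :
    ∃ k ∈ K, Q ≤ normalizer (cj k R : Set G) := by
  haveI := Fact.mk hq
  letI act : MulAction G (Subgroup G) :=
    { smul := fun g S => cj g S
      one_smul := cj_one
      mul_smul := fun g k S => (cj_cj g k S).symm }
  set S : Set (Subgroup G) := orbit ↥K R
  have hinv : ∀ g ∈ Q, ∀ P ∈ S, g • P ∈ S := by
    rintro g hg _ ⟨k, rfl⟩
    obtain ⟨k', hk', hk'g⟩ := hconj g hg
    refine ⟨⟨g * k * g⁻¹ * k', mul_mem ((mem_normalizer_iff.1 (hQK hg) _).1 k.2) hk'⟩, ?_⟩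
    show cj (g * (k : G) * g⁻¹ * k') R = cj g (cj k R)
    rw [← cj_cj (g * (k : G) * g⁻¹), hk'g, cj_cj, cj_cj, inv_mul_cancel_right]
  have hcard : ¬ q ∣ S.ncard := by
    rw [← Nat.card_coe_set_eq, Nat.card_congr (orbitEquivQuotientStabilizer ↥K R)]
    intro hd
    refine hdiv (hd.trans (Subgroup.index_dvd_of_le fun g hg => ?_))
    exact cj_eq_self (hLR hg)
  obtain ⟨P, ⟨k, rfl⟩, hP⟩ : {P ∈ S | ∀ g ∈ Q, g • P = P}.Nonempty := by
    rw [Set.nonempty_iff_ne_empty]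
    intro e
    have h1 := ncard_fixed_modEq hQ hinv
    rw [e, Set.ncard_empty] at h1
    exact hcard (Nat.modEq_zero_iff_dvd.1 h1)
  exact ⟨k, k.2, fun g hg => mem_normalizer_of_cj (hP g hg)⟩

variable [Finite G] {H W : Subgroup G}

/-- The `ℓ`-core of the kernel. -/
theorem Hyp.normalSub_pCore (h : Hyp H W) {l : ℕ} (hl : l.Prime) (a : G ⧸ H) :
    NormalSub W l a ((Cfsg.pCore l ↥(Kx W a)).map (Kx W a).subtype) := by
  refine ⟨hl, (Cores.pCore_isPGroup l).map _, map_subtype_le _, fun g hg => mem_normalizer_of_le ?_⟩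
  set K := Kx W a
  set V := (Cfsg.pCore l ↥K).map K.subtype
  intro r hr
  have hV : cj g V ≤ K := by
    rintro _ ⟨s, hs, rfl⟩
    exact h.Kx_normal (mem_stabilizer_iff.1 hg) (map_subtype_le _ hs)
  refine PLocal.Cores.le_map_pCore_of_le_normalizer (isPGroup_cj ((Cores.pCore_isPGroup l).map _) g) hV
    (fun k hk => ?_) (conj_mem_cj hr)
  refine mem_normalizer_of_le fun s hs => mem_cj.2 ?_
  have h1 : g⁻¹ * k * g ∈ K := by simpa using h.Kx_normal (g := g⁻¹) (inv_smul_eq_iff.2 (mem_stabilizer_iff.1 hg).symm) hk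
  have h2 := (mem_normalizer_iff.1 (PLocal.Cores.le_normalizer_map_pCore K h1) _).1 (mem_cj.1 hs)
  rwa [show g⁻¹ * k * g * (g⁻¹ * s * g) * (g⁻¹ * k * g)⁻¹ = g⁻¹ * (k * s * k⁻¹) * g by group] at h2

variable {n p : ℕ} (hF : Facts H W n p) {a b : G ⧸ H} (hab : a ≠ b) {T : Subgroup G}
  (hT : IsSyl p T (Dp a b))
include hF

/-- A Sylow 2-subgroup of a stabilizer contains an involution besides any three given elements. -/
theorem Facts.exists_fourth (h3 : 3 ≤ n) {S : Subgroup G} (hS : IsSyl 2 S (stabilizer G a)) (x y z : G)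
    (hx : x ∈ S) (hy : y ∈ S) (hz : z ∈ S) : ∃ w ∈ S, orderOf w = 2 ∧ w ≠ x ∧ w ≠ y ∧ w ≠ z := by
  have h := hF.par.hyp
  haveI : Fact (Nat.Prime 2) := ⟨Nat.prime_two⟩
  by_contra hno
  push Not at hno
  have hrep : ∀ e ∈ Ex W a, e ∈ Kx W a ∨ x⁻¹ * e ∈ Kx W a ∨ y⁻¹ * e ∈ Kx W a ∨ z⁻¹ * e ∈ Kx W a := by
    intro e he
    refine or_iff_not_imp_left.2 fun heK => ?_
    obtain ⟨t, ht, hta, hte, -⟩ := h.exists_invol he heK
    obtain ⟨Q, htQ, hQ⟩ := exists_isSyl_ge (D := stabilizer G a)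
      (isPGroup_zpowers_of_pow (l := 2) (y := t) ⟨1, by rw [pow_one, pow_two, Basic.inv_sq_one ht]⟩)
      (zpowers_le.2 (mem_stabilizer_iff.2 hta))
    obtain ⟨k, hk, hkQ⟩ := h.conj_syl_two hQ hS
    have hwS : k * t * k⁻¹ ∈ S := hkQ ▸ conj_mem_cj (htQ (mem_zpowers t))
    have hwK : (k * t * k⁻¹)⁻¹ * e ∈ Kx W a := by
      rw [show (k * t * k⁻¹)⁻¹ * e = k * (t⁻¹ * k⁻¹ * t⁻¹⁻¹) * (t⁻¹ * e) by group]
      exact mul_mem (mul_mem hk (h.Kx_normal (inv_smul_eq_iff.2 hta.symm) (inv_mem hk))) hte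
    have hw := hno _ hwS (by rw [Basic.orderOf_conj, ht])
    by_cases hwx : k * t * k⁻¹ = x
    · exact Or.inl (hwx ▸ hwK)
    by_cases hwy : k * t * k⁻¹ = y
    · exact Or.inr (Or.inl (hwy ▸ hwK))
    exact Or.inr (Or.inr (hw hwx hwy ▸ hwK))
  set N := (Kx W a).subgroupOf (Ex W a)
  have hE : ∀ s ∈ S, (∃ e ∈ Ex W a, e ∉ Kx W a ∧ s⁻¹ * e ∈ Kx W a) → s ∈ Ex W a := by
    rintro s - ⟨e, he, -, hse⟩
    rw [show s = e * (s⁻¹ * e)⁻¹ by group]
    exact mul_mem he (inv_mem (h.Kx_le_Ex a hse))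
  classical
  let rep : G → ↥(Ex W a) ⧸ N := fun s => if hs : s ∈ Ex W a then ((⟨s, hs⟩ : ↥(Ex W a)) : ↥(Ex W a) ⧸ N) else QuotientGroup.mk (1 : ↥(Ex W a))
  have hsurj : Function.Surjective (fun i : Fin 4 =>
      ![((1 : ↥(Ex W a)) : ↥(Ex W a) ⧸ N), rep x, rep y, rep z] i) := by
    intro q
    obtain ⟨⟨e, he⟩, rfl⟩ := QuotientGroup.mk_surjective q
    by_cases heK : e ∈ Kx W a
    · exact ⟨0, ((QuotientGroup.eq (s := N) (a := (1 : ↥(Ex W a))) (b := ⟨e, he⟩)).2 (by simpa [N, mem_subgroupOf] using heK))⟩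
    have key : ∀ s ∈ S, s⁻¹ * e ∈ Kx W a → rep s = ((⟨e, he⟩ : ↥(Ex W a)) : ↥(Ex W a) ⧸ N) := by
      intro s hs hse
      simp only [rep, dif_pos (hE s hs ⟨e, he, heK, hse⟩)]
      exact QuotientGroup.eq.2 (by rw [mem_subgroupOf]; exact hse)
    rcases (hrep e he).resolve_left heK with h1 | h1 | h1
    exacts [⟨1, key x hx h1⟩, ⟨2, key y hy h1⟩, ⟨3, key z hz h1⟩]
  have h4 := Nat.card_le_card_of_surjective _ hsurj
  rw [Nat.card_fin, show Nat.card (↥(Ex W a) ⧸ N) = 2 ^ n from hF.par.card_E a] at h4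
  have h8 : (2 : ℕ) ^ 3 ≤ 2 ^ n := Nat.pow_le_pow_right (by norm_num) h3
  omega

variable [FaithfulSMul G (G ⧸ H)] (IH : IndHyp G)
include IH hab hT

/-- Two commuting elements of order `p` that commute with a four-group generate the same subgroup. -/
theorem Facts.mem_zpowers_of_commute (hW : W ≠ ⊥) {x y : G} (hx : orderOf x = 2) (hy : orderOf y = 2)
    (hxa : x • a = a) (hya : y • a = a) (hxy : x ≠ y) (hcxy : Commute x y) {z j : G}
    (hz : z ∈ T ⊓ Kx W a) (hzx : Commute z x) (hzy : Commute z y) (hzp : orderOf z = p)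
    (hj : j ∈ T ⊓ Kx W a) (hjx : Commute j x) (hjy : Commute j y) (hjp : j ^ p = 1)
    (hc : Commute z j) : j ∈ zpowers z := by
  have h := hF.par.hyp
  haveI := hF.fact
  by_contra hjz
  -- a nontrivial normal subgroup of prime power order
  obtain ⟨l, hl, hne⟩ : ∃ l : ℕ, l.Prime ∧ (Cfsg.pCore l ↥(Kx W a)) ≠ ⊥ := by
    haveI : Group.IsSolvable ↥(Kx W a) := Cfsg.Agent.S0205.result (h.odd_Kx a)
    haveI : Nontrivial ↥(Kx W a) := (nontrivial_iff_ne_bot _).2 fun e => hW (eq_bot_of_card_eq _ (by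
      rw [← h.card_Kx a, e, card_bot]))
    by_contra hall
    push Not at hall
    refine Cores.fittingSubgroup_ne_bot (G := ↥(Kx W a)) ?_
    rw [Cores.fittingSubgroup_eq_iSup, eq_bot_iff]
    exact iSup_le fun l => (hall _ (Nat.prime_of_mem_primeFactors l.2)).le
  set V := (Cfsg.pCore l ↥(Kx W a)).map (Kx W a).subtype
  have hV : NormalSub W l a V := h.normalSub_pCore hl a
  have hVne : V ≠ ⊥ := fun e => hne ((map_eq_bot_iff_of_injective _ (Kx W a).subtype_injective).1 e)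
  have hlp : l ≠ p := by
    intro e
    refine hVne (eq_bot_iff.2 fun v hv => mem_bot.2 ?_)
    have hTn : T ≤ normalizer (V : Set G) := (hT.1.trans inf_le_left).trans hV.normal
    have hTVp : IsPGroup p ↥(T ⊔ V) := hT.2.1.to_sup_of_normal_right' (e ▸ hV.isPGroup) hTn
    have h1 : T = T ⊔ V := eq_of_le_of_card_ge le_sup_left (hF.sylow a b T _ hab hT hTVp)
    exact hF.semireg IH hl hV.isPGroup hV.le hV.normal hab hv
      (mem_inf.1 (hT.1 (h1.ge (mem_sup_right hv)))).2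
  set A := closure ({z, j} : Set G) with hA
  haveI hAc : IsMulCommutative ↥A := Subgroup.isMulCommutative_closure (by
    rintro r (rfl | rfl) s (rfl | rfl)
    exacts [rfl, hc.eq, hc.eq.symm, rfl])
  have hAY : A ≤ (T ⊓ Kx W a) ⊓ (centralizer ({x} : Set G) ⊓ centralizer ({y} : Set G)) := by
    refine (closure_le _).2 ?_
    rintro r (rfl | rfl)
    · exact ⟨hz, mem_centralizer_singleton_iff.2 hzx.eq, mem_centralizer_singleton_iff.2 hzy.eq⟩
    · exact ⟨hj, mem_centralizer_singleton_iff.2 hjx.eq, mem_centralizer_singleton_iff.2 hjy.eq⟩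
  have hexp : ∀ r ∈ A, r ^ p = 1 := fun r hr => by
    induction hr using closure_induction with
    | mem r hr =>
      rcases hr with rfl | rfl
      · rw [← hzp, pow_orderOf_eq_one]
      · exact hjp
    | one => exact one_pow p
    | inv r _ hr => rw [inv_pow, hr, inv_one]
    | mul r s hr hs ihr ihs =>
      have hrs : Commute r s := congrArg Subtype.val
        (hAc.is_comm.comm (⟨r, hr⟩ : ↥A) ⟨s, hs⟩)
      rw [hrs.mul_pow, ihr, ihs, one_mul]
  have hAp : IsPGroup p ↥A := fun r => ⟨1, Subtype.ext (by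
    rw [Subgroup.coe_pow, pow_one, hexp r r.2, OneMemClass.coe_one])⟩
  have hnc : ¬ IsCyclic ↥A := by
    intro hcyc
    obtain ⟨g, hg⟩ := IsCyclic.exists_generator (α := ↥A)
    have h1 : Nat.card ↥A ≤ p := by
      rw [← orderOf_eq_card_of_forall_mem_zpowers hg]
      refine Nat.le_of_dvd hF.par.prime.pos (orderOf_dvd_of_pow_eq_one (Subtype.ext ?_))
      rw [Subgroup.coe_pow, hexp g g.2, OneMemClass.coe_one]
    have h2 : zpowers z = A := eq_of_le_of_card_ge (zpowers_le.2 (subset_closure (by simp)))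
      (by rwa [Nat.card_zpowers, hzp])
    exact hjz (h2 ▸ subset_closure (by simp))
  have hgen : Coprime.fixedGen A V = V := Coprime.fixedGen_eq hnc
    ((hAY.trans (inf_le_left.trans (inf_le_right.trans (h.Kx_le a)))).trans hV.normal) (by
    haveI := Fact.mk hl
    obtain ⟨i, hi⟩ := IsPGroup.iff_card.1 hAp
    obtain ⟨k, hk⟩ := IsPGroup.iff_card.1 hV.isPGroup
    rw [hi, hk]
    exact ((Nat.coprime_primes hF.par.prime hl).2 (Ne.symm hlp)).pow i k)
  refine hVne (eq_bot_iff.2 (hgen.symm.le.trans (iSup₂_le fun r ⟨hr, hr1⟩ v hv => mem_bot.2 ?_)))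
  obtain ⟨hrP, hrC⟩ := mem_inf.1 (hAY hr)
  exact hF.fpf_ker IH hab hV hT hrP hr1 hx hy hxa hya hxy hcxy
    (mem_centralizer_singleton_iff.1 (mem_inf.1 hrC).1) (mem_centralizer_singleton_iff.1 (mem_inf.1 hrC).2)
    (mem_inf.1 hv).1 (mem_centralizer_singleton_iff.1 (mem_inf.1 hv).2).symm

/-- A Sylow 2-subgroup of the stabilizer acting nontrivially on `T ⊓ Kx W a` fixes only the identity. -/
theorem Facts.cent_eq_one (hW : W ≠ ⊥) (h3 : 3 ≤ n) {S : Subgroup G} (hS : IsSyl 2 S (stabilizer G a))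
    (hSn : S ≤ normalizer ((T ⊓ Kx W a : Subgroup G) : Set G))
    (hSc : ¬ S ≤ centralizer ((T ⊓ Kx W a : Subgroup G) : Set G)) {j : G} (hj : j ∈ T ⊓ Kx W a)
    (hjS : ∀ s ∈ S, Commute j s) : j = 1 := by
  classical
  have h := hF.par.hyp
  haveI := hF.fact
  set P1 := T ⊓ Kx W a
  have hP1p : IsPGroup p ↥P1 := hT.2.1.to_le inf_le_left
  have hodd : Odd (Nat.card ↥P1) := hF.par.odd_card hP1p
  have hcomm : ∀ s ∈ S, ∀ t ∈ S, Commute s t := fun s hs t ht => h.abelian S hS.2.1 s hs t ht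
  have hn : ∀ {s}, s ∈ S → ∀ {r}, r ∈ P1 → s * r * s⁻¹ ∈ P1 := fun hs r hr =>
    (mem_normalizer_iff.1 (hSn hs) r).1 hr
  -- two involutions whose common centralizer in `P1` is not centralized by `S`
  obtain ⟨x, hxS, y, hyS, hx, hy, hxy, g, hg, hgx, hgy, hgS⟩ : ∃ x ∈ S, ∃ y ∈ S, orderOf x = 2 ∧
      orderOf y = 2 ∧ x ≠ y ∧ ∃ g ∈ P1, Commute g x ∧ Commute g y ∧
        g ∉ centralizer (S : Set G) := by
    by_contra hno
    push Not at hno
    refine hSc (le_centralizer_iff.2 fun r hr => ?_)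
    obtain ⟨x, hxS, hx⟩ := h.exists_inv_syl hS
    have key : ∀ v ∈ S, orderOf v = 2 → P1 ⊓ centralizer ({v} : Set G) ≤ centralizer (S : Set G) := by
      intro v hv hv2
      obtain ⟨y, hy, hy2, hyv, hy1, -⟩ := hF.exists_fourth h3 hS v 1 1 hv (one_mem _) (one_mem _)
      obtain ⟨z, hz, hz2, hzv, hzy, hzvy⟩ := hF.exists_fourth h3 hS v y (v * y) hv hy (mul_mem hv hy)
      have hnorm : ∀ w ∈ S, w ∈ normalizer ((P1 ⊓ centralizer ({v} : Set G) : Subgroup G) : Set G) :=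
        fun w hw => mem_normalizer_of_le fun r hr => mem_inf.2 ⟨hn hw (mem_inf.1 hr).1, by
          refine mem_centralizer_singleton_iff.2 (Commute.eq ?_)
          exact ((hcomm w hw v hv).mul_left (mem_centralizer_singleton_iff.1 (mem_inf.1 hr).2)).mul_left
            (hcomm w hw v hv).inv_left⟩
      refine SECore.le_of_four (hodd.of_dvd_nat (card_dvd_of_le inf_le_left)) (Basic.inv_sq_one hy2)
        (Basic.inv_sq_one hz2) (hcomm y hy z hz) (hnorm y hy) (hnorm z hz) fun r hr hcr => ?_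
      have hrv : Commute r v := mem_centralizer_singleton_iff.1 (mem_inf.1 hr).2
      rcases hcr with hcr | hcr | hcr
      · exact hno v hv y hy hv2 hy2 (Ne.symm hyv) r (mem_inf.1 hr).1 hrv hcr
      · exact hno v hv z hz hv2 hz2 (Ne.symm hzv) r (mem_inf.1 hr).1 hrv hcr
      · refine hno v hv (y * z) (mul_mem hy hz) hv2 (Basic.orderOf_two_iff.2 ⟨?_, fun e => hzy ?_⟩)
          (fun e => hzvy ?_) r (mem_inf.1 hr).1 hrv hcr
        · rw [show y * z * (y * z) = y * (z * y) * z by group, ← (hcomm y hy z hz).eq,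
            show y * (y * z) * z = (y * y) * (z * z) by group, Basic.inv_sq_one hy2, Basic.inv_sq_one hz2,
            one_mul]
        · rw [← Basic.inv_eq hy2]; exact eq_inv_of_mul_eq_one_right e
        · rw [e, show y * z * y = y * (z * y) by group, ← (hcomm y hy z hz).eq, ← mul_assoc,
            Basic.inv_sq_one hy2, one_mul]
    obtain ⟨y, hy, hy2, hyx, -, -⟩ := hF.exists_fourth h3 hS x 1 1 hxS (one_mem _) (one_mem _)
    have hxy2 : orderOf (x * y) = 2 := Basic.orderOf_two_iff.2 ⟨by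
      rw [show x * y * (x * y) = x * (y * x) * y by group, ← (hcomm x hxS y hy).eq,
        show x * (x * y) * y = (x * x) * (y * y) by group, Basic.inv_sq_one hx, Basic.inv_sq_one hy2,
        one_mul], fun e => hyx (by rw [← Basic.inv_eq hx]; exact eq_inv_of_mul_eq_one_right e)⟩
    refine SECore.le_of_four hodd (Basic.inv_sq_one hx) (Basic.inv_sq_one hy2) (hcomm x hxS y hy)
      (hSn hxS) (hSn hy) (fun r hr hcr => ?_) hr
    rcases hcr with hcr | hcr | hcr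
    · exact key x hxS hx (mem_inf.2 ⟨hr, mem_centralizer_singleton_iff.2 hcr.eq⟩)
    · exact key y hy hy2 (mem_inf.2 ⟨hr, mem_centralizer_singleton_iff.2 hcr.eq⟩)
    · exact key _ (mul_mem hxS hy) hxy2 (mem_inf.2 ⟨hr, mem_centralizer_singleton_iff.2 hcr.eq⟩)
  obtain ⟨s, hs, hgs⟩ : ∃ s ∈ S, ¬ Commute g s := by
    by_contra hall
    push Not at hall
    exact hgS (mem_centralizer_iff.2 fun s hs => (hall s hs).eq.symm)
  set Y := P1 ⊓ (centralizer ({x} : Set G) ⊓ centralizer ({y} : Set G))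
  have hYc : ∀ {r}, r ∈ Y → Commute r x ∧ Commute r y := fun hr =>
    ⟨mem_centralizer_singleton_iff.1 (mem_inf.1 (mem_inf.1 hr).2).1,
      mem_centralizer_singleton_iff.1 (mem_inf.1 (mem_inf.1 hr).2).2⟩
  have hgY : g ∈ Y := ⟨hg, mem_centralizer_singleton_iff.2 hgx.eq, mem_centralizer_singleton_iff.2 hgy.eq⟩
  -- a power of `s` acting as an involution
  obtain ⟨t, htS, ⟨g', hg', htg⟩, ht2⟩ : ∃ t ∈ S, (∃ g' ∈ Y, ¬ Commute g' t) ∧
      ∀ r ∈ Y, Commute r (t * t) := by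
    obtain ⟨k, hk⟩ := exists_pow_eq_one_of_mem hS.2.1 hs
    have : ∀ k : ℕ, (∀ r ∈ Y, Commute r (s ^ 2 ^ k)) → (∃ g' ∈ Y, ¬ Commute g' s) →
        ∃ t ∈ S, (∃ g' ∈ Y, ¬ Commute g' t) ∧ ∀ r ∈ Y, Commute r (t * t) := by
      intro k
      induction k with
      | zero =>
        rintro h0 ⟨g', hg', hne⟩
        exact absurd (by simpa using h0 g' hg') hne
      | succ k ih =>
        intro hk1 hne
        by_cases hk0 : ∀ r ∈ Y, Commute r (s ^ 2 ^ k)
        · exact ih hk0 hne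
        push Not at hk0
        exact ⟨_, pow_mem hs _, hk0, fun r hr => by
          rw [← pow_add, ← two_mul, ← pow_succ']; exact hk1 r hr⟩
    exact this k (fun r _ => by rw [hk]; exact Commute.one_right r) ⟨g, hgY, hgs⟩
  have hYt : ∀ {r}, r ∈ Y → t * r * t⁻¹ ∈ Y := fun hr => ⟨hn htS (mem_inf.1 hr).1,
    mem_centralizer_singleton_iff.2 (((hcomm t htS x hxS).mul_left (hYc hr).1).mul_left
      (hcomm t htS x hxS).inv_left).eq,
    mem_centralizer_singleton_iff.2 (((hcomm t htS y hyS).mul_left (hYc hr).2).mul_left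
      (hcomm t htS y hyS).inv_left).eq⟩
  set c := g'⁻¹ * (t * g' * t⁻¹)
  have hcY : c ∈ Y := mul_mem (inv_mem hg') (hYt hg')
  have hc1 : c ≠ 1 := fun e => htg (mul_inv_eq_iff_eq_mul.1 (inv_mul_eq_one.1 e).symm).symm
  have hct : t * c * t⁻¹ = c⁻¹ := by
    calc t * c * t⁻¹ = (t * g' * t⁻¹)⁻¹ * (t * t * g' * (t * t)⁻¹) := by simp only [c]; group
      _ = (t * g' * t⁻¹)⁻¹ * g' := by rw [← (ht2 g' hg').eq, mul_inv_cancel_right]
      _ = c⁻¹ := by simp only [c]; group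
  by_contra hj1
  obtain ⟨i1, hj11, hj1p⟩ := exists_pow_prime hj1 (exists_pow_eq_one_of_mem hP1p hj)
  obtain ⟨i2, hc11, hc1p⟩ := exists_pow_prime hc1 (exists_pow_eq_one_of_mem hP1p (mem_inf.1 hcY).1)
  have hYp : IsPGroup p ↥Y := hP1p.to_le inf_le_left
  haveI : Nontrivial ↥Y := ⟨⟨⟨c, hcY⟩, 1, fun e => hc1 (congrArg Subtype.val e)⟩⟩
  haveI := hYp.center_nontrivial
  obtain ⟨⟨z', hz'⟩, hz'1⟩ := exists_ne (1 : ↥(center ↥Y))
  have hz'ne : (z' : G) ≠ 1 := fun e => hz'1 (Subtype.ext (Subtype.ext e))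
  obtain ⟨i3, hz1, hzp⟩ := exists_pow_prime hz'ne (exists_pow_eq_one_of_mem hYp z'.2)
  set z := (z' : G) ^ i3
  have hzY : z ∈ Y := pow_mem z'.2 i3
  have hzord : orderOf z = p := orderOf_eq_prime hzp hz1
  have hzc : ∀ r ∈ Y, Commute z r := fun r hr =>
    (show Commute (z' : G) r from (congrArg Subtype.val (mem_center_iff.1 hz' ⟨r, hr⟩)).symm).pow_left i3
  have hjY : j ∈ Y := ⟨hj, mem_centralizer_singleton_iff.2 (hjS x hxS).eq,
    mem_centralizer_singleton_iff.2 (hjS y hyS).eq⟩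
  have hxa : x • a = a := hS.1 hxS
  have hya : y • a = a := hS.1 hyS
  have hin : ∀ r ∈ Y, r ^ p = 1 → r ∈ zpowers z := fun r hr hrp =>
    hF.mem_zpowers_of_commute hab hT IH hW hx hy hxa hya hxy (hcomm x hxS y hyS) (mem_inf.1 hzY).1
      (hYc hzY).1 (hYc hzY).2 hzord (mem_inf.1 hr).1 (hYc hr).1 (hYc hr).2 hrp (hzc r hr)
  have hjz : zpowers (j ^ i1) = zpowers z := eq_of_le_of_card_ge
    (zpowers_le.2 (hin _ (pow_mem hjY _) hj1p))
    (by rw [Nat.card_zpowers, Nat.card_zpowers, hzord, orderOf_eq_prime hj1p hj11])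
  obtain ⟨m, hm⟩ := mem_zpowers_iff.1 (hjz ▸ hin _ (pow_mem hcY _) hc1p : c ^ i2 ∈ zpowers (j ^ i1))
  have h1 : t * c ^ i2 * t⁻¹ = c ^ i2 := mul_inv_eq_iff_eq_mul.2
    (hm ▸ (((hjS t htS).pow_left i1).zpow_left m).eq.symm)
  rw [← conj_pow, hct, inv_pow] at h1
  have h2 : (c ^ i2) ^ 2 = 1 := by rw [pow_two]; nth_rw 1 [← h1]; exact inv_mul_cancel _
  have h3' := Nat.dvd_gcd (orderOf_dvd_of_pow_eq_one h2) (orderOf_dvd_of_pow_eq_one hc1p)
  rw [show Nat.gcd 2 p = 1 from (Nat.coprime_primes Nat.prime_two hF.par.prime).2 hF.par.p_ne_two.symm,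
    Nat.dvd_one, orderOf_eq_one_iff] at h3'
  exact hc11 h3'

/-- An element of order `p` outside the kernel normalizes a Sylow 2-subgroup of the stabilizer. -/
theorem Facts.exists_normalizing (hW : W ≠ ⊥) (h3 : 3 ≤ n) : ∃ (S : Subgroup G) (y : G),
    IsSyl 2 S (stabilizer G a) ∧ y • a = a ∧ y ^ p = 1 ∧ y ∉ Kx W a ∧ y ∈ normalizer (S : Set G) := by
  classical
  have h := hF.par.hyp
  haveI := hF.fact
  haveI : Fact (Nat.Prime 2) := ⟨Nat.prime_two⟩
  set P1 := T ⊓ Kx W a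
  have hTa : T ≤ stabilizer G a := hT.1.trans inf_le_left
  have hP1p : IsPGroup p ↥P1 := hT.2.1.to_le inf_le_left
  have hsylcj : ∀ S : Subgroup G, IsSyl 2 S (stabilizer G a) → ∀ g ∈ stabilizer G a,
      IsSyl 2 (cj g S) (stabilizer G a) := fun S hS g hg => hS.of_card (isPGroup_cj hS.2.1 g) (by
    rintro _ ⟨r, hr, rfl⟩
    exact mul_mem (mul_mem hg (hS.1 hr)) (inv_mem hg)) (le_of_eq (card_cj _ _).symm)
  by_cases hA : ∃ S : Subgroup G, IsSyl 2 S (stabilizer G a) ∧ S ≤ centralizer (P1 : Set G)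
  · obtain ⟨S, hS, hSc⟩ := hA
    -- a swapper centralizes `P1`
    obtain ⟨u, hu, hua, hub, huT⟩ := hF.par.exists_swap_syl hab hT
    set X := normalizer (P1 : Set G)
    have huX : u ∈ X := mem_normalizer_of_le fun r hr => by
      have h1 := h.conj_mem_Kx (g := u) (mem_inf.1 hr).2
      rw [hua] at h1
      have h2 : u * r * u⁻¹ ∈ T ⊓ Kx W b := mem_inf.2 ⟨huT ▸ conj_mem_cj (mem_inf.1 hr).1, h1⟩
      rwa [← hF.syl_K a b T hab hT] at h2
    have hSX : IsSyl 2 S X := ⟨hSc.trans (centralizer_le_normalizer P1), hS.2.1,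
      fun Q hle _ hQ => (h.syl_two_top hS).2.2 Q hle le_top hQ⟩
    obtain ⟨Q, huQ, hQ⟩ := exists_isSyl_ge (D := X) (isPGroup_zpowers_of_pow (l := 2) (y := u)
      ⟨1, by rw [pow_one, pow_two, Basic.inv_sq_one hu]⟩) (zpowers_le.2 huX)
    obtain ⟨w, hw, hwQ⟩ := hQ.conj hSX
    have huc : ∀ r ∈ P1, u * r = r * u := fun r hr => by
      have h1 := mem_centralizer_iff.1 (hSc (hwQ ▸ conj_mem_cj (huQ (mem_zpowers u)))) (w * r * w⁻¹)
        ((mem_normalizer_iff.1 hw r).1 hr)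
      rw [show w * r * w⁻¹ * (w * u * w⁻¹) = w * (r * u) * w⁻¹ by group,
        show w * u * w⁻¹ * (w * r * w⁻¹) = w * (u * r) * w⁻¹ by group] at h1
      exact (mul_left_cancel (mul_right_cancel h1)).symm
    -- an element of `T` inverted by the swapper
    obtain ⟨r, hr, hru⟩ := SetLike.not_le_iff_exists.1 (hF.par.swap_not_cent hab hT hu hua)
    set c := r⁻¹ * (u * r * u⁻¹)
    have hcT : c ∈ T := mul_mem (inv_mem hr) (huT ▸ conj_mem_cj hr)
    have hc1 : c ≠ 1 := fun e => hru (mem_centralizer_singleton_iff.2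
      (mul_inv_eq_iff_eq_mul.1 (inv_mul_eq_one.1 e).symm).symm)
    have huu := Basic.inv_sq_one hu
    have hcu : u * c * u⁻¹ = c⁻¹ := by
      calc u * c * u⁻¹ = (u * r * u⁻¹)⁻¹ * ((u * u) * r * (u * u)⁻¹) := by simp only [c]; group
        _ = c⁻¹ := by rw [huu]; simp only [c]; group
    obtain ⟨i, hi1, hip⟩ := exists_pow_prime hc1 (exists_pow_eq_one_of_mem hT.2.1 hcT)
    have hciK : c ^ i ∉ Kx W a := fun e => hi1 (by
      have h1 : u * c ^ i * u⁻¹ = c ^ i := mul_inv_eq_iff_eq_mul.2 (huc _ (mem_inf.2 ⟨pow_mem hcT i, e⟩))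
      rw [← conj_pow, hcu, inv_pow] at h1
      have h2 : (c ^ i) ^ 2 = 1 := by rw [pow_two]; nth_rw 1 [← h1]; exact inv_mul_cancel _
      exact orderOf_eq_one_iff.1 (Nat.dvd_one.1
        ((show Nat.gcd 2 p = 1 from (Nat.coprime_primes Nat.prime_two hF.par.prime).2 hF.par.p_ne_two.symm) ▸
          Nat.dvd_gcd (orderOf_dvd_of_pow_eq_one h2) (orderOf_dvd_of_pow_eq_one hip))))
    have hcia : c ^ i ∈ stabilizer G a := pow_mem (hTa hcT) i
    obtain ⟨k, hk, hknorm⟩ := exists_normalized_conj hF.par.prime (Q := zpowers (c ^ i)) (K := Kx W a)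
      (R := S) (L := P1) (isPGroup_zpowers_of_pow ⟨1, by rw [pow_one]; exact hip⟩)
      ((zpowers_le.2 hcia).trans (h.stab_le_normalizer_Kx a))
      (fun g hg => h.conj_syl_two hS (hsylcj S hS g (zpowers_le.2 hcia hg)))
      ((le_centralizer_iff.1 hSc).trans (centralizer_le_normalizer S)) (by
        have hP := hF.syl_Kx hab hT
        intro hd
        have h1 : p ^ ((Nat.card ↥(Kx W a)).factorization p + 1) ∣ Nat.card ↥(Kx W a) := by
          rw [pow_succ, ← hP.card_eq, ← card_mul_index (P1.subgroupOf (Kx W a)),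
            Nat.card_congr (subgroupOfEquivOfLe (inf_le_right : P1 ≤ Kx W a)).toEquiv]
          exact mul_dvd_mul_left _ hd
        exact Nat.pow_succ_factorization_not_dvd Nat.card_pos.ne' hF.par.prime h1)
    exact ⟨cj k S, c ^ i, hsylcj S hS k (h.Kx_le a hk), hcia, hip, hciK, hknorm (mem_zpowers _)⟩
  push Not at hA
  -- a Sylow 2-subgroup normalizing `P1`
  obtain ⟨S2, hS2⟩ := exists_isSyl (p := 2) (stabilizer G a)
  obtain ⟨k, hk, hkn⟩ := exists_normalized_conj Nat.prime_two (Q := S2) (K := Kx W a) (R := P1) (L := ⊥)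
    hS2.2.1 (h.le_normalizer_Kx' hS2.1) (fun g hg => by
      obtain ⟨k, hk, m, hm, hkm⟩ := hF.frattini hab hT (hS2.1 hg)
      exact ⟨k, hk, by rw [← hkm, ← cj_cj, cj_eq_self (mem_inf.1 hm).2]⟩) bot_le (by
      rw [relIndex_bot_left]
      exact fun hd => Nat.not_even_iff_odd.2 (h.odd_Kx a) (even_iff_two_dvd.2 hd))
  set S := cj k⁻¹ S2
  have hS : IsSyl 2 S (stabilizer G a) := hsylcj S2 hS2 _ (inv_mem (h.Kx_le a hk))
  have hSn : S ≤ normalizer (P1 : Set G) := by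
    rintro _ ⟨r, hr, rfl⟩
    refine mem_normalizer_of_cj ?_
    show cj (k⁻¹ * r * k⁻¹⁻¹) P1 = P1
    rw [inv_inv, ← cj_cj, ← cj_cj, cj_eq_self (hkn hr), cj_cj, inv_mul_cancel, cj_one]
  -- an element outside the kernel normalizing both
  obtain ⟨g, hg, hgK⟩ := SetLike.not_le_iff_exists.1 (hF.par.not_le_Kx hab hT)
  obtain ⟨k0, hk0, m, hm, hkm⟩ := hF.frattini hab hT (hTa hg)
  set D := Tx W a ⊓ normalizer (P1 : Set G)
  have hSD : IsSyl 2 S D := ⟨le_inf (h.two_le_Tx hS.2.1 hS.1) hSn, hS.2.1,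
    fun Q hle hQ hQ2 => hS.2.2 Q hle ((hQ.trans inf_le_left).trans (h.Tx_le a)) hQ2⟩
  have hmS : cj m S ≤ D := by
    rintro _ ⟨r, hr, rfl⟩
    exact mem_inf.2 ⟨h.Tx_normal (mem_inf.1 hm).1 (h.two_le_Tx hS.2.1 hS.1 hr),
      mul_mem (mul_mem (mem_inf.1 hm).2 (hSn hr)) (inv_mem (mem_inf.1 hm).2)⟩
  obtain ⟨d, hd, hdm⟩ := hSD.conj (hSD.of_card (isPGroup_cj hS.2.1 m) hmS (le_of_eq (card_cj _ _).symm))
  obtain ⟨k1, hk1, s, hs, rfl⟩ := h.exists_mul_of_Tx hS (mem_inf.1 hd).1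
  have hk1n : k1 ∈ normalizer (P1 : Set G) := by
    have := mul_mem (mem_inf.1 hd).2 (inv_mem (hSn hs))
    rwa [mul_inv_cancel_right] at this
  set y' := k1⁻¹ * m
  have hy'S : y' ∈ normalizer (S : Set G) := mem_normalizer_of_cj (by
    rw [← cj_cj, ← hdm, cj_cj, inv_mul_cancel_left, cj_eq_self (le_normalizer hs)])
  have hy'P : y' ∈ normalizer (P1 : Set G) := mul_mem (inv_mem hk1n) (mem_inf.1 hm).2
  have hy'a : y' ∈ stabilizer G a := mul_mem (inv_mem (h.Kx_le a hk1)) (mem_inf.1 hm).1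
  have hgy : ∀ i : ℕ, g ^ i * (y' ^ i)⁻¹ ∈ Kx W a := by
    intro i
    induction i with
    | zero => simp
    | succ i ih =>
      rw [pow_succ, pow_succ, show g ^ i * g * (y' ^ i * y')⁻¹ =
        g ^ i * (g * y'⁻¹) * (g ^ i)⁻¹ * (g ^ i * (y' ^ i)⁻¹) by group]
      refine mul_mem (h.Kx_normal (mem_stabilizer_iff.1 (pow_mem (hTa hg) i)) ?_) ih
      rw [← hkm, show k0 * m * y'⁻¹ = k0 * k1 by simp only [y']; group]
      exact mul_mem hk0 hk1
  have hy'K : y' ∉ Kx W a := fun e => hgK (by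
    have := mul_mem (hgy 1) e
    rwa [pow_one, pow_one, inv_mul_cancel_right] at this)
  obtain ⟨e, t, ht, hord⟩ := Nat.exists_eq_pow_mul_and_not_dvd (orderOf_pos y').ne' p hF.par.prime.ne_one
  set y := y' ^ t
  have hyK : y ∉ Kx W a := fun hyK => hy'K (by
    obtain ⟨k', hk'⟩ := exists_pow_eq_one_of_mem hT.2.1 hg
    have h1 : y' ^ p ^ k' ∈ Kx W a := by
      have := inv_mem (hgy (p ^ k'))
      rwa [hk', one_mul, inv_inv] at this
    have hco : (p ^ k').Coprime t := ((Nat.Prime.coprime_iff_not_dvd hF.par.prime).2 ht).pow_left k'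
    have h3 := Nat.gcd_eq_gcd_ab (p ^ k') t
    rw [show Nat.gcd (p ^ k') t = 1 from hco] at h3
    have h4 : y' = (y' ^ p ^ k') ^ Nat.gcdA (p ^ k') t * (y' ^ t) ^ Nat.gcdB (p ^ k') t := by
      rw [← zpow_natCast y' (p ^ k'), ← zpow_natCast y' t, ← zpow_mul, ← zpow_mul, ← zpow_add, ← h3,
        Nat.cast_one, zpow_one]
    rw [h4]
    exact mul_mem (zpow_mem h1 _) (zpow_mem hyK _))
  have hyp : y ^ p ^ e = 1 := by rw [← pow_mul, mul_comm, ← hord, pow_orderOf_eq_one]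
  obtain ⟨i, hiK, hip⟩ := exists_pow_last (p := p) hyK ⟨e, hyp ▸ one_mem _⟩
  have hyn : y ^ i ∈ stabilizer G a ⊓ normalizer (P1 : Set G) ⊓ normalizer (S : Set G) :=
    pow_mem (pow_mem (mem_inf.2 ⟨mem_inf.2 ⟨hy'a, hy'P⟩, hy'S⟩) t) i
  refine ⟨S, y ^ i, hS, (mem_inf.1 (mem_inf.1 hyn).1).1, ?_, hiK, (mem_inf.1 hyn).2⟩
  have hypn := pow_mem hyn p
  have hP1 : (y ^ i) ^ p ∈ P1 := by
    have hZ : IsPGroup p ↥(zpowers ((y ^ i) ^ p)) := isPGroup_zpowers_of_pow ⟨e, by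
      rw [← pow_mul, ← pow_mul, show i * (p * p ^ e) = p ^ e * (i * p) by ring, pow_mul, hyp, one_pow]⟩
    have h1 : P1 ⊔ zpowers ((y ^ i) ^ p) = P1 := (hF.syl_Kx hab hT).2.2 _ le_sup_left
      (sup_le inf_le_right (zpowers_le.2 hip))
      (hP1p.to_sup_of_normal_left' hZ (zpowers_le.2 (mem_inf.1 (mem_inf.1 hypn).1).2))
    exact h1 ▸ mem_sup_right (mem_zpowers _)
  exact hF.cent_eq_one hab hT IH hW h3 hS hSn (hA S hS) hP1
    fun s hs => h.commute_of_normalizer hS.2.1 hS.1 hip (mem_inf.1 hypn).2 hs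

end Cfsg.Agent.SEAbelian
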