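import Cfsg.Agent.Lib.SEAbelian.Cent
import Cfsg.Agent.Lib.SECoreTwoClosed.Frobenius
import Cfsg.Agent.Lib.CIT.SEOdd.Main

/-!
# The core lemma: the end of the proof

A Sylow 2-subgroup of the stabilizer centralizes the kernel, so it is normal, and theorem T makes the kernel fix
every point. With three classes of involutions an element of odd order fixing one class fixes all, and the
lemma for strongly embedded subgroups of that kind applies.
-/

set_option autoImplicit false
set_option linter.style.haveILetI false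
set_option linter.unusedSectionVars false

namespace Cfsg.Agent.SEAbelian

open Subgroup MulAction
open Cfsg.Agent.Involutions
open Cfsg.Agent.SETwoClosed (TwoEl cj IsSyl exists_isSyl exists_isSyl_ge centralizer_le_normalizer)

universe u

variable {G : Type u} [Group G] [Finite G] {H W : Subgroup G}

/-- The case of four or more classes of involutions. -/
theorem Facts.eq_bot [FaithfulSMul G (G ⧸ H)] {n p : ℕ} (hF : Facts H W n p) (IH : IndHyp G) (h3 : 3 ≤ n) :
    W = ⊥ := by
  have h := hF.par.hyp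
  haveI := hF.fact
  haveI : Fact (Nat.Prime 2) := ⟨Nat.prime_two⟩
  by_contra hW
  obtain ⟨b, hab⟩ := h.exists_other (base H)
  obtain ⟨T, hT⟩ := exists_isSyl (p := p) (Dp (base H) b)
  obtain ⟨S, y, hS, hya, hyp, hyK, hyS⟩ := hF.exists_normalizing hab hT IH hW h3
  set a := base H
  -- `y` has no fixed points on `S`
  have hyfix : ∀ s ∈ S, Commute y s → s = 1 := by
    intro s hs hc
    by_contra hs1
    obtain ⟨i, hi1, hi2⟩ := exists_pow_prime hs1 (exists_pow_eq_one_of_mem hS.2.1 hs)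
    refine hyK (hF.par.mem_Kx_of_fixes (isPGroup_zpowers_of_pow ⟨1, by rwa [pow_one]⟩) (mem_zpowers y) hya
      (t := s ^ i) (Basic.orderOf_two_iff.2 ⟨by rwa [← pow_two], hi1⟩)
      (mem_stabilizer_iff.1 (pow_mem (hS.1 hs) i)) ?_)
    rw [(hc.pow_right i).eq, mul_inv_cancel_right, mul_inv_cancel]
    exact one_mem _
  -- `S` centralizes the kernel
  have hcop : (Nat.card ↥S).Coprime (Nat.card ↥(Kx W a)) := by
    obtain ⟨k, hk⟩ := IsPGroup.iff_card.1 hS.2.1
    rw [hk]
    exact (Nat.coprime_two_left.2 (h.odd_Kx a)).pow_left k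
  have hSK : S ≤ centralizer (Kx W a : Set G) := by
    refine SECoreTwoClosed.le_centralizer_of_pCores (h.le_normalizer_Kx' hS.1) hcop
      (Cfsg.Agent.S0205.result (h.odd_Kx a)) fun l hl => ?_
    have hV := h.normalSub_pCore hl a
    refine SECoreTwoClosed.le_centralizer_of_fpf_prime (hS.1.trans hV.normal)
      (hcop.symm.coprime_dvd_left (card_dvd_of_le hV.le)) hF.par.prime hyp
      (hV.normal (mem_stabilizer_iff.2 hya)) hyS (fun v hv hc => ?_) hyfix
    exact hF.fpf_elt IH hab hV hya ⟨1, by rwa [pow_one]⟩ hyK hv hc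
  -- so it contains every 2-element of `H`
  have htwo : ∀ x ∈ H, TwoEl x → x ∈ S := by
    intro x hx hx2
    have hxT : x ∈ Tx W a := h.mem_Tx.2 ⟨smul_base_iff.2 hx, hx2.imp fun k hk => by rw [hk]; exact one_mem _⟩
    have hxc : x ∈ centralizer (S : Set G) := by
      refine mem_centralizer_iff.2 fun s hs => ?_
      have hk := h.Tx_comm hxT (h.two_le_Tx hS.2.1 hS.1 hs)
      set k := x * s * x⁻¹ * s⁻¹ with hkdef
      have hsk : Commute k s := mem_centralizer_iff.1 (hSK hs) k hk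
      have hks : k * s = x * s * x⁻¹ := by rw [hkdef]; group
      obtain ⟨e, he⟩ := exists_pow_eq_one_of_mem hS.2.1 hs
      have h1 : k ^ 2 ^ e = 1 := by
        have h2 : (k * s) ^ 2 ^ e = 1 := by rw [hks, conj_pow, he, mul_one, mul_inv_cancel]
        rwa [hsk.mul_pow, he, mul_one] at h2
      have hk1 : k = 1 := TwoEl.eq_one_of_odd ⟨e, h1⟩ (h.odd_orderOf hk)
      rw [hk1, one_mul] at hks
      exact mul_inv_eq_iff_eq_mul.1 hks.symm |>.symm
    have hsup : IsPGroup 2 ↥(S ⊔ zpowers x) := hS.2.1.to_sup_of_normal_left' (isPGroup_zpowers_of_pow hx2)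
      (zpowers_le.2 (centralizer_le_normalizer S hxc))
    exact hS.2.2 _ le_sup_left (sup_le hS.1 (zpowers_le.2 (smul_base_iff.2 hx))) hsup ▸
      mem_sup_right (mem_zpowers x)
  -- theorem T
  have hSH : S ≤ H := fun s hs => smul_base_iff.1 (hS.1 hs)
  have h2 : SETwoClosed.Hyp H := ⟨h.se, fun u hu v hv hu2 hv2 =>
    exists_pow_eq_one_of_mem hS.2.1 (mul_mem (htwo u hu hu2) (htwo v hv hv2)), h.four⟩
  refine hW (eq_bot_iff.2 fun w hw => mem_bot.2 (FaithfulSMul.eq_of_smul_eq_smul (α := G ⧸ H) fun z => ?_))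
  have hwK : w ∈ Kx W a := h.Kx_base.symm ▸ hw
  rw [one_smul]
  by_cases hza : z = a
  · rw [hza]; exact h.Kx_le a hwK
  have hwz : w • z ≠ a := fun e => hza (MulAction.injective w (e.trans (mem_stabilizer_iff.1 (h.Kx_le a hwK)).symm))
  obtain ⟨s, hsx, hsz⟩ := h2.concl.trans z (w • z) hza hwz
  have hs : s ∈ S := by
    have hsx' := h2.mem_Sx.1 hsx
    exact htwo s (SETwoClosed.smul_base_iff.1 hsx'.1) hsx'.2
  have hc : Commute w⁻¹ s := (show Commute w s from mem_centralizer_iff.1 (hSK hs) w hwK).inv_left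
  have hfix : w⁻¹ * s ∈ stabilizer G z := by
    rw [mem_stabilizer_iff, mul_smul, hsz, inv_smul_smul]
  obtain ⟨e, he⟩ := exists_pow_eq_one_of_mem hS.2.1 hs
  have hwe : (w⁻¹) ^ 2 ^ e ∈ stabilizer G z := by
    have h1 := pow_mem hfix (2 ^ e)
    rwa [hc.mul_pow, he, mul_one] at h1
  obtain ⟨m, hm⟩ := exists_pow_eq_self_of_coprime ((Nat.coprime_two_left.2 (h.odd_orderOf
    (inv_mem hwK))).pow_left e : Nat.Coprime (2 ^ e) (orderOf w⁻¹))
  exact mem_stabilizer_iff.1 ((inv_mem_iff).1 (hm ▸ pow_mem hwe m))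

/-- With three classes of involutions the hypothesis of the lemma of `CIT.SEOdd` holds. -/
theorem Hyp.seOdd (h : Hyp H W) (h4 : (Kx W (base H)).relIndex (Ex W (base H)) = 4) :
    CIT.SEOdd.Hyp H W := by
  obtain ⟨Eb, _, _, φ, π, hπs, hπe, hsq, hπ1, hφ, hcard⟩ := h.exists_act
  rw [h4] at hcard
  obtain ⟨a, ha, b, hb, ha2, hb2, hab, hc⟩ := h.four
  refine ⟨h.se, h.le, fun m hm w hw => (mem_normalizer_iff.1 (h.normal hm) w).1 hw, h.odd,
    fun x hx hxo t ht ht2 hxt => h.faithful x hx hxo fun e he he2 => ?_,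
    ⟨a, b, ha, hb, ha2, hb2, hc, hab⟩, h.closed⟩
  have hE : ∀ {e : G}, e ∈ H → e * e = 1 → e ∈ Ex W (base H) := fun he he2 =>
    h.mem_Ex.2 ⟨smul_base_iff.2 he, by rw [he2]; exact one_mem _⟩
  have htE := hE ht (Basic.inv_sq_one ht2)
  set T := π ⟨t, ht⟩
  have hT1 : T ≠ 1 := fun e1 => by
    rw [← hπ1] at e1
    have h1 := (hπe ⟨t, ht⟩ 1 htE (one_mem _)).1 e1
    rw [OneMemClass.coe_one, mul_one, ← h.Kx_base] at h1
    exact h.inv_notMem_Kx ht2 (inv_mem_iff.1 h1)
  have hfT : φ ⟨x, hx⟩ T = T := by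
    rw [hφ _ _ htE]
    congr 1
    exact Subtype.ext (show x * t * x⁻¹ = t by rw [hxt.eq, mul_inv_cancel_right])
  -- the two other elements
  have hfix : ∀ v : Eb, φ ⟨x, hx⟩ v = v := by
    intro v
    set f := φ ⟨x, hx⟩
    by_contra hne
    have hv1 : v ≠ 1 := fun e => hne (by rw [e, map_one])
    have hvT : v ≠ T := fun e => hne (by rw [e, hfT])
    have hfv : f v = v * T := by
      haveI := Fintype.ofFinite Eb
      classical
      have hvT1 : v * T ≠ 1 := fun e => hvT ((eq_inv_of_mul_eq_one_left e).trans (inv_eq_of_mul_eq_one_right (hsq T)))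
      have huniv : ({1, T, v, v * T} : Finset Eb) = Finset.univ := Finset.eq_univ_of_card _ (by
        rw [← Nat.card_eq_fintype_card, hcard]
        simp [Finset.card_insert_of_notMem, hT1.symm, hv1.symm, hvT.symm, hvT1.symm, hv1, hT1])
      have hmem : f v ∈ ({1, T, v, v * T} : Finset Eb) := huniv ▸ Finset.mem_univ _
      simp only [Finset.mem_insert, Finset.mem_singleton] at hmem
      rcases hmem with e | e | e | e
      · exact absurd (f.injective (e.trans (map_one f).symm)) hv1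
      · exact absurd (f.injective (e.trans hfT.symm)) hvT
      · exact absurd e hne
      · exact e
    have hf2 : f (f v) = v := by rw [hfv, map_mul, hfv, hfT, mul_assoc, hsq, mul_one]
    have hiter : ∀ j : ℕ, (f ^ (2 * j)) v = v := by
      intro j
      induction j with
      | zero => simp
      | succ j ih => rw [show 2 * (j + 1) = 2 * j + 2 by ring, pow_add, MulAut.mul_apply, pow_two,
          MulAut.mul_apply, hf2, ih]
    obtain ⟨j, hj⟩ := hxo
    have h1 : f ^ orderOf x = 1 := by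
      rw [← map_pow, show (⟨x, hx⟩ : ↥H) ^ orderOf x = 1 from Subtype.ext (by simp [pow_orderOf_eq_one]),
        map_one]
    refine hne ?_
    conv_rhs => rw [← (show (f ^ orderOf x) v = v by rw [h1]; rfl)]
    rw [hj, pow_succ', MulAut.mul_apply, hiter]
  have he' := hfix (π ⟨e, he⟩)
  rw [hφ _ _ (hE he he2)] at he'
  have hxe : x * e * x⁻¹ ∈ Ex W (base H) := h.Ex_normal (smul_base_iff.2 hx) (hE he he2)
  have h1 := (hπe _ ⟨e, he⟩ hxe (hE he he2)).1 he'
  have h2 := (mem_normalizer_iff.1 (h.normal he) _).1 (inv_mem h1)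
  have h3 : e * ((x * e * x⁻¹)⁻¹ * e)⁻¹ * e⁻¹ ∈ W := h2
  rwa [show e * ((x * e * x⁻¹)⁻¹ * e)⁻¹ * e⁻¹ = x * e * x⁻¹ * e⁻¹ by group] at h3

/-- The lemma for a group acting faithfully on the points. -/
theorem Hyp.le_oddCore_of_faithful [FaithfulSMul G (G ⧸ H)] (h : Hyp H W) (IH : IndHyp G) :
    W ≤ Cfsg.oddCore G := by
  obtain ⟨n, p, hP⟩ := h.exists_par
  by_cases h3 : 3 ≤ n
  · rw [(hP.facts IH).eq_bot IH h3]; exact bot_le
  have hn : n = 2 := by have := hP.two_le; omega
  exact (h.seOdd (by rw [hP.card_E, hn]; norm_num)).le_oddCore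

end Cfsg.Agent.SEAbelian
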