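import Cfsg.Agent.Lib.SEAbelian.Sylow

/-!
# The core lemma: fixed point free action on the normal `ℓ`-subgroups of the kernel

The `p`-elements of a stabilizer outside the kernel, and the elements of a Sylow `p`-subgroup of the kernel that
commute with a four-group, fix no nonidentity element of a normal `ℓ`-subgroup of the kernel.
-/

set_option autoImplicit false
set_option linter.style.haveILetI false
set_option linter.unusedSectionVars false

namespace Cfsg.Agent.SEAbelian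

open Subgroup MulAction
open Cfsg.Agent.Involutions
open Cfsg.Agent.SETwoClosed (cj mem_cj conj_mem_cj cj_cj cj_one card_cj cj_eq_self isPGroup_cj IsSyl exists_isSyl
  exists_isSyl_ge mem_normalizer_of_cj mem_normalizer_of_le centralizer_le_normalizer)

universe u

variable {G : Type u} [Group G] [Finite G] {H W : Subgroup G}

/-- A normal `ℓ`-subgroup of the stabilizer inside the kernel. -/
structure NormalSub (W : Subgroup G) (l : ℕ) (a : G ⧸ H) (V : Subgroup G) : Prop where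
  prime : l.Prime
  isPGroup : IsPGroup l ↥V
  le : V ≤ Kx W a
  normal : stabilizer G a ≤ normalizer (V : Set G)

variable {n p : ℕ} (hF : Facts H W n p) [FaithfulSMul G (G ⧸ H)] (IH : IndHyp G)
  {l : ℕ} {a b : G ⧸ H} {V : Subgroup G} (hab : a ≠ b)
include hF IH hab

/-- A `p`-element of the stabilizer outside the kernel has no fixed points on `V`. -/
theorem Facts.fpf_elt (hV : NormalSub W l a V) {y : G} (hy : y • a = a) (hyp : ∃ k : ℕ, y ^ p ^ k = 1)
    (hyK : y ∉ Kx W a) {v : G} (hv : v ∈ V) (hc : Commute y v) : v = 1 := by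
  have h := hF.par.hyp
  haveI := hF.fact
  obtain ⟨T, hT⟩ := exists_isSyl (p := p) (Dp a b)
  obtain ⟨T', hyT, hT'⟩ := exists_isSyl_ge (isPGroup_zpowers_of_pow hyp)
    (zpowers_le.2 (mem_stabilizer_iff.2 hy))
  obtain ⟨g, hg, hgT⟩ := (hF.syl_stab hab hT).conj hT'
  set b' := g • b
  have hab' : a ≠ b' := fun e => hab (MulAction.injective g ((mem_stabilizer_iff.1 hg).trans e))
  have hyb : y • b' = b' := by
    have h1 : y ∈ T' := hyT (mem_zpowers y)
    rw [← hgT] at h1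
    obtain ⟨t, ht, rfl⟩ := h1
    exact conj_smul_fix (mem_inf.1 (hT.1 ht)).2
  have hva : v • a = a := h.Kx_le a (hV.le hv)
  have hz : v • b' = a ∨ v • b' = b' := hF.fix_two a b' _ (zpowers y) hab' (isPGroup_zpowers_of_pow hyp)
    (zpowers_le.2 hy) (zpowers_le.2 hyb) (zpowers_le.2 (mem_stabilizer_iff.2
      (by rw [← mul_smul, hc.eq, mul_smul, hyb]))) fun e => hyK (e (mem_zpowers y))
  rcases hz with e | e
  · exact absurd (MulAction.injective v (hva.trans e.symm)) hab'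
  · exact hF.semireg IH hV.prime hV.isPGroup hV.le hV.normal hab' hv e

/-- An element of a Sylow subgroup of the kernel commuting with a four-group has no fixed points on `V`. -/
theorem Facts.fpf_ker (hV : NormalSub W l a V) {T : Subgroup G} (hT : IsSyl p T (Dp a b)) {j : G}
    (hj : j ∈ T ⊓ Kx W a) (hj1 : j ≠ 1) {x y : G} (hx : orderOf x = 2) (hy : orderOf y = 2)
    (hxa : x • a = a) (hya : y • a = a) (hxy : x ≠ y) (hcxy : Commute x y) (hjx : Commute j x)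
    (hjy : Commute j y) {v : G} (hv : v ∈ V) (hc : Commute j v) : v = 1 := by
  classical
  have h := hF.par.hyp
  haveI := hF.fact
  have hja : j • a = a := (mem_inf.1 (hT.1 (mem_inf.1 hj).1)).1
  have hjb : j • b = b := (mem_inf.1 (hT.1 (mem_inf.1 hj).1)).2
  have hva : v • a = a := h.Kx_le a (hV.le hv)
  set P1 := T ⊓ Kx W a with hP1
  have hP1b : P1 = T ⊓ Kx W b := hF.syl_K a b T hab hT
  set X := centralizer ({j} : Set G)
  have hX : X ≠ ⊤ := fun e => hj1 (FaithfulSMul.eq_of_smul_eq_smul (α := G ⧸ H) fun z => by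
    obtain ⟨g, rfl⟩ := MulAction.exists_smul_eq G a z
    rw [one_smul, ← mul_smul, ← mem_centralizer_singleton_iff.1 (e ▸ mem_top g : g ∈ X), mul_smul, hja])
  by_cases hmov : ∃ g ∈ X, g • a ≠ a
  · obtain ⟨g, hg, hga⟩ := hmov
    have hN := h.slice_fix IH hX ⟨g, hg, hga⟩ (mem_centralizer_singleton_iff.2 hjx.eq.symm)
      (mem_centralizer_singleton_iff.2 hjy.eq.symm) hx hy hxa hya hxy hcxy (N := V ⊓ X)
      (le_inf inf_le_right (inf_le_left.trans (hV.le.trans (h.Kx_le a))))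
      ((h.odd_Kx a).of_dvd_nat (card_dvd_of_le (inf_le_left.trans hV.le)))
      (fun m hm => mem_normalizer_of_le fun r hr => mem_inf.2
        ⟨(mem_normalizer_iff.1 (hV.normal (mem_inf.1 hm).2) r).1 (mem_inf.1 hr).1,
          mul_mem (mul_mem (mem_inf.1 hm).1 (mem_inf.1 hr).2) (inv_mem (mem_inf.1 hm).1)⟩) hg
    exact hF.semireg IH hV.prime hV.isPGroup hV.le hV.normal (Ne.symm hga) hv
      (hN (mem_inf.2 ⟨hv, mem_centralizer_singleton_iff.2 hc.eq.symm⟩))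
  push Not at hmov
  by_contra hv1
  set b' := v • b
  have hbb' : b ≠ b' := fun e => hv1 (hF.semireg IH hV.prime hV.isPGroup hV.le hV.normal hab hv e.symm)
  have hab' : a ≠ b' := fun e => hab (MulAction.injective v (hva.trans e))
  have hjb' : j • b' = b' := by rw [← mul_smul, hc.eq, mul_smul, hjb]
  have hjKb : j ∈ Kx W b := (mem_inf.1 (hP1b ▸ hj : j ∈ T ⊓ Kx W b)).2
  have hjKb' : j ∈ Kx W b' := h.mem_Kx_smul.2 (by rwa [mul_assoc, hc.eq, inv_mul_cancel_left])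
  -- a Sylow subgroup of the kernel at `b` fixing `b'` and containing `j`
  have hT' : IsSyl p T (Dp b a) := by rwa [Dp, inf_comm]
  have hPb : IsSyl p P1 (Kx W b) := hP1b ▸ hF.syl_Kx hab.symm hT'
  obtain ⟨S, hS⟩ := exists_isSyl (p := p) (Dp b b')
  have hScard : Nat.card ↥(S ⊓ Kx W b) = Nat.card ↥P1 := by
    refine Nat.eq_of_mul_eq_mul_left (zero_lt_one.trans hF.par.one_lt_pPart) ?_
    rw [← hF.par.card_syl hbb' hS, ← hF.par.card_syl hab hT]
    exact le_antisymm (hF.sylow a b T S hab hT hS.2.1) (hF.sylow b b' S T hbb' hS hT.2.1)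
  set U := Dp b b' ⊓ Kx W b ⊓ Kx W b'
  obtain ⟨Q1, hjQ, hQ1⟩ := exists_isSyl_ge (D := U) (isPGroup_zpowers_of_pow (exists_pow_eq_one_of_mem
    hT.2.1 (mem_inf.1 hj).1))
    (zpowers_le.2 (mem_inf.2 ⟨mem_inf.2 ⟨mem_inf.2 ⟨hjb, hjb'⟩, hjKb⟩, hjKb'⟩))
  have hQ1b : Q1 ≤ Kx W b := hQ1.1.trans (inf_le_left.trans inf_le_right)
  have hQ1K : IsSyl p Q1 (Kx W b) := hPb.of_card hQ1.2.1 hQ1b (hScard ▸ hQ1.card_le
    (hS.2.1.to_le inf_le_left) fun r hr => mem_inf.2 ⟨mem_inf.2 ⟨hS.1 (mem_inf.1 hr).1, (mem_inf.1 hr).2⟩,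
      (mem_inf.1 (hF.syl_K b b' S hbb' hS ▸ hr : r ∈ S ⊓ Kx W b')).2⟩)
  obtain ⟨k, hk, hkQ⟩ := hPb.conj hQ1K
  -- the conjugating element fixes `a`
  obtain ⟨u, hu, hua, hub, huT⟩ := hF.par.exists_swap_syl hab hT
  have huP : u ∈ normalizer (P1 : Set G) := mem_normalizer_of_le fun r hr => by
    have h1 := h.conj_mem_Kx (g := u) (mem_inf.1 hr).2
    rw [hua] at h1
    rw [hP1b]
    exact mem_inf.2 ⟨huT ▸ conj_mem_cj (mem_inf.1 hr).1, h1⟩
  have hP1a : P1 ≤ stabilizer G a := inf_le_left.trans (hT.1.trans inf_le_left)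
  have hP1ne : P1 ≠ ⊥ := fun e => hj1 (mem_bot.1 (e ▸ hj))
  -- subgroups containing the normalizer of `P1` meet both kernels equally
  have hfullX : ∀ Y : Subgroup G, normalizer (P1 : Set G) ≤ Y → Y ≠ ⊤ → Y ⊓ Kx W a = Y ⊓ Kx W b := by
    intro Y hle hY
    have hfull : ∀ t : G, orderOf t = 2 → t • a = a →
        ∃ s ∈ Y, orderOf s = 2 ∧ s • a = a ∧ s⁻¹ * t ∈ Kx W a := fun t ht hta =>
      h.cover_full (fun g hg => by
        obtain ⟨k', hk', m, hm, hkm⟩ := hF.frattini hab hT hg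
        exact ⟨k', hk', m, hle (mem_inf.1 hm).2, hkm⟩) ht hta
    have hmovY : ∃ g ∈ Y, g • a ≠ a := ⟨u, hle huP, by rw [hua]; exact hab.symm⟩
    have h1 := h.slice_full IH hY hmovY hfull (one_mem Y)
    have h2 := h.slice_full IH hY hmovY hfull (hle huP)
    rw [one_smul] at h1
    rw [hua] at h2
    exact h1.trans h2.symm
  have hP1p : IsPGroup p ↥P1 := hT.2.1.to_le inf_le_left
  have hka : k • a = a := by
    obtain ⟨o, ho, m, hm, rfl⟩ := zj_cover h.abelianTwo hF.par.p_ne_two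
      (Cfsg.Agent.S0205.result (h.odd_Kx b)) hPb hk
    obtain ⟨hmK, hmN⟩ := mem_inf.1 hm
    set O := (Cfsg.pPrimeCore p ↥(Kx W b)).map (Kx W b).subtype
    have hma : m ∈ Kx W a := (mem_inf.1 (((hfullX (normalizer (Cfsg.centerThompsonOf p P1 : Set G))
      (normalizer_le_zj P1) (normalizer_ne_top ((zj_le P1).trans hP1a) (zj_ne_bot hP1p hP1ne))).symm).le
        (mem_inf.2 ⟨hmN, hmK⟩))).2
    have hmfa : m • a = a := h.Kx_le a hma
    have hmfb : m • b = b := h.Kx_le b hmK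
    set U0 := Dp a b ⊓ Kx W a ⊓ Kx W b
    have hmU : m ∈ U0 := mem_inf.2 ⟨mem_inf.2 ⟨mem_inf.2 ⟨hmfa, hmfb⟩, hma⟩, hmK⟩
    have hP1U : P1 ≤ U0 := fun r hr => mem_inf.2 ⟨mem_inf.2 ⟨hT.1 (mem_inf.1 hr).1, (mem_inf.1 hr).2⟩,
      (mem_inf.1 (hP1b ▸ hr : r ∈ T ⊓ Kx W b)).2⟩
    set j2 := o⁻¹ * j * o
    have hj2P : j2 ∈ cj m P1 := by
      have h1 : j ∈ cj o (cj m P1) := by
        rw [cj_cj, hkQ]
        exact hjQ (mem_zpowers j)
      exact mem_cj.1 h1
    have hj2U : j2 ∈ U0 := by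
      obtain ⟨r, hr, e⟩ := hj2P
      rw [← e]
      exact mul_mem (mul_mem hmU (hP1U hr)) (inv_mem hmU)
    have hjU : j ∈ U0 := hP1U hj
    have hOn : Kx W b ≤ normalizer (O : Set G) := fun g hg => mem_normalizer_of_le fun r hr => by
      obtain ⟨r', hr', rfl⟩ := hr
      exact ⟨_, PLocal.Cores.pPrimeCore_normal'.conj_mem r' hr' ⟨g, hg⟩, rfl⟩
    set O' := O ⊓ U0
    have hd0 : j2 * j⁻¹ ∈ O' := mem_inf.2 ⟨by
      rw [show j2 * j⁻¹ = o⁻¹ * (j * o * j⁻¹) by simp only [j2]; group]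
      exact mul_mem (inv_mem ho) ((mem_normalizer_iff.1 (hOn hjKb) o).1 ho), mul_mem hj2U (inv_mem hjU)⟩
    -- `j` and `j2` generate Sylow subgroups of `O' ⊔ zpowers j`
    set C := zpowers j
    have hCn : C ≤ normalizer (O' : Set G) := zpowers_le.2 (mem_normalizer_of_le fun r hr => mem_inf.2
      ⟨(mem_normalizer_iff.1 (hOn hjKb) r).1 (mem_inf.1 hr).1,
        mul_mem (mul_mem hjU (mem_inf.1 hr).2) (inv_mem hjU)⟩)
    set M := O' ⊔ C
    have hO' : (Nat.card ↥O').Coprime p := by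
      refine Nat.Coprime.coprime_dvd_left (card_dvd_of_le inf_le_left) ?_
      rw [card_map_of_injective (Kx W b).subtype_injective]
      exact PLocal.Cores.coprime_card_pPrimeCore
    have hbot : ∀ R : Subgroup G, IsPGroup p ↥R → ∀ r ∈ R, r ∈ O' → r = 1 := fun R hR r hr hrO =>
      mem_bot.1 ((PLocal.Cores.inf_eq_bot_of_isPGroup_of_coprime hR hO') ▸ mem_inf.2 ⟨hr, hrO⟩)
    have hCp : IsPGroup p ↥C := isPGroup_zpowers_of_pow (exists_pow_eq_one_of_mem hP1p hj)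
    have hCM : IsSyl p C M := ⟨le_sup_right, hCp, fun R hle hR hRp => le_antisymm (fun r hr => by
      obtain ⟨e, he, c, hc', rfl⟩ := (Coprime.mem_sup_of_le_normalizer hCn).1 (hR hr)
      have : e ∈ R := by simpa using mul_mem hr (inv_mem (hle hc'))
      rw [hbot R hRp e this he, one_mul]
      exact hc') hle⟩
    have hord : orderOf j2 = orderOf j := by
      rw [show j2 = o⁻¹ * j * o⁻¹⁻¹ by rw [inv_inv], Basic.orderOf_conj]
    have hC2p : IsPGroup p ↥(zpowers j2) := isPGroup_zpowers_of_pow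
      (exists_pow_eq_one_of_mem (isPGroup_cj hP1p m) hj2P)
    have hC2M : IsSyl p (zpowers j2) M := hCM.of_card hC2p (zpowers_le.2 (by
      rw [show j2 = j2 * j⁻¹ * j by group]
      exact mul_mem_sup hd0 (mem_zpowers j))) (le_of_eq (by rw [Nat.card_zpowers, Nat.card_zpowers, hord]))
    obtain ⟨d, hd, hdC⟩ := hCM.conj hC2M
    obtain ⟨e, he, c, hc', rfl⟩ := (Coprime.mem_sup_of_le_normalizer hCn).1 hd
    rw [← cj_cj, cj_eq_self (le_normalizer hc')] at hdC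
    have hej : e * j * e⁻¹ = j2 := by
      refine mul_inv_eq_one.1 (hbot _ hC2p _ ?_ ?_)
      · exact mul_mem (hdC ▸ conj_mem_cj (mem_zpowers j)) (inv_mem (mem_zpowers j2))
      · rw [show e * j * e⁻¹ * j2⁻¹ = e * (j * e⁻¹ * j⁻¹) * (j2 * j⁻¹)⁻¹ by group]
        exact mul_mem (mul_mem he ((mem_normalizer_iff.1 (hCn (mem_zpowers j)) e⁻¹).1 (inv_mem he)))
          (inv_mem hd0)
    have hoe : o * e ∈ X := mem_centralizer_singleton_iff.2 (by
      rw [← mul_inv_eq_iff_eq_mul, show o * e * j * (o * e)⁻¹ = o * (e * j * e⁻¹) * o⁻¹ by group, hej]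
      simp only [j2]; group)
    have h1 := hmov _ hoe
    have hea : e • a = a := (mem_inf.1 (mem_inf.1 (mem_inf.1 (mem_inf.1 he).2).1).1).1
    rw [mul_smul, hea] at h1
    rw [mul_smul, hmfa, h1]
  -- the final contradiction
  have hkb : k • b = b := h.Kx_le b hk
  have hQ1a : Q1 ≤ Kx W a := by
    rw [← hkQ]
    rintro _ ⟨r, hr, rfl⟩
    exact h.Kx_normal hka (mem_inf.1 hr).2
  set U1 := Dp a b' ⊓ Kx W a ⊓ Kx W b'
  have hQ1U : Q1 ≤ U1 := fun r hr => mem_inf.2 ⟨mem_inf.2 ⟨mem_inf.2 ⟨h.Kx_le a (hQ1a hr),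
    h.Kx_le b' (mem_inf.1 (hQ1.1 hr)).2⟩, hQ1a hr⟩, (mem_inf.1 (hQ1.1 hr)).2⟩
  have hvQU : cj v Q1 ≤ U1 := by
    rintro _ ⟨r, hr, rfl⟩
    exact mem_inf.2 ⟨mem_inf.2 ⟨mem_inf.2 ⟨h.Kx_le a (h.Kx_normal hva (hQ1a hr)),
      h.Kx_le b' (h.conj_mem_Kx (hQ1b hr))⟩, h.Kx_normal hva (hQ1a hr)⟩, h.conj_mem_Kx (hQ1b hr)⟩
  have hQ1card : Nat.card ↥Q1 = Nat.card ↥P1 := by rw [← hkQ, card_cj]
  have hQ1U1 : IsSyl p Q1 U1 := ⟨hQ1U, hQ1.2.1, fun R hle hR hRp => (eq_of_le_of_card_ge hle (hQ1card ▸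
    (hF.syl_Kx hab hT).card_le hRp (hR.trans (inf_le_left.trans inf_le_right)))).symm⟩
  obtain ⟨d, hd, hdQ⟩ := hQ1U1.conj (hQ1U1.of_card (isPGroup_cj hQ1.2.1 v) hvQU (le_of_eq (card_cj _ _).symm))
  set w := k⁻¹ * (v⁻¹ * d) * k
  have hkia : k⁻¹ • a = a := inv_smul_eq_iff.2 hka.symm
  have hwK : w ∈ Kx W a := by
    have h1 := h.Kx_normal hkia (mul_mem (inv_mem (hV.le hv)) (mem_inf.1 (mem_inf.1 hd).1).2)
    rwa [inv_inv] at h1
  have hwP : w ∈ normalizer (P1 : Set G) := mem_normalizer_of_cj (by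
    simp only [w]
    rw [← cj_cj, hkQ, ← cj_cj, ← cj_cj, hdQ, cj_cj v⁻¹ v, inv_mul_cancel, cj_one, ← hkQ, cj_cj,
      inv_mul_cancel, cj_one])
  have hwb : w • b = b := h.Kx_le b ((mem_inf.1 ((hfullX (normalizer (P1 : Set G)) le_rfl
    (normalizer_ne_top hP1a hP1ne)).le (mem_inf.2 ⟨hwP, hwK⟩))).2)
  have hdb : d • b = b' := by
    have h1 : (v⁻¹ * d) • b = b := by
      simp only [w, mul_smul, hkb, inv_smul_eq_iff] at hwb
      rw [mul_smul, inv_smul_eq_iff]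
      exact hwb
    rwa [mul_smul, inv_smul_eq_iff] at h1
  exact hbb' (MulAction.injective d (hdb.trans (mem_inf.1 (mem_inf.1 (mem_inf.1 hd).1).1).2.symm))

end Cfsg.Agent.SEAbelian
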