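import Cfsg.Agent.Lib.SEAbelian.Slice

/-!
# The core lemma: the length of an orbit

When a proper subgroup covers the involutions at a point it moves, theorem T for its quotient by the odd
core shows that the orbit of the point has `2 (mod p)` points.
-/

set_option autoImplicit false
set_option linter.style.haveILetI false
set_option linter.unusedSectionVars false

namespace Cfsg.Agent.SETwoClosed

open Subgroup MulAction

universe u

/-- Theorem T gives the number of points. -/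
theorem Hyp.card_points {G : Type u} [Group G] [Finite G] {H : Subgroup G} (h : Hyp H) :
    ∃ i : ℕ, Nat.card (G ⧸ H) = Nat.card ↥(Wx (base H)) ^ i + 1 := by
  have hC := h.concl
  obtain ⟨i, -, -, hi⟩ := hC.card
  obtain ⟨u, hu, -⟩ := Involutions.StronglyEmbedded.exists_involution_notMem h.se
  set y0 := u • base H
  have hy0 : y0 ≠ base H := fun e => hu (smul_base_iff.1 e)
  have hbij : Function.Bijective (fun s : ↥(Sx (base H)) => (⟨(s : G) • y0, fun e => hy0 (by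
      rw [← inv_smul_smul (s : G) y0, e, inv_smul_eq_iff, mem_stabilizer_iff.1 (Sx_le _ s.2)])⟩ :
      {y : G ⧸ H // y ≠ base H})) := by
    refine ⟨fun s t est => ?_, fun y => ?_⟩
    · have h1 : ((t : G)⁻¹ * s) • y0 = y0 := by
        rw [mul_smul, show (s : G) • y0 = (t : G) • y0 from congrArg Subtype.val est, inv_smul_smul]
      exact Subtype.ext (inv_mul_eq_one.1
        (h.eq_one_of_fix_two hy0.symm (mul_mem (inv_mem t.2) s.2) h1)).symm
    · obtain ⟨s, hs, hsy⟩ := hC.trans y0 y hy0 y.2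
      exact ⟨⟨s, hs⟩, Subtype.ext hsy⟩
  refine ⟨i, ?_⟩
  rw [← hi, Nat.card_eq_of_bijective _ hbij]
  have h1 : ({base H}ᶜ : Set (G ⧸ H)).ncard = Nat.card (G ⧸ H) - 1 := by
    rw [Set.ncard_compl, Set.ncard_singleton]
  rw [← Nat.card_coe_set_eq] at h1
  have h2 := Nat.card_pos (α := G ⧸ H)
  show Nat.card (G ⧸ H) = Nat.card ↥({base H}ᶜ : Set (G ⧸ H)) + 1
  omega

end Cfsg.Agent.SETwoClosed

namespace Cfsg.Agent.SEAbelian

open Subgroup MulAction
open Cfsg.Agent.Involutions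
open Cfsg.Agent.SETwoClosed (TwoEl)

universe u

variable {G : Type u} [Group G] [Finite G] {H W : Subgroup G}

theorem Par.two_pow_sub_ne {n p : ℕ} (hP : Par H W n p) : 2 ^ n - 1 ≠ 0 := by
  have := Nat.one_lt_two_pow (show n ≠ 0 by have := hP.two_le; omega)
  omega

/-- The orbit of a point moved by a covering proper subgroup. -/
theorem Par.orbit_modEq {n p : ℕ} (hP : Par H W n p) (IH : IndHyp G) {X : Subgroup G} (hX : X ≠ ⊤)
    {d : G ⧸ H} (hmov : ∃ x ∈ X, x • d ≠ d)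
    (hfull : ∀ t : G, orderOf t = 2 → t • d = d →
      ∃ s ∈ X, orderOf s = 2 ∧ s • d = d ∧ s⁻¹ * t ∈ Kx W d) :
    (orbit ↥X d).ncard ≡ 2 [MOD p] := by
  classical
  have h := hP.hyp
  have hO : X ⊓ Kx W d = oc X := by
    simpa using h.slice_full IH hX hmov hfull (one_mem X)
  haveI : (Cfsg.oddCore ↥X).Normal := PLocal.Cores.pPrimeCore_normal'
  set N := Cfsg.oddCore ↥X
  set K := stabilizer ↥X d
  have hK : ∀ x : ↥X, x ∈ K ↔ (x : G) • d = d := fun x => Iff.rfl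
  have hNmem : ∀ x : ↥X, x ∈ N ↔ (x : G) ∈ Kx W d := by
    intro x
    constructor
    · intro hx
      exact (mem_inf.1 (hO.symm.le (show (x : G) ∈ oc X from ⟨x, hx, rfl⟩))).2
    · intro hx
      obtain ⟨y, hy, e⟩ := hO.le (mem_inf.2 ⟨x.2, hx⟩)
      rwa [← Subtype.ext (a1 := y) (a2 := x) e]
  have hNK : N ≤ K := fun x hx => (hK x).2 (h.Kx_le d ((hNmem x).1 hx))
  set π := QuotientGroup.mk' N
  set K' := K.map π
  -- lifting of two-elements
  have hlift : ∀ q ∈ K', TwoEl q → ∃ x : ↥X, x ∈ K ∧ TwoEl x ∧ π x = q ∧ (q * q = 1 → x * x = 1) := by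
    intro q hq hq2
    exact SETwoClosed.exists_lift hNK (Nat.coprime_two_right.1 PLocal.Cores.coprime_card_pPrimeCore) hq hq2
  have hmk : ∀ {g : ↥X}, π g ∈ K' ↔ g ∈ K := SETwoClosed.mk_mem_map hNK
  have hT : ∀ x : ↥X, x ∈ K → TwoEl x → (x : G) ∈ Tx W d := fun x hx hx2 =>
    h.mem_Tx.2 ⟨(hK x).1 hx, hx2.imp fun k hk => by
      rw [← Subgroup.coe_pow, hk, OneMemClass.coe_one]; exact one_mem _⟩
  have hinv : ∀ x : ↥X, orderOf x = 2 → orderOf (π x) = 2 := fun x hx => by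
    refine Basic.orderOf_two_iff.2 ⟨by rw [← map_mul, Basic.inv_sq_one hx, map_one], fun e => ?_⟩
    have := h.odd_orderOf ((hNmem x).1 ((QuotientGroup.eq_one_iff _).1 e))
    rw [Subgroup.orderOf_coe, hx] at this
    exact absurd this (by decide)
  obtain ⟨a, b, ha, hb, had, hbd, hab, hc, habK⟩ := h.exists_four d
  obtain ⟨a', haX, ha', had', haa⟩ := hfull a ha had
  obtain ⟨b', hbX, hb', hbd', hbb⟩ := hfull b hb hbd
  have hab' : a' * b' ∉ Kx W d := fun e => habK (by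
    rw [show a * b = a' * ((a'⁻¹ * a) * b') * ((b'⁻¹ * b)) by group]
    refine mul_mem ?_ hbb
    rw [show a' * (a'⁻¹ * a * b') = (a' * (a'⁻¹ * a) * a'⁻¹) * (a' * b') by group]
    exact mul_mem (h.Kx_normal had' haa) e)
  have ha'' : orderOf (⟨a', haX⟩ : ↥X) = 2 := by rw [Subgroup.orderOf_mk, ha']
  have hb'' : orderOf (⟨b', hbX⟩ : ↥X) = 2 := by rw [Subgroup.orderOf_mk, hb']
  have hyp : SETwoClosed.Hyp K' := by
    refine ⟨StronglyEmbedded.of_conj (fun e => ?_) ?_ (fun t ht ht2 g hg => ?_), fun x hx y hy hx2 hy2 => ?_,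
      ⟨π ⟨a', haX⟩, hmk.2 ((hK _).2 had'), π ⟨b', hbX⟩, hmk.2 ((hK _).2 hbd'), hinv _ ha'', hinv _ hb'',
        fun e => hab' ?_, ?_⟩⟩
    · obtain ⟨x, hx, hxd⟩ := hmov
      exact hxd ((hK ⟨x, hx⟩).1 (hmk.1 (e ▸ mem_top (π ⟨x, hx⟩))))
    · rw [even_iff_two_dvd, ← hinv _ ha'']
      exact orderOf_coe (⟨π ⟨a', haX⟩, hmk.2 ((hK _).2 had')⟩ : ↥K') ▸ orderOf_dvd_natCard _
    · obtain ⟨x, hx, -, rfl, hxsq⟩ := hlift t ht (SETwoClosed.twoEl_of_sq (Basic.inv_sq_one ht2))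
      obtain ⟨g, rfl⟩ := QuotientGroup.mk_surjective g
      refine hmk.2 ((hK g).2 ?_)
      have hx2 : orderOf (x : G) = 2 := by
        rw [Subgroup.orderOf_coe]
        exact Basic.orderOf_two_iff.2 ⟨hxsq (Basic.inv_sq_one ht2), fun e => Basic.ne_one ht2 (by rw [e, map_one])⟩
      have hgx : g * x * g⁻¹ ∈ K := hmk.1 (by rw [map_mul, map_mul, map_inv]; exact hg)
      exact h.eq_of_fixed (by rw [Basic.orderOf_conj, hx2]) (conj_smul_fix ((hK x).1 hx)) ((hK _).1 hgx)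
    · obtain ⟨x', hx', hx'2, rfl, -⟩ := hlift x hx hx2
      obtain ⟨y', hy', hy'2, rfl, -⟩ := hlift y hy hy2
      obtain ⟨-, k, hk⟩ := h.mem_Tx.1 (mul_mem (hT x' hx' hx'2) (hT y' hy' hy'2))
      refine ⟨k, ?_⟩
      rw [← map_mul, ← map_pow]
      exact (QuotientGroup.eq_one_iff _).2 ((hNmem _).2 hk)
    · have h1 : (⟨a', haX⟩ : ↥X)⁻¹ * ⟨b', hbX⟩ ∈ N := QuotientGroup.eq.1 e
      have h2 := (hNmem _).1 h1
      rwa [Subgroup.coe_mul, Subgroup.coe_inv, Subgroup.coe_mk, Subgroup.coe_mk, Basic.inv_eq ha'] at h2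
    · have h1 := h.Tx_comm (h.mem_Tx_of_inv (Basic.inv_sq_one ha') had')
        (h.mem_Tx_of_inv (Basic.inv_sq_one hb') hbd')
      refine mul_inv_eq_one.1 ?_
      rw [← map_mul, ← map_mul, ← map_inv, ← map_mul]
      refine (QuotientGroup.eq_one_iff _).2 ((hNmem _).2 ?_)
      rw [show ((⟨a', haX⟩ * ⟨b', hbX⟩ * (⟨b', hbX⟩ * ⟨a', haX⟩)⁻¹ : ↥X) : G) = a' * b' * (b' * a')⁻¹ from rfl,
        mul_inv_rev, ← mul_assoc]
      exact h1
  obtain ⟨i, hi⟩ := hyp.card_points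
  -- the involutions modulo the core
  have hW : Nat.card ↥(SETwoClosed.Wx (SETwoClosed.base K')) = 2 ^ n := by
    set S := stabilizer G d
    haveI : ((Kx W d).subgroupOf S).Normal := ⟨fun e he g => h.Kx_normal (mem_stabilizer_iff.1 g.2) he⟩
    set f := QuotientGroup.mk' ((Kx W d).subgroupOf S)
    have h1 : Nat.card ↥((((X ⊓ Ex W d)).subgroupOf S).map f) = 2 ^ n := by
      rw [← hP.card_E d, ← relIndex_subgroupOf (H := Kx W d) (h.Ex_le d)]
      conv_rhs => rw [← QuotientGroup.ker_mk' ((Kx W d).subgroupOf S), relIndex_ker]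
      congr 2
      refine le_antisymm (map_mono fun e he => (mem_inf.1 he).2) ?_
      rintro _ ⟨e, he, rfl⟩
      by_cases heK : (e : G) ∈ Kx W d
      · refine ⟨1, one_mem _, ?_⟩
        rw [map_one]
        exact ((QuotientGroup.eq_one_iff e).2 (mem_subgroupOf.2 heK)).symm
      obtain ⟨t, ht, htd, hte, -⟩ := h.exists_invol he heK
      obtain ⟨s, hsX, hs, hsd, hst⟩ := hfull t ht htd
      refine ⟨⟨s, mem_stabilizer_iff.2 hsd⟩, mem_inf.2 ⟨hsX, h.mem_Ex_of_inv hs hsd⟩, QuotientGroup.eq.2 ?_⟩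
      rw [mem_subgroupOf]
      show s⁻¹ * (e : G) ∈ Kx W d
      rw [show s⁻¹ * (e : G) = (s⁻¹ * t) * (t⁻¹ * e) by group]
      exact mul_mem hst hte
    have h2 : SETwoClosed.Wx (SETwoClosed.base K') = ((X ⊓ Ex W d).subgroupOf X).map π := by
      ext q
      rw [hyp.mem_Wx, SETwoClosed.smul_base_iff]
      constructor
      · rintro ⟨hq, hq2⟩
        obtain ⟨x, hx, -, rfl, hxsq⟩ := hlift q hq (SETwoClosed.twoEl_of_sq hq2)
        refine ⟨x, mem_inf.2 ⟨x.2, h.mem_Ex.2 ⟨(hK x).1 hx, ?_⟩⟩, rfl⟩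
        rw [show X.subtype x * X.subtype x = ((x * x : ↥X) : G) from rfl, hxsq hq2, OneMemClass.coe_one]
        exact one_mem _
      · rintro ⟨x, hx, rfl⟩
        obtain ⟨hxd, hxsq⟩ := h.mem_Ex.1 (mem_inf.1 hx).2
        exact ⟨hmk.2 ((hK x).2 hxd), by rw [← map_mul]; exact (QuotientGroup.eq_one_iff _).2 ((hNmem _).2 hxsq)⟩
    rw [h2, ← relIndex_ker, QuotientGroup.ker_mk', ← h1, ← relIndex_ker, QuotientGroup.ker_mk',
      show N = (Kx W d).subgroupOf X from Subgroup.ext hNmem, relIndex_subgroupOf inf_le_left,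
      relIndex_subgroupOf (inf_le_right.trans (h.Ex_le d))]
  have horb : (orbit ↥X d).ncard = Nat.card ((↥X ⧸ N) ⧸ K') := by
    rw [← Nat.card_coe_set_eq, Nat.card_congr (orbitEquivQuotientStabilizer ↥X d)]
    exact (index_map_eq (H := K) (f := π) (QuotientGroup.mk'_surjective N)
      (by rw [QuotientGroup.ker_mk']; exact hNK)).symm
  rw [horb, hi, hW]
  have h1 : 2 ^ n ≡ 1 [MOD p] := ((Nat.modEq_iff_dvd' Nat.one_le_two_pow).2 hP.dvd).symm
  simpa using (h1.pow i).add_right 1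

end Cfsg.Agent.SEAbelian
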