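import Cfsg.Agent.Lib.SEAbelian.ReduceRankTwo
import Cfsg.Agent.Lib.SECore.NoBadBasic

/-!
# Reduction to simple groups

A nonsolvable group with abelian Sylow 2-subgroups and solvable centralizers of involutions has, modulo
its odd core, a simple normal subgroup with trivial centralizer of the same kind.
-/

set_option autoImplicit false
set_option linter.style.haveILetI false

namespace Cfsg.Agent.SEAbelian

open Subgroup
open Cfsg.Agent.Involutions

universe u

/-- The simple groups of this kind are the groups of the conclusion. -/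
def SimpleCase : Prop :=
  ∀ (G : Type u) [Group G] [Finite G] [IsSimpleGroup G], ¬ IsMulCommutative G → AbTwo G →
    (∀ t : G, orderOf t = 2 → Group.IsSolvable ↥(centralizer ({t} : Set G))) → Out G

variable {G : Type u} [Group G] [Finite G]

/-- Centralizers of involutions stay solvable modulo the odd core. -/
theorem solvable_cent_quotient
    (hC : ∀ t : G, orderOf t = 2 → Group.IsSolvable ↥(centralizer ({t} : Set G)))
    {x : G ⧸ Cfsg.oddCore G} (hx : orderOf x = 2) :
    Group.IsSolvable ↥(centralizer ({x} : Set (G ⧸ Cfsg.oddCore G))) := by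
  set f := QuotientGroup.mk' (Cfsg.oddCore G)
  obtain ⟨g, rfl⟩ := QuotientGroup.mk'_surjective (Cfsg.oddCore G) x
  obtain ⟨j, m, hm, hgm⟩ := exists_parts g
  set t := g ^ m
  have hft : f t = f g := by
    obtain ⟨c, hc⟩ := hm
    rw [map_pow, hc, pow_succ, pow_mul, show f g ^ 2 = 1 by rw [← hx]; exact pow_orderOf_eq_one _,
      one_pow, one_mul]
  have htt : t * t = 1 := by
    have h1 : t * t ∈ Cfsg.oddCore G := (QuotientGroup.eq_one_iff _).1 (by
      show f (t * t) = 1
      rw [map_mul, hft]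
      exact Basic.inv_sq_one hx)
    refine (mem_bot).1 (mem_of_pow_two ((Agent.Cores.oddCore_odd (G := G)).of_dvd_nat
      (Subgroup.orderOf_dvd_natCard _ h1)) (k := j) ?_)
    rw [← pow_two, ← pow_mul, mul_comm 2, pow_mul, ← pow_mul g, mul_comm m, hgm, one_pow]
    exact one_mem _
  have ht : orderOf t = 2 := Basic.orderOf_two_iff.2 ⟨htt, fun e => by
    rw [e, map_one] at hft
    rw [← hft, orderOf_one] at hx
    omega⟩
  haveI := hC t ht
  rw [← hft]
  have hle : centralizer ({f t} : Set (G ⧸ Cfsg.oddCore G)) ≤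
      (centralizer ({t} : Set G)).map f := by
    intro y hy
    obtain ⟨y, rfl⟩ := QuotientGroup.mk'_surjective (Cfsg.oddCore G) y
    have hy' : f y * f t = f t * f y := mem_centralizer_singleton_iff.1 hy
    have h1 : y⁻¹ * t * y * t ∈ Cfsg.oddCore G := (QuotientGroup.eq_one_iff _).1 (by
      show f (y⁻¹ * t * y * t) = 1
      rw [map_mul, map_mul, map_mul, map_inv, mul_assoc (f y)⁻¹, ← hy', ← mul_assoc,
        inv_mul_cancel, one_mul, ← map_mul, htt, map_one])
    have htn : t ∈ normalizer (Cfsg.oddCore G : Set G) := by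
      rw [normalizer_eq_top]
      exact mem_top t
    obtain ⟨c, hc, hcomm⟩ := SECore.exists_fixed_coset htt htn Agent.Cores.oddCore_odd h1
    refine ⟨y * c, mem_centralizer_singleton_iff.2 hcomm.eq, ?_⟩
    rw [map_mul, show f c = 1 from (QuotientGroup.eq_one_iff _).2 hc, mul_one]
  haveI := Coprime.isSolvable_map f (hC t ht)
  exact Group.isSolvable_of_isSolvable_injective (Subgroup.inclusion_injective hle)

theorem exists_min {P : Subgroup G → Prop} (h : ∃ K, P K) :
    ∃ K, P K ∧ ∀ K', P K' → Nat.card K ≤ Nat.card K' := by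
  obtain ⟨K₀, hK₀⟩ := h
  haveI : Nonempty {K // P K} := ⟨⟨K₀, hK₀⟩⟩
  obtain ⟨⟨K, hK⟩, hmin⟩ := Finite.exists_min fun K : {K // P K} => Nat.card K.1
  exact ⟨K, hK, fun K' h' => hmin ⟨K', h'⟩⟩

/-- In a nonsolvable group without odd core some normal subgroup is simple with trivial centralizer. -/
theorem exists_simple_normal (h : AbTwo G) (h0 : Cfsg.oddCore G = ⊥) (hns : ¬ Group.IsSolvable G)
    (hC : ∀ t : G, orderOf t = 2 → Group.IsSolvable ↥(centralizer ({t} : Set G))) :
    ∃ N : Subgroup G, N.Normal ∧ IsSimpleGroup ↥N ∧ ¬ IsMulCommutative ↥N ∧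
      centralizer (N : Set G) = ⊥ := by
  haveI : Fact (Nat.Prime 2) := ⟨Nat.prime_two⟩
  obtain ⟨N, ⟨hNn, hN1⟩, hmin⟩ := exists_min (P := fun K : Subgroup G => K.Normal ∧ K ≠ ⊥)
    ⟨⊤, inferInstance, fun e => hns (by
      refine ⟨⟨0, ?_⟩⟩
      rw [derivedSeries_zero, e])⟩
  haveI := hNn
  have hNeq : ∀ K : Subgroup G, K.Normal → K ≤ N → K ≠ ⊥ → K = N := fun K hK hle hne =>
    eq_of_le_of_card_ge hle (hmin K ⟨hK, hne⟩)
  have heven : ∀ K : Subgroup G, K.Normal → K ≠ ⊥ → ∃ t ∈ K, orderOf t = 2 := fun K hK hne => by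
    haveI := hK
    refine StronglyEmbedded.exists_involution_mem (Nat.not_odd_iff_even.1 fun hodd => hne ?_)
    exact le_bot_iff.1 (h0 ▸ Agent.Cores.le_oddCore hodd)
  -- `N` is not abelian
  have hNab : ¬ ∀ a ∈ N, ∀ b ∈ N, Commute a b := by
    intro hab
    let N₂ : Subgroup G :=
      { carrier := {x | x ∈ N ∧ x * x = 1}
        one_mem' := ⟨one_mem _, one_mul 1⟩
        mul_mem' := fun {a b} ha hb => ⟨mul_mem ha.1 hb.1, by
          rw [show a * b * (a * b) = a * (b * a) * b by group, ← (hab a ha.1 b hb.1).eq,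
            show a * (a * b) * b = (a * a) * (b * b) by group, ha.2, hb.2, one_mul]⟩
        inv_mem' := fun {a} ha => ⟨inv_mem ha.1, by rw [← mul_inv_rev, ha.2, inv_one]⟩ }
    obtain ⟨t, htN, ht⟩ := heven N hNn hN1
    have hN₂ : N₂ = N := hNeq N₂ ⟨fun x hx g => ⟨hNn.conj_mem x hx.1 g, by
      rw [show g * x * g⁻¹ * (g * x * g⁻¹) = g * (x * x) * g⁻¹ by group, hx.2, mul_one,
        mul_inv_cancel]⟩⟩ (fun x hx => hx.1) fun e => Basic.ne_one ht
        (mem_bot.1 (e ▸ (show t ∈ N₂ from ⟨htN, Basic.inv_sq_one ht⟩)))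
    have hp : IsPGroup 2 ↥N := fun x => ⟨1, Subtype.ext (by
      rw [Subgroup.coe_pow, pow_one, pow_two]
      exact (hN₂.symm ▸ x.2 : (x : G) ∈ N₂).2)⟩
    let S : Sylow 2 G := default
    have hNS : N ≤ (S : Subgroup G) :=
      (Agent.Cores.le_pCore hp).trans (Agent.Cores.pCore_le_sylow S)
    have hSC : (S : Subgroup G) ≤ centralizer (N : Set G) := fun s hs =>
      mem_centralizer_iff.2 fun x hx => (h _ S.2 x (hNS hx) s hs).eq
    haveI : Group.IsSolvable ↥(centralizer (N : Set G)) := by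
      haveI := hC t ht
      exact Group.isSolvable_of_isSolvable_injective (Subgroup.inclusion_injective
        (centralizer_le (Set.singleton_subset_iff.2 htN)))
    refine hns (ZStar.CyclicIntersections.isSolvable_ext (centralizer (N : Set G)) inferInstance
      (S0205.result ?_))
    rw [← index_eq_card]
    refine (Nat.odd_iff.2 (Nat.two_dvd_ne_zero.1 S.not_dvd_index)).of_dvd_nat ?_
    exact Subgroup.index_dvd_of_le hSC
  obtain ⟨L, ⟨hLN, hL1, hLn⟩, hLmin⟩ := exists_min
    (P := fun K : Subgroup G => K ≤ N ∧ K ≠ ⊥ ∧ N ≤ normalizer (K : Set G))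
    ⟨N, le_rfl, hN1, le_normalizer⟩
  have hLeq : ∀ K : Subgroup G, K ≤ L → K ≠ ⊥ → N ≤ normalizer (K : Set G) → K = L :=
    fun K hle hne hn => eq_of_le_of_card_ge hle (hLmin K ⟨hle.trans hLN, hne, hn⟩)
  have hconj_mem : ∀ g x : G, x ∈ L.map (MulAut.conj g).toMonoidHom ↔ g⁻¹ * x * g ∈ L := fun g x =>
    ⟨by rintro ⟨r, hr, rfl⟩; simpa [mul_assoc] using hr, fun hx => ⟨_, hx, by simp [mul_assoc]⟩⟩
  -- conjugates of `L` commute or are equal
  have hconj : ∀ g : G, L.map (MulAut.conj g).toMonoidHom = L ∨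
      ∀ a ∈ L, ∀ b ∈ L.map (MulAut.conj g).toMonoidHom, Commute a b := by
    intro g
    set L' := L.map (MulAut.conj g).toMonoidHom with hL'
    have hL'N : L' ≤ N := fun x hx => by
      have := hNn.conj_mem _ (hLN ((hconj_mem g x).1 hx)) g
      simpa [mul_assoc] using this
    have hn' : N ≤ normalizer (L' : Set G) := by
      intro n hn
      have hn1 := mem_normalizer_iff.1 (hLn (show g⁻¹ * n * g ∈ N by
        simpa using hNn.conj_mem n hn g⁻¹))
      refine mem_normalizer_iff.2 fun x => ?_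
      rw [hconj_mem, hconj_mem, hn1 (g⁻¹ * x * g)]
      simp [mul_assoc]
    by_cases hi : L ⊓ L' = ⊥
    · right
      intro a ha b hb
      have h1 : a * b * a⁻¹ * b⁻¹ ∈ L ⊓ L' := ⟨by
        have := mul_mem ha ((mem_normalizer_iff.1 (hLn (hL'N hb)) _).1 (inv_mem ha))
        simpa [mul_assoc] using this,
        L'.mul_mem ((mem_normalizer_iff.1 (hn' (hLN ha)) _).1 hb) (L'.inv_mem hb)⟩
      rw [hi, mem_bot] at h1
      exact mul_inv_eq_iff_eq_mul.1 (mul_inv_eq_one.1 h1)
    · left
      have h1 : L ⊓ L' = L := hLeq _ inf_le_left hi fun n hn => mem_normalizer_iff.2 fun x => by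
        simp only [mem_inf]
        rw [← mem_normalizer_iff.1 (hLn hn) x, ← mem_normalizer_iff.1 (hn' hn) x]
      exact (eq_of_le_of_card_ge (inf_eq_left.1 h1)
        (Subgroup.card_map_of_injective (MulAut.conj g).injective).le).symm
  -- `L` is perfect
  have hLperf : ¬ Group.IsSolvable ↥L := by
    intro hsol
    haveI : Nontrivial ↥L := (Subgroup.nontrivial_iff_ne_bot L).2 hL1
    have hlt := Group.IsSolvable.commutator_lt_top_of_nontrivial ↥L
    have hcomm : ⁅L, L⁆ = ⊥ := by
      by_contra hne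
      have hn : N ≤ normalizer ((⁅L, L⁆ : Subgroup G) : Set G) := by
        intro n hn
        rw [mem_normalizer_iff_map_conj_eq, map_commutator,
          mem_normalizer_iff_map_conj_eq.1 (hLn hn)]
      have heq := hLeq _ (commutator_le_self L) hne hn
      refine hlt.ne ((eq_top_iff' _).2 fun x => ?_)
      have hx : (x : G) ∈ (commutator ↥L).map L.subtype := by
        rw [map_subtype_commutator, heq]
        exact x.2
      obtain ⟨y, hy, hyx⟩ := hx
      exact Subtype.ext hyx ▸ hy
    have hLab : ∀ a ∈ L, ∀ b ∈ L, Commute a b := fun a ha b hb =>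
      commutatorElement_eq_one_iff_mul_comm.1 (mem_bot.1 (hcomm ▸ commutator_mem_commutator ha hb))
    apply hNab
    have hNC : normalClosure (L : Set G) = N := hNeq _ inferInstance
      (normalClosure_le_normal hLN) fun e => hL1 (le_bot_iff.1 (e ▸ subset_normalClosure))
    have hsc : IsMulCommutative ↥(closure (Group.conjugatesOfSet (L : Set G))) := by
      refine isMulCommutative_closure fun x hx y hy => ?_
      obtain ⟨a, ha, hxa⟩ := Group.mem_conjugatesOfSet_iff.1 hx
      obtain ⟨b, hb, hyb⟩ := Group.mem_conjugatesOfSet_iff.1 hy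
      obtain ⟨g, rfl⟩ := isConj_iff.1 hxa
      obtain ⟨g', rfl⟩ := isConj_iff.1 hyb
      have h1 : Commute a (g⁻¹ * (g' * b * g'⁻¹) * g) := by
        have hmem : g⁻¹ * (g' * b * g'⁻¹) * g ∈ L.map (MulAut.conj (g⁻¹ * g')).toMonoidHom :=
          ⟨b, hb, by simp [mul_assoc]⟩
        rcases hconj (g⁻¹ * g') with h2 | h2
        · exact hLab a ha _ (h2 ▸ hmem)
        · exact h2 a ha _ hmem
      have h2 := (h1.map (MulAut.conj g).toMonoidHom).eq
      simpa [mul_assoc] using h2
    intro a ha b hb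
    rw [← hNC] at ha hb
    exact congrArg Subtype.val (hsc.is_comm.comm ⟨a, ha⟩ ⟨b, hb⟩)
  have hLnormal : L.Normal := by
    refine ⟨fun x hx g => ?_⟩
    rcases hconj g with h1 | h1
    · rw [← h1]
      exact ⟨x, hx, rfl⟩
    exfalso
    have hev : Even (Nat.card L) := Nat.not_odd_iff_even.1 fun ho => hLperf (S0205.result ho)
    obtain ⟨t, ht, ht2⟩ := StronglyEmbedded.exists_involution_mem hev
    haveI := hC (g * t * g⁻¹) (by rw [Basic.orderOf_conj, ht2])
    have hle : L ≤ centralizer ({g * t * g⁻¹} : Set G) := fun a ha =>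
      mem_centralizer_singleton_iff.2 (h1 a ha _ ⟨t, ht, rfl⟩).eq
    exact hLperf (Group.isSolvable_of_isSolvable_injective (Subgroup.inclusion_injective hle))
  obtain rfl : L = N := hNeq L hLnormal hLN hL1
  refine ⟨L, hNn, ?_, fun hc => hNab fun a ha b hb =>
    congrArg Subtype.val (hc.is_comm.comm ⟨a, ha⟩ ⟨b, hb⟩), ?_⟩
  · haveI : Nontrivial ↥L := (Subgroup.nontrivial_iff_ne_bot L).2 hN1
    refine ⟨fun K hK => ?_⟩
    by_cases hK0 : K = ⊥
    · exact Or.inl hK0
    · right
      have hmap : K.map L.subtype = L := hLeq _ (map_subtype_le K)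
        (fun e => hK0 ((map_eq_bot_iff_of_injective _ L.subtype_injective).1 e)) fun n hn =>
          mem_normalizer_iff.2 fun x => ⟨by
            rintro ⟨k, hk, rfl⟩
            exact ⟨⟨n, hn⟩ * k * ⟨n, hn⟩⁻¹, hK.conj_mem k hk _, rfl⟩, by
            rintro ⟨k, hk, hkx⟩
            refine ⟨⟨n, hn⟩⁻¹ * k * ⟨n, hn⟩, hK.conj_mem' k hk _, ?_⟩
            show n⁻¹ * (k : G) * n = x
            rw [show (k : G) = n * x * n⁻¹ from hkx]
            group⟩
      refine (eq_top_iff' _).2 fun x => ?_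
      obtain ⟨y, hy, hyx⟩ := (hmap.symm ▸ x.2 : (x : G) ∈ K.map L.subtype)
      exact Subtype.ext hyx ▸ hy
  · by_contra hne
    obtain ⟨t, ht, ht2⟩ := heven (centralizer (L : Set G)) normal_centralizer hne
    haveI := hC t ht2
    have hle : L ≤ centralizer ({t} : Set G) := fun a ha =>
      mem_centralizer_singleton_iff.2 (mem_centralizer_iff.1 ht a ha)
    exact hLperf (Group.isSolvable_of_isSolvable_injective (Subgroup.inclusion_injective hle))

/-- The theorem from the simple case. -/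
theorem conclusion_of_simpleCase (hsimple : SimpleCase.{u}) (S : Sylow 2 G)
    (hS : IsMulCommutative ↥(S : Subgroup G))
    (hC : ∀ t : G, orderOf t = 2 → Group.IsSolvable ↥(centralizer ({t} : Set G))) :
    Group.IsSolvable G ∨
      ∃ (F : Type) (_ : Field F) (_ : Fintype F),
        (((Fintype.card F % 8 = 3 ∨ Fintype.card F % 8 = 5) ∧ 5 ≤ Fintype.card F) ∨
          (∃ n : ℕ, 2 ≤ n ∧ Fintype.card F = 2 ^ n)) ∧
        ∃ N : Subgroup (G ⧸ Cfsg.oddCore G), N.Normal ∧
          Nonempty (↥N ≃* Matrix.ProjectiveSpecialLinearGroup (Fin 2) F) ∧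
          centralizer (N : Set (G ⧸ Cfsg.oddCore G)) = ⊥ := by
  refine (em (Group.IsSolvable G)).imp_right fun hns => ?_
  have hab := (abTwo_of_sylow S hS).map (QuotientGroup.mk'_surjective (Cfsg.oddCore G))
  have hCq := fun x (hx : orderOf x = 2) => solvable_cent_quotient hC (x := x) hx
  obtain ⟨N, hNn, hNs, hNnc, hNc⟩ := exists_simple_normal hab (Agent.Cores.pPrimeCore_quotient_self 2)
    (ZStar.CyclicIntersections.not_isSolvable_quotient hns _
      ZStar.CyclicIntersections.isSolvable_oddCore) hCq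
  haveI := hNs
  obtain ⟨F, i1, i2, hF, he⟩ := hsimple ↥N hNnc (hab.subgroup N) fun t ht => by
    haveI := hCq (t : G ⧸ Cfsg.oddCore G) (by rw [Subgroup.orderOf_coe]; exact ht)
    refine Group.isSolvable_of_isSolvable_injective (f := ((N.subtype.comp
      (Subgroup.subtype _)).codRestrict (centralizer ({(t : G ⧸ Cfsg.oddCore G)} : Set _)) fun x =>
        mem_centralizer_singleton_iff.2 (congrArg Subtype.val
          (mem_centralizer_singleton_iff.1 x.2)))) fun a b e => ?_
    exact Subtype.ext (N.subtype_injective (congrArg Subtype.val e :))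
  exact ⟨F, i1, i2, hF, N, hNn, he, hNc⟩

end Cfsg.Agent.SEAbelian
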