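import Cfsg.Agent.Lib.SEAbelian.ReduceSignalizer
import Cfsg.Agent.Lib.GW.MainFinal
import Cfsg.Agent.Lib.EqSubConj.Small
import Cfsg.Agent.Lib.CIT.SThreeTwo.RankTwo
import Cfsg.Agent.Lib.Classical.SmallIso
import Cfsg.Agent.S0949

/-!
# Abelian Sylow 2-subgroups of rank at most two in simple groups

Only the four group occurs, and the group is `PSL(2, q)` with `q` congruent to 3 or 5 modulo 8.
-/

set_option autoImplicit false
set_option linter.style.haveILetI false
set_option linter.unusedSectionVars false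

namespace Cfsg.Agent.SEAbelian

open Subgroup
open Cfsg.Agent.Involutions

universe u

/-- The simple groups of the conclusion. -/
def Out (G : Type u) [Group G] : Prop :=
  ∃ (F : Type) (_ : Field F) (_ : Fintype F),
    (((Fintype.card F % 8 = 3 ∨ Fintype.card F % 8 = 5) ∧ 5 ≤ Fintype.card F) ∨
      (∃ n : ℕ, 2 ≤ n ∧ Fintype.card F = 2 ^ n)) ∧
    Nonempty (G ≃* Matrix.ProjectiveSpecialLinearGroup (Fin 2) F)

variable {G : Type u} [Group G] [Finite G]

/-- A Sylow subgroup of rank at most one is impossible, and in rank two the acting element fixes no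
involution. -/
theorem acting_moves (h : AbTwo G) (S : Sylow 2 G) (hA : Nat.card ↥(omegaOf h S) ≤ 4) {y : G}
    (hy : y ∈ normalizer ((S : Subgroup G) : Set G)) (ho : Odd (orderOf y)) {s : G}
    (hs : s ∈ (S : Subgroup G)) (hys : ¬ Commute y s) :
    Nat.card ↥(omegaOf h S) = 4 ∧
      ∀ e ∈ omegaOf h S, orderOf e = 2 → ¬ Commute y e := by
  haveI : Fact (Nat.Prime 2) := ⟨Nat.prime_two⟩
  obtain ⟨e, he, hye⟩ : ∃ e ∈ omegaOf h S, ¬ Commute y e := by
    by_contra hcon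
    push Not at hcon
    exact hys (commute_of_omega S.2 (h _ S.2) hy ho (fun x hx hx2 => hcon x ⟨hx, hx2⟩) s hs)
  have hyn : ∀ x ∈ omegaOf h S, y * x * y⁻¹ ∈ omegaOf h S := fun x hx =>
    ⟨(mem_normalizer_iff.1 hy x).1 hx.1, by
      rw [show y * x * y⁻¹ * (y * x * y⁻¹) = y * (x * x) * y⁻¹ by group, hx.2, mul_one,
        mul_inv_cancel]⟩
  have he1 : e ≠ 1 := fun e1 => hye (e1 ▸ Commute.one_right y)
  have he2 := Basic.orderOf_two_iff.2 ⟨he.2, he1⟩
  have h4 : Nat.card ↥(omegaOf h S) = 4 := by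
    obtain ⟨k, hk⟩ := IsPGroup.iff_card.1 (S.2.to_le (fun x hx => hx.1 : omegaOf h S ≤ (S : Subgroup G)))
    rcases Nat.lt_or_ge k 2 with hk2 | hk2
    · exfalso
      have hle : zpowers e ≤ omegaOf h S := zpowers_le.2 he
      have heq : zpowers e = omegaOf h S := eq_of_le_of_card_ge hle (by
        rw [Nat.card_zpowers, he2, hk]
        exact Nat.pow_le_pow_right (by norm_num) (show k ≤ 1 by omega))
      have hmem := heq.symm ▸ hyn e he
      obtain ⟨i, hi⟩ := mem_zpowers_iff.1 hmem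
      rcases Int.even_or_odd i with ⟨c, rfl⟩ | ⟨c, rfl⟩
      · rw [← two_mul, zpow_mul, zpow_two, he.2, one_zpow] at hi
        exact he1 (conj_eq_one_iff.1 hi.symm)
      · rw [zpow_add, zpow_mul, zpow_two, he.2, one_zpow, one_mul, zpow_one] at hi
        exact hye (mul_inv_eq_iff_eq_mul.1 hi.symm)
    · have := Nat.pow_le_pow_right (show 0 < 2 by norm_num) hk2
      omega
  refine ⟨h4, fun t ht ht2 hc => hye ?_⟩
  exact EqSubConj.commute_four h4 ht ht2 (mem_normalizer_iff.2 fun x => ⟨hyn x, fun hx =>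
    ⟨(mem_normalizer_iff.1 hy x).2 hx.1, by
      have h2 := hx.2
      rw [show y * x * y⁻¹ * (y * x * y⁻¹) = y * (x * x) * y⁻¹ by group] at h2
      exact conj_eq_one_iff.1 h2⟩⟩) ho hc he

omit [Finite G] in
/-- Powers of two commuting elements of the same order. -/
def powPairHom (x y : G) (N : ℕ) [NeZero N] (hx : x ^ N = 1) (hy : y ^ N = 1)
    (hc : Commute x y) : Multiplicative (ZMod N × ZMod N) →* G where
  toFun p := x ^ (Multiplicative.toAdd p).1.val * y ^ (Multiplicative.toAdd p).2.val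
  map_one' := by simp
  map_mul' p q := by
    simp only [toAdd_mul, Prod.fst_add, Prod.snd_add, ZMod.val_add, ← pow_eq_pow_mod _ hx,
      ← pow_eq_pow_mod _ hy, pow_add]
    exact (Commute.pow_pow hc.symm _ _).symm.mul_mul_mul_comm _ _

omit [Finite G] in
theorem powPairHom_injective {x y : G} {m : ℕ} (hx : x ^ 2 ^ (m + 1) = 1) (hy : y ^ 2 ^ (m + 1) = 1)
    (hc : Commute x y) (hx1 : x ^ 2 ^ m ≠ 1) (hy1 : y ^ 2 ^ m ≠ 1) (hne : x ^ 2 ^ m ≠ y ^ 2 ^ m) :
    Function.Injective (powPairHom x y (2 ^ (m + 1)) hx hy hc) := by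
  refine (injective_iff_map_eq_one _).2 fun p hp => ?_
  set a := (Multiplicative.toAdd p).1.val with ha
  set b := (Multiplicative.toAdd p).2.val with hb
  have he : x ^ a * y ^ b = 1 := hp
  have hzx : x ^ 2 ^ m * x ^ 2 ^ m = 1 := by rw [← pow_add, ← two_mul, ← pow_succ']; exact hx
  have hzy : y ^ 2 ^ m * y ^ 2 ^ m = 1 := by rw [← pow_add, ← two_mul, ← pow_succ']; exact hy
  have key : ∀ i ≤ m + 1, 2 ^ i ∣ a ∧ 2 ^ i ∣ b := by
    intro i
    induction i with
    | zero => simp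
    | succ i ih =>
      intro hi
      obtain ⟨⟨a', ha'⟩, ⟨b', hb'⟩⟩ := ih (by omega)
      have h1 : (x ^ 2 ^ m) ^ a' * (y ^ 2 ^ m) ^ b' = 1 := by
        have h2 := congrArg (· ^ 2 ^ (m - i)) he
        simp only [one_pow, (hc.pow_pow _ _).mul_pow, ← pow_mul, ha', hb'] at h2
        have h3 : ∀ c, 2 ^ i * c * 2 ^ (m - i) = 2 ^ m * c := fun c => by
          rw [mul_right_comm, ← pow_add, Nat.add_sub_cancel' (by omega : i ≤ m)]
        rw [h3, h3] at h2
        rw [← pow_mul, ← pow_mul]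
        exact h2
      rw [pow_eq_pow_mod a' (show (x ^ 2 ^ m) ^ 2 = 1 by rw [pow_two]; exact hzx),
        pow_eq_pow_mod b' (show (y ^ 2 ^ m) ^ 2 = 1 by rw [pow_two]; exact hzy)] at h1
      have h2 : a' % 2 = 0 ∧ b' % 2 = 0 := by
        rcases Nat.mod_two_eq_zero_or_one a' with e1 | e1 <;>
          rcases Nat.mod_two_eq_zero_or_one b' with e2 | e2 <;>
            simp only [e1, e2, pow_zero, pow_one, one_mul, mul_one] at h1 ⊢
        · exact ⟨trivial, trivial⟩
        · exact absurd h1 hy1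
        · exact absurd h1 hx1
        · exact absurd ((mul_eq_one_iff_eq_inv.1 h1).trans (inv_eq_of_mul_eq_one_right hzy)) hne
      exact ⟨ha' ▸ pow_succ 2 i ▸ mul_dvd_mul_left _ (Nat.dvd_of_mod_eq_zero h2.1),
        hb' ▸ pow_succ 2 i ▸ mul_dvd_mul_left _ (Nat.dvd_of_mod_eq_zero h2.2)⟩
  obtain ⟨h1, h2⟩ := key (m + 1) le_rfl
  have e1 : a = 0 := Nat.eq_zero_of_dvd_of_lt h1 (ZMod.val_lt _)
  have e2 : b = 0 := Nat.eq_zero_of_dvd_of_lt h2 (ZMod.val_lt _)
  exact toAdd_eq_zero.1 (Prod.ext ((ZMod.val_eq_zero _).1 e1) ((ZMod.val_eq_zero _).1 e2))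

/-- An abelian 2-subgroup of exponent `2 ^ k` with four square roots of one. -/
theorem card_le_four_pow (h : AbTwo G) (S : Sylow 2 G) (h4 : Nat.card ↥(omegaOf h S) ≤ 4) :
    ∀ (k : ℕ) (H : Subgroup G), H ≤ (S : Subgroup G) → (∀ x ∈ H, x ^ 2 ^ k = 1) →
      Nat.card H ≤ 4 ^ k := by
  intro k
  induction k with
  | zero =>
    intro H _ hH
    have : H = ⊥ := (eq_bot_iff_forall _).2 fun x hx => by simpa using hH x hx
    rw [this]
    simp
  | succ k ih =>
    intro H hHS hH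
    let f : ↥H →* G := MonoidHom.mk' (fun x => (x : G) ^ 2) fun a b => by
      rw [Subgroup.coe_mul]
      exact (h _ S.2 _ (hHS a.2) _ (hHS b.2)).mul_pow 2
    have h1 : Nat.card f.range ≤ 4 ^ k := by
      refine ih f.range ?_ ?_
      · rintro _ ⟨x, rfl⟩
        exact pow_mem (hHS x.2) 2
      · rintro _ ⟨x, rfl⟩
        show ((x : G) ^ 2) ^ 2 ^ k = 1
        rw [← pow_mul, ← pow_succ']
        exact hH x x.2
    have h2 : Nat.card f.ker ≤ 4 := by
      refine le_trans (le_of_eq (Subgroup.card_subtype H f.ker).symm) ((Subgroup.card_le_of_le ?_).trans h4)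
      rintro _ ⟨x, hx, rfl⟩
      exact ⟨hHS x.2, (pow_two (x : G)).symm.trans hx⟩
    rw [Subgroup.card_eq_card_quotient_mul_card_subgroup f.ker,
      Nat.card_congr (QuotientGroup.quotientKerEquivRange f).toEquiv, pow_succ]
    exact Nat.mul_le_mul h1 h2

/-- The four group case. -/
theorem out_of_four [IsSimpleGroup G] (hnc : ¬ IsMulCommutative G) (S : Sylow 2 G)
    (hel : ∀ x ∈ (S : Subgroup G), x * x = 1) (h4 : Nat.card ↥(S : Subgroup G) = 4) : Out G := by
  haveI : Fact (Nat.Prime 2) := ⟨Nat.prime_two⟩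
  haveI : Nontrivial ↥(S : Subgroup G) := Finite.one_lt_card_iff_nontrivial.1 (by omega)
  haveI : IsKleinFour ↥(S : Subgroup G) := ⟨h4, Monoid.exponent_eq_prime_iff Nat.prime_two |>.2
    fun x hx => orderOf_eq_prime (by rw [pow_two]; exact Subtype.ext (hel x x.2)) hx⟩
  obtain ⟨e⟩ : Nonempty (↥(S : Subgroup G) ≃* DihedralGroup 2) := IsKleinFour.nonempty_mulEquiv
  have h8 := EqSubConj.not_eight S h4
  rcases GW.simpleGW G S 2 le_rfl ⟨e⟩ with ⟨K, iK, jK, hKodd, ⟨φ⟩⟩ | ⟨⟨φ⟩⟩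
  · have h3 := CIT.SThreeTwo.three_lt_card hnc hKodd φ
    have hq := Cfsg.Agent.Classical.SmallIso.natCard_pslTwo K
    rw [Cfsg.Agent.Classical.GL2.natCard_SL_two, ← Nat.card_congr φ.toEquiv] at hq
    have hmod : Fintype.card K % 8 = 3 ∨ Fintype.card K % 8 = 5 := by
      by_contra hcon
      apply h8
      set q := Fintype.card K with hqdef
      have hq2 := Nat.odd_iff.1 hKodd
      have h16 : 16 ∣ q * ((q - 1) * (q + 1)) := by
        refine Dvd.dvd.mul_left ?_ q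
        obtain ⟨k, hk⟩ : ∃ k, q = 8 * k + 1 ∨ q = 8 * k + 7 := ⟨q / 8, by omega⟩
        rcases hk with hk | hk
        · exact ⟨k * (4 * k + 1), by rw [hk, Nat.add_sub_cancel]; ring⟩
        · exact ⟨(4 * k + 3) * (k + 1), by rw [hk, show 8 * k + 7 - 1 = 8 * k + 6 by omega]; ring⟩
      have hgcd : Nat.gcd 2 (q - 1) = 2 := Nat.gcd_eq_left (Nat.dvd_of_mod_eq_zero (by omega))
      rw [hgcd] at hq
      omega
    exact ⟨K, iK, jK, Or.inl ⟨hmod, by have := Nat.odd_iff.1 hKodd; omega⟩, ⟨φ⟩⟩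
  · exfalso
    apply h8
    rw [Nat.card_congr φ.toEquiv, nat_card_alternatingGroup]
    simp [Nat.factorial]

/-- Rank at most two. -/
theorem out_of_rank_two [IsSimpleGroup G] (hnc : ¬ IsMulCommutative G) (h : AbTwo G) (S : Sylow 2 G)
    (h8 : Nat.card ↥(omegaOf h S) ≤ 4) : Out G := by
  haveI : Fact (Nat.Prime 2) := ⟨Nat.prime_two⟩
  obtain ⟨y, hy, ho, s, hs, hys⟩ := exists_acting hnc h S
  obtain ⟨h4, hmove⟩ := acting_moves h S h8 hy ho hs hys
  obtain ⟨x₀, hx₀⟩ := Finite.exists_max (fun x : ↥(S : Subgroup G) => orderOf x)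
  obtain ⟨j, hj⟩ := IsPGroup.iff_orderOf.1 S.2 x₀
  have hexp : ∀ x ∈ (S : Subgroup G), x ^ 2 ^ j = 1 := fun x hx => by
    obtain ⟨i, hi⟩ := IsPGroup.iff_orderOf.1 S.2 ⟨x, hx⟩
    have hle := hx₀ ⟨x, hx⟩
    simp only [hi, hj, Nat.pow_le_pow_iff_right (le_refl 2)] at hle
    refine orderOf_dvd_iff_pow_eq_one.1 ?_
    rw [← Subgroup.orderOf_mk x hx, hi]
    exact pow_dvd_pow 2 hle
  rcases Nat.lt_or_ge j 2 with hj2 | hj2
  · have hel : ∀ x ∈ (S : Subgroup G), x * x = 1 := fun x hx => by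
      rw [← pow_two, ← pow_one (2 : ℕ)]
      exact orderOf_dvd_iff_pow_eq_one.1
        ((orderOf_dvd_of_pow_eq_one (hexp x hx)).trans (pow_dvd_pow 2 (by omega)))
    refine out_of_four hnc S hel ?_
    rw [← h4]
    congr
    ext x
    exact ⟨fun hx => ⟨hx, hel x hx⟩, fun hx => hx.1⟩
  exfalso
  obtain ⟨m, rfl⟩ : ∃ m, j = m + 1 := ⟨j - 1, by omega⟩
  set x : G := (x₀ : G)
  have hxS : x ∈ (S : Subgroup G) := x₀.2
  have hxo : orderOf x = 2 ^ (m + 1) := by rw [Subgroup.orderOf_coe]; exact hj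
  have hzo : orderOf (x ^ 2 ^ m) = 2 := by
    rw [orderOf_pow' _ (by positivity), hxo, Nat.gcd_eq_right (pow_dvd_pow 2 m.le_succ), pow_succ,
      Nat.mul_div_cancel_left _ (by positivity)]
  have hz : x ^ 2 ^ m ∈ omegaOf h S := ⟨pow_mem hxS _, Basic.inv_sq_one hzo⟩
  have hyS : y * x * y⁻¹ ∈ (S : Subgroup G) := (mem_normalizer_iff.1 hy x).1 hxS
  have hinj := powPairHom_injective (x := x) (y := y * x * y⁻¹) (m := m) (hexp x hxS) (hexp _ hyS)
    (h _ S.2 x hxS _ hyS) (fun e => by rw [e, orderOf_one] at hzo; omega)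
    (fun e => by
      rw [conj_pow, conj_eq_one_iff] at e
      rw [e, orderOf_one] at hzo
      omega)
    (fun e => by
      rw [conj_pow] at e
      exact hmove _ hz hzo (eq_mul_inv_iff_mul_eq.1 e).symm)
  set f := powPairHom x (y * x * y⁻¹) (2 ^ (m + 1)) (hexp x hxS) (hexp _ hyS) (h _ S.2 x hxS _ hyS)
  have hfS : ∀ p, f p ∈ (S : Subgroup G) := fun p => mul_mem (pow_mem hxS _) (pow_mem hyS _)
  have hbij : Function.Bijective (f.codRestrict (S : Subgroup G) hfS) := by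
    refine (Nat.bijective_iff_injective_and_card _).2 ⟨fun a b e => hinj (congrArg Subtype.val e), ?_⟩
    have h1 := Nat.card_le_card_of_injective _ ((MonoidHom.injective_codRestrict f _ hfS).2 hinj)
    have h2 := card_le_four_pow h S h4.le (m + 1) (S : Subgroup G) le_rfl hexp
    refine le_antisymm h1 (h2.trans (le_of_eq ?_))
    show _ = Nat.card (ZMod (2 ^ (m + 1)) × ZMod (2 ^ (m + 1)))
    rw [Nat.card_prod, Nat.card_zmod, ← mul_pow]
    norm_num
  have hn := (S0949.result S (m + 1) hj2 (MulEquiv.ofBijective _ hbij).symm fun N hN hodd => by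
    refine (IsSimpleGroup.eq_bot_or_eq_top_of_normal N hN).resolve_right fun e => ?_
    rw [e, Subgroup.card_top] at hodd
    haveI := S0205.result (G := G) hodd
    exact hnc ⟨⟨IsSimpleGroup.comm_iff_isSolvable.2 inferInstance⟩⟩).1
  rcases IsSimpleGroup.eq_bot_or_eq_top_of_normal _ hn with h1 | h1
  · rw [h1] at hxS
    rw [mem_bot.1 hxS, orderOf_one] at hxo
    exact absurd hxo.symm (Nat.one_lt_two_pow (by omega)).ne'
  · exact hnc ⟨⟨fun a b => (h _ S.2 a (h1 ▸ mem_top a) b (h1 ▸ mem_top b)).eq⟩⟩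

end Cfsg.Agent.SEAbelian
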