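import Cfsg.Agent.Lib.SEAbelian.Two
import Cfsg.Agent.Lib.SETwoClosed.Kernel
import Cfsg.Agent.Lib.Coprime.Basic

/-!
# The core lemma: normal `ℓ`-subgroups of the kernel are semiregular

Step 5 of `notes/s1221-2closed-h29.md`: a normal `ℓ`-subgroup of the stabilizer of `a` inside `Kx W a` moves
every other point by each of its nonidentity elements.
-/

set_option autoImplicit false
set_option linter.style.haveILetI false
set_option linter.unusedSectionVars false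

namespace Cfsg.Agent.SEAbelian

open Subgroup MulAction
open Cfsg.Agent.Involutions
open Cfsg.Agent.SETwoClosed (cj mem_cj conj_mem_cj cj_cj card_cj isPGroup_cj IsSyl exists_isSyl
  exists_isSyl_ge exists_invariant_isSyl exists_mem_normalizer mem_normalizer_of_cj mem_normalizer_of_le)

universe u

variable {G : Type u} [Group G] [Finite G] {H W : Subgroup G}

/-- Any Sylow subgroup of a two-point stabilizer is normalized by a swapper. -/
theorem Hyp.exists_swap_syl (h : Hyp H W) {l : ℕ} [Fact l.Prime] {x y : G ⧸ H} (hxy : x ≠ y)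
    {T : Subgroup G} (hT : IsSyl l T (Dp x y)) :
    ∃ u : G, orderOf u = 2 ∧ u • x = y ∧ u • y = x ∧ u ∈ normalizer (T : Set G) := by
  obtain ⟨u, hu, hux, huy⟩ := h.exists_swap hxy
  obtain ⟨R, -, hR, huR⟩ := exists_invariant_isSyl (p := l) (h.odd_D hxy) (Basic.inv_sq_one hu)
    (cj_Dp hu hux huy) IsPGroup.of_bot bot_le (map_bot _)
  obtain ⟨d, hd, hdT⟩ := hR.conj hT
  have hdx : d⁻¹ • x = x := mem_stabilizer_iff.1 (inv_mem (mem_inf.1 hd).1)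
  have hdy : d⁻¹ • y = y := mem_stabilizer_iff.1 (inv_mem (mem_inf.1 hd).2)
  refine ⟨d * u * d⁻¹, by rw [Basic.orderOf_conj, hu], ?_, ?_, mem_normalizer_of_cj ?_⟩
  · rw [mul_smul, mul_smul, hdx, hux]; exact (mem_inf.1 hd).2
  · rw [mul_smul, mul_smul, hdy, huy]; exact (mem_inf.1 hd).1
  · rw [← hdT, cj_cj, show d * u * d⁻¹ * d = d * u by group, ← cj_cj, huR]

/-- Two involutions with incongruent product give two commuting involutions in the group they generate. -/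
theorem Hyp.exists_commuting (h : Hyp H W) {x : G ⧸ H} {X : Subgroup G} {a b : G} (haX : a ∈ X) (hbX : b ∈ X)
    (ha : orderOf a = 2) (hb : orderOf b = 2) (had : a • x = x) (hbd : b • x = x)
    (hne : a * b ∉ Kx W x) :
    ∃ s t : G, s ∈ X ∧ t ∈ X ∧ orderOf s = 2 ∧ orderOf t = 2 ∧ s • x = x ∧ t • x = x ∧ s ≠ t ∧
      Commute s t := by
  have hT : a * b ∈ Tx W x := mul_mem (h.mem_Tx_of_inv (Basic.inv_sq_one ha) had)
    (h.mem_Tx_of_inv (Basic.inv_sq_one hb) hbd)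
  have heven : Even (orderOf (a * b)) := by
    by_contra ho
    exact hne (h.odd_mem_Kx hT (Nat.not_even_iff_odd.1 ho))
  obtain ⟨hm, hma, hmb⟩ := Basic.middle_involution ha hb heven
  have hmX : (a * b) ^ (orderOf (a * b) / 2) ∈ X := pow_mem (mul_mem haX hbX) _
  have hmd := mem_stabilizer_iff.1 (pow_mem (h.Tx_le x hT) (orderOf (a * b) / 2))
  by_cases hma' : (a * b) ^ (orderOf (a * b) / 2) = a
  · refine ⟨a, b, haX, hbX, ha, hb, had, hbd, fun e => hne ?_, hma' ▸ hmb⟩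
    rw [e, Basic.inv_sq_one hb]; exact one_mem _
  · exact ⟨_, a, hmX, haX, hm, ha, hmd, had, hma', hma⟩

/-- The elements of the stabilizer commuting with its `p`-elements modulo `Tx W x`. -/
def Cen (W : Subgroup G) (p : ℕ) (x : G ⧸ H) (g : G) : Prop :=
  g • x = x ∧ ∀ c : G, c • x = x → (∃ k : ℕ, c ^ p ^ k ∈ Tx W x) → g * c * g⁻¹ * c⁻¹ ∈ Tx W x

/-- The subgroup of these elements. -/
noncomputable def Hyp.Cx (h : Hyp H W) (p : ℕ) (x : G ⧸ H) : Subgroup G where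
  carrier := {g | Cen W p x g}
  one_mem' := ⟨one_smul _ _, fun c _ _ => by simp⟩
  mul_mem' := fun {a b} ha hb => ⟨by rw [mul_smul, hb.1, ha.1], fun c hc hck => by
    rw [show a * b * c * (a * b)⁻¹ * c⁻¹ = a * (b * c * b⁻¹ * c⁻¹) * a⁻¹ * (a * c * a⁻¹ * c⁻¹) by group]
    exact mul_mem (h.Tx_normal ha.1 (hb.2 c hc hck)) (ha.2 c hc hck)⟩
  inv_mem' := fun {a} ha => ⟨inv_smul_eq_iff.2 ha.1.symm, fun c hc hck => by
    rw [show a⁻¹ * c * a⁻¹⁻¹ * c⁻¹ = a⁻¹ * (a * c * a⁻¹ * c⁻¹)⁻¹ * a⁻¹⁻¹ by group]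
    exact h.Tx_normal (inv_smul_eq_iff.2 ha.1.symm) (inv_mem (ha.2 c hc hck))⟩

theorem Hyp.conj_mem_Cx (h : Hyp H W) {p : ℕ} {x : G ⧸ H} {m g : G} (hg : g ∈ h.Cx p x) :
    m * g * m⁻¹ ∈ h.Cx p (m • x) := by
  refine ⟨conj_smul_fix hg.1, fun c hc hck => ?_⟩
  have hc' : (m⁻¹ * c * m) • x = x := by rw [mul_smul, mul_smul, hc, inv_smul_smul]
  have h1 := h.conj_mem_Tx (g := m) (hg.2 _ hc' (hck.imp fun k hk => by
    rw [show m⁻¹ * c * m = m⁻¹ * c * m⁻¹⁻¹ by rw [inv_inv], conj_pow]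
    simpa using h.conj_mem_Tx (g := m⁻¹) hk))
  rwa [show m * (g * (m⁻¹ * c * m) * g⁻¹ * (m⁻¹ * c * m)⁻¹) * m⁻¹ =
    m * g * m⁻¹ * c * (m * g * m⁻¹)⁻¹ * c⁻¹ by group] at h1

theorem Hyp.Kx_le_Cx (h : Hyp H W) (p : ℕ) (x : G ⧸ H) : Kx W x ≤ h.Cx p x := fun g hg =>
  ⟨mem_stabilizer_iff.1 (h.Kx_le x hg), fun c hc _ => h.Kx_le_Tx x (by
    rw [show g * c * g⁻¹ * c⁻¹ = g * (c * g⁻¹ * c⁻¹) by group]
    exact mul_mem hg (h.Kx_normal hc (inv_mem hg)))⟩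

variable {n p : ℕ} (hF : Facts H W n p)
include hF

/-- In a two-point stabilizer the two centralizers agree. -/
theorem Facts.Cx_swap {a b : G ⧸ H} (hab : a ≠ b) {g : G} (hg : g ∈ hF.par.hyp.Cx p a) (hgb : g • b = b) :
    g ∈ hF.par.hyp.Cx p b := by
  have h := hF.par.hyp
  haveI := hF.par.fact
  refine ⟨hgb, fun c hc hck => ?_⟩
  obtain ⟨T, hT⟩ := exists_isSyl (p := p) (Dp b a)
  obtain ⟨r, hr, hrc⟩ := hF.par.cover b a hab.symm T hT c hc hck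
  have hrb : r • b = b := mem_stabilizer_iff.1 (mem_inf.1 (hT.1 hr)).1
  have hra : r • a = a := mem_stabilizer_iff.1 (mem_inf.1 (hT.1 hr)).2
  rw [show g * c * g⁻¹ * c⁻¹ = g * r * g⁻¹ * r⁻¹ *
    (r * (g * (r⁻¹ * c) * g⁻¹ * (r⁻¹ * c)⁻¹) * r⁻¹) by group]
  refine mul_mem ?_ (h.Tx_normal hrb (mul_mem (h.Tx_normal hgb hrc) (inv_mem hrc)))
  -- the commutator with an element of `T`
  set w := g * r * g⁻¹ * r⁻¹
  have hwD : w ∈ Dp a b := by
    have h1 : g ∈ Dp a b := mem_inf.2 ⟨hg.1, hgb⟩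
    have h2 : r ∈ Dp a b := mem_inf.2 ⟨hra, hrb⟩
    exact mul_mem (mul_mem (mul_mem h1 h2) (inv_mem h1)) (inv_mem h2)
  have hwa : w ∈ Kx W a :=
    h.mem_Kx_of_fix hab (hg.2 r hra (hF.par.exists_pow hT.2.1 hr a)) (mem_inf.1 hwD).2
  obtain ⟨k, hk⟩ := hF.par.comm b g r hgb hrb (hF.par.exists_pow hT.2.1 hr b)
  refine SETwoClosed.mem_of_pow_mem hF.par.prime hk fun w' hw' hw'p => ?_
  have hw'D : w' ∈ Dp a b := zpowers_le.2 hwD hw'
  have hZp : IsPGroup p ↥(zpowers w') := by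
    obtain ⟨j, hj⟩ := hw'p
    intro z
    obtain ⟨i, hi⟩ := mem_zpowers_iff.1 z.2
    refine ⟨j, Subtype.ext ?_⟩
    rw [Subgroup.coe_pow, ← hi, OneMemClass.coe_one, ← zpow_natCast, ← zpow_mul, mul_comm, zpow_mul,
      zpow_natCast, hj, one_zpow]
  obtain ⟨T', hwT', hT'⟩ := exists_isSyl_ge hZp (zpowers_le.2 hw'D)
  have h1 : w' ∈ T' ⊓ Kx W a := mem_inf.2 ⟨hwT' (mem_zpowers _), zpowers_le.2 hwa hw'⟩
  rw [hF.syl_K a b T' hab hT'] at h1
  exact h.Kx_le_Tx b (mem_inf.1 h1).2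

/-- Semiregularity. -/
theorem Facts.semireg [FaithfulSMul G (G ⧸ H)] (IH : IndHyp G) {l : ℕ} (hl : l.Prime) {a : G ⧸ H}
    {V : Subgroup G} (hV : IsPGroup l ↥V) (hVK : V ≤ Kx W a)
    (hVn : stabilizer G a ≤ normalizer (V : Set G)) {b : G ⧸ H} (hab : a ≠ b) {v0 : G} (hv0 : v0 ∈ V)
    (hv0b : v0 • b = b) : v0 = 1 := by
  classical
  by_contra hv01
  have h := hF.par.hyp
  haveI := hF.par.fact
  haveI : Fact l.Prime := ⟨hl⟩
  have hVa : V ≤ stabilizer G a := hVK.trans (h.Kx_le a)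
  -- `V` does not fix `b`
  have hVb : ¬ V ≤ stabilizer G b := by
    intro hle
    refine hv01 (FaithfulSMul.eq_of_smul_eq_smul (α := G ⧸ H) fun z => ?_)
    rw [one_smul]
    by_cases hza : z = a
    · rw [hza]; exact hVa hv0
    obtain ⟨g, hga, hgb⟩ := hF.trans2 a b a z hab (Ne.symm hza)
    rw [← hgb]
    exact smul_fix_of_normalizer (hVn (mem_stabilizer_iff.2 hga)) hle hv0
  obtain ⟨T, hT⟩ := exists_isSyl (p := p) (Dp a b)
  -- the primes differ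
  have hlp : l ≠ p := by
    rintro rfl
    have hTVp : IsPGroup l ↥(T ⊔ V) :=
      hT.2.1.to_sup_of_normal_right' hV ((hT.1.trans inf_le_left).trans hVn)
    have h1 : T = T ⊔ V := eq_of_le_of_card_ge le_sup_left (hF.sylow a b T _ hab hT hTVp)
    exact hVb ((le_sup_right.trans h1.ge).trans (hT.1.trans inf_le_right))
  set L := Dp a b ⊓ h.Cx p a with hL
  have hv0D : v0 ∈ Dp a b := mem_inf.2 ⟨hVa hv0, hv0b⟩
  obtain ⟨P, hVP, hP⟩ := exists_isSyl_ge (p := l) (hV.to_le (inf_le_left : V ⊓ Dp a b ≤ V)) inf_le_right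
  set P2 := P ⊓ h.Cx p a with hP2
  have hv0P2 : v0 ∈ P2 :=
    mem_inf.2 ⟨hVP (mem_inf.2 ⟨hv0, hv0D⟩), h.Kx_le_Cx p a (hVK hv0)⟩
  have hPa : P ≤ stabilizer G a := hP.1.trans inf_le_left
  have hPb : P ≤ stabilizer G b := hP.1.trans inf_le_right
  set Y := normalizer (P : Set G)
  -- `P` is Sylow for every pair of its fixed points
  have hPsyl : ∀ v w : G ⧸ H, v ≠ w → P ≤ stabilizer G v → P ≤ stabilizer G w → IsSyl l P (Dp v w) := by
    intro v w hvw hv hw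
    obtain ⟨g, hgv, hgw⟩ := hF.trans2 v w a b hvw hab
    obtain ⟨S, hS⟩ := exists_isSyl (p := l) (Dp v w)
    refine hS.of_card hP.2.1 (le_inf hv hw) ?_
    rw [← card_cj g S]
    refine hP.card_le (isPGroup_cj hS.2.1 g) ?_
    rintro _ ⟨s, hs, rfl⟩
    exact mem_inf.2 ⟨hgv ▸ stab_conj (mem_inf.1 (hS.1 hs)).1, hgw ▸ stab_conj (mem_inf.1 (hS.1 hs)).2⟩
  -- an element of `V` normalizing `P` moves `b`
  obtain ⟨v, hvV, hvY, hvb⟩ : ∃ v ∈ V, v ∈ Y ∧ v • b ≠ b := by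
    have hPn : P ≤ normalizer (V : Set G) := hPa.trans hVn
    have hQ : IsPGroup l ↥(P ⊔ V) := hP.2.1.to_sup_of_normal_right' hV hPn
    obtain ⟨g, hg, hgP, hgn⟩ := exists_mem_normalizer hQ (lt_of_le_of_ne le_sup_left
      fun e => hVb ((le_sup_right.trans e.ge).trans hPb))
    rw [sup_comm] at hg
    obtain ⟨v, hv, π, hπ, rfl⟩ := (Coprime.mem_sup_of_le_normalizer hPn).1 hg
    refine ⟨v, hv, ?_, fun e => ?_⟩
    · have := mul_mem hgn (inv_mem (le_normalizer hπ))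
      rwa [mul_inv_cancel_right] at this
    · have hvπ : v * π ∈ Dp a b := mul_mem (mem_inf.2 ⟨hVa hv, e⟩) (hP.1 hπ)
      exact hgP (hP.2.2 (P ⊔ zpowers (v * π)) le_sup_left (sup_le hP.1 (zpowers_le.2 hvπ))
        (hQ.to_le (sup_le le_sup_left (zpowers_le.2 (by
          rw [sup_comm]; exact mul_mem_sup hv hπ)))) ▸ mem_sup_right (mem_zpowers _))
  have hva : v • a = a := hVa hvV
  -- an involution normalizing `P` fixes one of its points, hence one at `a`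
  have hswap : ∀ v w : G ⧸ H, P ≤ stabilizer G v → P ≤ stabilizer G w → v ≠ w →
      ∃ u ∈ Y, orderOf u = 2 ∧ u • v = w := by
    intro v w hv hw hvw
    obtain ⟨u, hu, huv, -, huP⟩ := h.exists_swap_syl hvw (hPsyl v w hvw hv hw)
    exact ⟨u, huP, hu, huv⟩
  obtain ⟨z, hz, t, htY, ht, htz⟩ : ∃ z : G ⧸ H, P ≤ stabilizer G z ∧ ∃ t ∈ Y, orderOf t = 2 ∧ t • z = z := by
    by_contra hno
    push Not at hno
    have hrank : SECore.RankOne Y := by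
      intro i hi j hj hi2 hj2 hij
      by_contra hne
      obtain ⟨f, hf⟩ := h.exists_fixed (H := H) hi2
      have hodd : Odd (Nat.card ↥P) := (h.odd_D hab).of_dvd_nat (card_dvd_of_le hP.1)
      exact hno f (h.le_stab_of_four hodd hi hj hi2 hj2 hij hne hf) i hi hi2 hf
    have hvba : v • b ≠ a := fun e => hab (MulAction.injective v (e.trans hva.symm)).symm
    exact hvba (hrank.no_triangle {w : G ⧸ H | P ≤ stabilizer G w}
      (fun w hw s hs hs2 => hno w hw s hs hs2) (fun x hx y hy hxy => hswap x y hx hy hxy)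
      (smul_fix_of_normalizer hvY hPb) hPb hPa hvb (Ne.symm hab))
  obtain ⟨t', ht'Y, ht', ht'a⟩ : ∃ t' ∈ Y, orderOf t' = 2 ∧ t' • a = a := by
    by_cases hza : z = a
    · exact ⟨t, htY, ht, hza ▸ htz⟩
    obtain ⟨s, hs, hs2, hsz⟩ := hswap z a hz hPa hza
    exact ⟨s * t * s⁻¹, mul_mem (mul_mem hs htY) (inv_mem hs), by rw [Basic.orderOf_conj, ht],
      hsz ▸ conj_smul_fix htz⟩
  set X := normalizer (P2 : Set G)
  have hCxz : ∀ w : G ⧸ H, P ≤ stabilizer G w → ∀ g ∈ P, (g ∈ h.Cx p a ↔ g ∈ h.Cx p w) := by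
    intro w hw g hg
    by_cases hwa : w = a
    · rw [hwa]
    exact ⟨fun hgC => hF.Cx_swap (Ne.symm hwa) hgC (hw hg), fun hgC => hF.Cx_swap hwa hgC (hPa hg)⟩
  have hYX : Y ≤ X := fun m hm => mem_normalizer_of_le fun g hg => by
    obtain ⟨hgP, hgC⟩ := mem_inf.1 hg
    have hmgP : m * g * m⁻¹ ∈ P := (mem_normalizer_iff.1 hm g).1 hgP
    exact mem_inf.2 ⟨hmgP, (hCxz _ (smul_fix_of_normalizer hm hPa) _ hmgP).2 (h.conj_mem_Cx hgC)⟩
  -- an element of `X` moving the class of `t'`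
  obtain ⟨r0, hr0, hr0K⟩ := SetLike.not_le_iff_exists.1 (hF.par.not_le_Kx hab hT)
  have hr0a : r0 • a = a := mem_stabilizer_iff.1 (mem_inf.1 (hT.1 hr0)).1
  have hr0b : r0 • b = b := mem_stabilizer_iff.1 (mem_inf.1 (hT.1 hr0)).2
  set K0 := Dp a b ⊓ Kx W a ⊓ Kx W b with hK0
  set J := P2 ⊔ K0
  have hJL : J ≤ L := sup_le (inf_le_inf_right _ hP.1)
    (fun g hg => mem_inf.2 ⟨(mem_inf.1 (mem_inf.1 hg).1).1, h.Kx_le_Cx p a (mem_inf.1 (mem_inf.1 hg).1).2⟩)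
  have hP2L : ∀ Q : Subgroup G, P2 ≤ Q → Q ≤ L → IsPGroup l ↥Q → Q = P2 := by
    intro Q hle hQL hQ
    obtain ⟨Q', hQQ', hQ'⟩ := exists_isSyl_ge hQ (hQL.trans inf_le_left)
    obtain ⟨d, hd, hdQ⟩ := hP.conj hQ'
    refine (eq_of_le_of_card_ge hle ?_).symm
    rw [← card_cj d P2]
    refine card_le_of_le fun g hg => ?_
    have h1 : d⁻¹ * g * d ∈ P := by
      rw [← mem_cj, hdQ]; exact hQQ' hg
    have h2 : d⁻¹ * g * d ∈ h.Cx p a := by
      have h3 := h.conj_mem_Cx (m := d⁻¹) (mem_inf.1 (hQL hg)).2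
      rwa [inv_inv, inv_smul_eq_iff.2 (mem_stabilizer_iff.1 (mem_inf.1 hd).1).symm] at h3
    exact mem_cj.2 (mem_inf.2 ⟨h1, h2⟩)
  have hP2J : IsSyl l P2 J := ⟨le_sup_left, hP.2.1.to_le inf_le_left,
    fun Q hle hQJ hQ => hP2L Q hle (hQJ.trans hJL) hQ⟩
  have hcjJ : cj r0 P2 ≤ J := by
    rintro _ ⟨g, hg, rfl⟩
    obtain ⟨hgP, hgC⟩ := mem_inf.1 hg
    show r0 * g * r0⁻¹ ∈ J
    rw [show r0 * g * r0⁻¹ = (g * r0 * g⁻¹ * r0⁻¹)⁻¹ * g by group]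
    refine mul_mem (inv_mem (mem_sup_right ?_)) (mem_sup_left hg)
    have hD : g * r0 * g⁻¹ * r0⁻¹ ∈ Dp a b :=
      mul_mem (mul_mem (mul_mem (hP.1 hgP) (hT.1 hr0)) (inv_mem (hP.1 hgP))) (inv_mem (hT.1 hr0))
    exact mem_inf.2 ⟨mem_inf.2 ⟨hD, h.mem_Kx_of_fix hab
        (hgC.2 r0 hr0a (hF.par.exists_pow hT.2.1 hr0 a)) (mem_inf.1 hD).2⟩,
      h.mem_Kx_of_fix hab.symm ((hF.Cx_swap hab hgC (hPb hgP)).2 r0 hr0b (hF.par.exists_pow hT.2.1 hr0 b))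
        (mem_inf.1 hD).1⟩
  obtain ⟨j, hj, hjP⟩ := (hP2J.of_card (isPGroup_cj hP2J.2.1 r0) hcjJ (le_of_eq (card_cj _ _).symm)).conj hP2J
  have hP2K0 : P2 ≤ normalizer (K0 : Set G) := fun g hg => mem_normalizer_of_le fun e he => by
    have hgD := hP.1 (mem_inf.1 hg).1
    obtain ⟨⟨heD, hea⟩, heb⟩ := mem_inf.1 he |>.imp (fun e => mem_inf.1 e) id
    exact mem_inf.2 ⟨mem_inf.2 ⟨mul_mem (mul_mem hgD heD) (inv_mem hgD),
      h.Kx_normal (mem_inf.1 hgD).1 hea⟩, h.Kx_normal (mem_inf.1 hgD).2 heb⟩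
  rw [show J = K0 ⊔ P2 from sup_comm _ _] at hj
  obtain ⟨k, hk, π, hπ, hkπ⟩ := (Coprime.mem_sup_of_le_normalizer hP2K0).1 hj
  set r := π⁻¹ * k * π * r0 with hr
  have hk' : π⁻¹ * k * π ∈ K0 := by simpa using (mem_normalizer_iff.1 (hP2K0 (inv_mem hπ)) k).1 hk
  have hrX : r ∈ X := by
    have h1 : j * r0 ∈ X := mem_normalizer_of_cj (by rw [← cj_cj, hjP])
    have h2 := mul_mem (inv_mem (le_normalizer hπ : π ∈ X)) h1
    rwa [← hkπ, show π⁻¹ * (k * π * r0) = r by rw [hr]; group] at h2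
  have hra : r • a = a := by
    rw [hr, mul_smul, hr0a]; exact mem_stabilizer_iff.1 (h.Kx_le a (mem_inf.1 (mem_inf.1 hk').1).2)
  have hne : t' * (r * t' * r⁻¹) ∉ Kx W a := by
    intro hcon
    have h1 : r0 * t' * r0⁻¹ * t'⁻¹ ∈ Kx W a := by
      set k' := π⁻¹ * k * π with hk'def
      have hk'K : k' ∈ Kx W a := (mem_inf.1 (mem_inf.1 hk').1).2
      have hti := Basic.inv_eq ht'
      have h2 : r * t' * r⁻¹ * t'⁻¹ ∈ Kx W a := by
        rw [show r * t' * r⁻¹ * t'⁻¹ = t'⁻¹ * (t' * (r * t' * r⁻¹)) * t'⁻¹ by group]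
        nth_rewrite 2 [hti]
        have := h.Kx_normal (g := t'⁻¹) (by rw [inv_smul_eq_iff, ht'a]) hcon
        simpa [hti] using this
      rw [show r0 * t' * r0⁻¹ * t'⁻¹ = k'⁻¹ * (r * t' * r⁻¹ * t'⁻¹) * (t' * k' * t'⁻¹) by rw [hr]; group]
      exact mul_mem (mul_mem (inv_mem hk'K) h2) (h.Kx_normal ht'a hk'K)
    exact h.inv_notMem_Kx ht' (hF.par.fpf a r0 hr0a (hF.par.exists_pow hT.2.1 hr0 a) (fun e => hr0K
      (h.odd_mem_Kx e (SECore.odd_orderOf_of_mem (hF.par.odd_card hT.2.1) hr0))) t'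
      (h.mem_Ex_of_inv ht' ht'a) h1)
  obtain ⟨i1, i2, hi1X, hi2X, hi1, hi2, hi1a, hi2a, hi12, hic⟩ := h.exists_commuting (X := X) (hYX ht'Y)
    (mul_mem (mul_mem hrX (hYX ht'Y)) (inv_mem hrX)) ht' (by rw [Basic.orderOf_conj, ht']) ht'a
    (by rw [← hra]; exact (conj_smul_fix ht'a).trans (by rw [hra])) hne
  obtain ⟨u, hu, hu2, hua⟩ := hswap a b hPa hPb hab
  have hX : X ≠ ⊤ := normalizer_ne_top (inf_le_left.trans hPa)
    (fun e => hv01 (mem_bot.1 (e ▸ hv0P2)))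
  have hfix := h.slice_fix IH hX ⟨u, hYX hu, by rw [hua]; exact hab.symm⟩ hi1X hi2X hi1 hi2 hi1a hi2a
    hi12 hic (N := V ⊓ X) (le_inf inf_le_right (inf_le_left.trans hVa))
    ((h.odd_Kx a).of_dvd_nat (card_dvd_of_le (inf_le_left.trans hVK)))
    (fun g hg => mem_normalizer_of_le fun e he => mem_inf.2
      ⟨(mem_normalizer_iff.1 (hVn (mem_inf.1 hg).2) e).1 (mem_inf.1 he).1,
        mul_mem (mul_mem (mem_inf.1 hg).1 (mem_inf.1 he).2) (inv_mem (mem_inf.1 hg).1)⟩) (hYX hu)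
  rw [hua] at hfix
  exact hvb (mem_stabilizer_iff.1 (hfix (mem_inf.2 ⟨hvV, hYX hvY⟩)))

end Cfsg.Agent.SEAbelian
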