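import Cfsg.Agent.Lib.SEAbelian.Semireg

/-!
# The core lemma: Sylow subgroups at a point

The Sylow 2-subgroups of a point stabilizer are Sylow in the group and conjugate under `Kx W x`; a Sylow
`p`-subgroup of a two-point stabilizer meets `Kx W x` in a Sylow subgroup of `Kx W x`.
-/

set_option autoImplicit false
set_option linter.style.haveILetI false
set_option linter.unusedSectionVars false

namespace Cfsg.Agent.SEAbelian

open Subgroup MulAction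
open Cfsg.Agent.Involutions
open Cfsg.Agent.SETwoClosed (cj mem_cj conj_mem_cj cj_cj cj_one card_cj cj_eq_self isPGroup_cj IsSyl exists_isSyl
  exists_isSyl_ge mem_normalizer_of_cj mem_normalizer_of_le)

universe u

variable {G : Type u} [Group G]

theorem isPGroup_zpowers_of_pow {l : ℕ} {y : G} (hy : ∃ k : ℕ, y ^ l ^ k = 1) : IsPGroup l ↥(zpowers y) := by
  obtain ⟨k, hk⟩ := hy
  intro z
  obtain ⟨i, hi⟩ := mem_zpowers_iff.1 z.2
  refine ⟨k, Subtype.ext ?_⟩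
  rw [Subgroup.coe_pow, ← hi, OneMemClass.coe_one, ← zpow_natCast, ← zpow_mul, mul_comm, zpow_mul,
    zpow_natCast, hk, one_zpow]

theorem exists_pow_eq_one_of_mem {l : ℕ} {R : Subgroup G} (hR : IsPGroup l ↥R) {y : G} (hy : y ∈ R) :
    ∃ k : ℕ, y ^ l ^ k = 1 :=
  (hR ⟨y, hy⟩).imp fun _ hk => congrArg Subtype.val hk

variable [Finite G] {H W : Subgroup G} (h : Hyp H W)
include h

theorem Hyp.two_le_Tx {S : Subgroup G} (hS : IsPGroup 2 ↥S) {x : G ⧸ H} (hSx : S ≤ stabilizer G x) :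
    S ≤ Tx W x := fun s hs => h.mem_Tx.2 ⟨mem_stabilizer_iff.1 (hSx hs),
  (exists_pow_eq_one_of_mem hS hs).imp fun _ hk => by rw [hk]; exact one_mem _⟩

/-- The kernel meets a 2-subgroup trivially. -/
theorem Hyp.inf_two_eq_bot {S : Subgroup G} (hS : IsPGroup 2 ↥S) {x : G ⧸ H} {s : G} (hs : s ∈ S)
    (hsK : s ∈ Kx W x) : s = 1 :=
  SETwoClosed.TwoEl.eq_one_of_odd (exists_pow_eq_one_of_mem hS hs) (h.odd_orderOf hsK)

/-- An element of the kernel normalizing a 2-subgroup of the stabilizer centralizes it. -/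
theorem Hyp.commute_of_normalizer {S : Subgroup G} (hS : IsPGroup 2 ↥S) {x : G ⧸ H}
    (hSx : S ≤ stabilizer G x) {y : G} (hy : y ∈ Kx W x) (hyS : y ∈ normalizer (S : Set G)) {s : G}
    (hs : s ∈ S) : Commute y s := by
  refine (mul_inv_eq_iff_eq_mul.1 (mul_inv_eq_one.1 ?_) : y * s = s * y)
  refine h.inf_two_eq_bot hS (x := x) (mul_mem ((mem_normalizer_iff.1 hyS s).1 hs) (inv_mem hs)) ?_
  rw [show y * s * y⁻¹ * s⁻¹ = y * (s * y⁻¹ * s⁻¹) by group]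
  exact mul_mem hy (h.Kx_normal (mem_stabilizer_iff.1 (hSx hs)) (inv_mem hy))

theorem Hyp.le_normalizer_Kx' {S : Subgroup G} {x : G ⧸ H} (hSx : S ≤ stabilizer G x) :
    S ≤ normalizer (Kx W x : Set G) := hSx.trans (h.stab_le_normalizer_Kx x)

/-- `Tx W x` is the kernel times a Sylow 2-subgroup. -/
theorem Hyp.exists_mul_of_Tx {x : G ⧸ H} {S : Subgroup G} (hS : IsSyl 2 S (stabilizer G x)) {g : G}
    (hg : g ∈ Tx W x) : ∃ k ∈ Kx W x, ∃ s ∈ S, k * s = g := by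
  haveI : Fact (Nat.Prime 2) := ⟨Nat.prime_two⟩
  rw [← Coprime.mem_sup_of_le_normalizer (h.le_normalizer_Kx' hS.1)]
  obtain ⟨e, m, hm, hom⟩ := Nat.exists_eq_two_pow_mul_odd (orderOf_pos g).ne'
  have h1 : g ^ 2 ^ e ∈ Kx W x := h.odd_mem_Kx (pow_mem hg _) (hm.of_dvd_nat
    (orderOf_dvd_of_pow_eq_one (by rw [← pow_mul, ← hom, pow_orderOf_eq_one])))
  have h2 : g ^ m ∈ Kx W x ⊔ S := by
    have h2p : (g ^ m) ^ 2 ^ e = 1 := by rw [← pow_mul, mul_comm, ← hom, pow_orderOf_eq_one]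
    have hST : IsSyl 2 S (Tx W x) := ⟨h.two_le_Tx hS.2.1 hS.1, hS.2.1,
      fun Q hle hQ hQ2 => hS.2.2 Q hle (hQ.trans (h.Tx_le x)) hQ2⟩
    obtain ⟨Q, hgQ, hQ⟩ := exists_isSyl_ge (isPGroup_zpowers_of_pow ⟨e, h2p⟩)
      (zpowers_le.2 (pow_mem hg m))
    obtain ⟨d, hd, hdQ⟩ := hST.conj hQ
    rw [← hdQ] at hgQ
    obtain ⟨s, hs, hsg⟩ := hgQ (mem_zpowers _)
    rw [← hsg]
    show d * s * d⁻¹ ∈ _
    rw [show d * s * d⁻¹ = (d * s * d⁻¹ * s⁻¹) * s by group]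
    exact mul_mem_sup (h.Tx_comm hd (hST.1 hs)) hs
  have hco : (2 ^ e).Coprime m := (Nat.coprime_two_left.2 hm).pow_left e
  have h3 := Nat.gcd_eq_gcd_ab (2 ^ e) m
  rw [show Nat.gcd (2 ^ e) m = 1 from hco] at h3
  have h4 : g = (g ^ 2 ^ e) ^ Nat.gcdA (2 ^ e) m * (g ^ m) ^ Nat.gcdB (2 ^ e) m := by
    rw [← zpow_natCast g (2 ^ e), ← zpow_natCast g m, ← zpow_mul, ← zpow_mul, ← zpow_add, ← h3,
      Nat.cast_one, zpow_one]
  rw [h4]
  exact mul_mem (mem_sup_left (zpow_mem h1 _)) (zpow_mem h2 _)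

/-- The Sylow 2-subgroups of a stabilizer are conjugate under the kernel. -/
theorem Hyp.conj_syl_two {x : G ⧸ H} {S Q : Subgroup G} (hS : IsSyl 2 S (stabilizer G x))
    (hQ : IsSyl 2 Q (stabilizer G x)) : ∃ k ∈ Kx W x, cj k S = Q := by
  haveI : Fact (Nat.Prime 2) := ⟨Nat.prime_two⟩
  have hT : ∀ R : Subgroup G, IsSyl 2 R (stabilizer G x) → IsSyl 2 R (Tx W x) := fun R hR =>
    ⟨h.two_le_Tx hR.2.1 hR.1, hR.2.1, fun P hle hP hP2 => hR.2.2 P hle (hP.trans (h.Tx_le x)) hP2⟩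
  obtain ⟨d, hd, hdQ⟩ := (hT S hS).conj (hT Q hQ)
  obtain ⟨k, hk, s, hs, rfl⟩ := h.exists_mul_of_Tx hS hd
  exact ⟨k, hk, by rw [← hdQ, ← cj_cj, cj_eq_self (le_normalizer hs)]⟩

/-- A Sylow 2-subgroup of a stabilizer contains an involution. -/
theorem Hyp.exists_inv_syl {x : G ⧸ H} {S : Subgroup G} (hS : IsSyl 2 S (stabilizer G x)) :
    ∃ t ∈ S, orderOf t = 2 := by
  haveI : Fact (Nat.Prime 2) := ⟨Nat.prime_two⟩
  obtain ⟨t, ht, htx⟩ := h.exists_inv_at x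
  obtain ⟨Q, htQ, hQ⟩ := exists_isSyl_ge (D := stabilizer G x)
    (isPGroup_zpowers_of_pow (l := 2) (y := t) ⟨1, by rw [pow_one, pow_two, Basic.inv_sq_one ht]⟩)
    (zpowers_le.2 (mem_stabilizer_iff.2 htx))
  obtain ⟨d, -, hd⟩ := hQ.conj hS
  exact ⟨d * t * d⁻¹, hd ▸ conj_mem_cj (htQ (mem_zpowers t)), by rw [Basic.orderOf_conj, ht]⟩

/-- A Sylow 2-subgroup of a stabilizer is Sylow in the group. -/
theorem Hyp.syl_two_top {x : G ⧸ H} {S : Subgroup G} (hS : IsSyl 2 S (stabilizer G x)) :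
    IsSyl 2 S ⊤ := by
  obtain ⟨t, ht, ht2⟩ := h.exists_inv_syl hS
  refine ⟨le_top, hS.2.1, fun Q hle _ hQ => hS.2.2 Q hle (fun q hq => ?_) hQ⟩
  exact h.smul_of_commute ht2 (mem_stabilizer_iff.1 (hS.1 ht)) (h.abelian Q hQ q hq t (hle ht))

omit h

variable {n p : ℕ} (hF : Facts H W n p)
include hF

theorem Facts.fact : Fact p.Prime := ⟨hF.par.prime⟩

/-- A Sylow subgroup of a two-point stabilizer is Sylow in each stabilizer. -/
theorem Facts.syl_stab {x y : G ⧸ H} (hxy : x ≠ y) {T : Subgroup G} (hT : IsSyl p T (Dp x y)) :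
    IsSyl p T (stabilizer G x) :=
  ⟨hT.1.trans inf_le_left, hT.2.1, fun Q hle _ hQ =>
    (eq_of_le_of_card_ge hle (hF.sylow x y T Q hxy hT hQ)).symm⟩

/-- It meets the kernel in a Sylow subgroup of the kernel. -/
theorem Facts.syl_Kx {x y : G ⧸ H} (hxy : x ≠ y) {T : Subgroup G} (hT : IsSyl p T (Dp x y)) :
    IsSyl p (T ⊓ Kx W x) (Kx W x) := by
  have h := hF.par.hyp
  haveI := hF.fact
  refine ⟨inf_le_right, hT.2.1.to_le inf_le_left, fun Q hle hQK hQ => ?_⟩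
  obtain ⟨S, hQS, hS⟩ := exists_isSyl_ge hQ (hQK.trans (h.Kx_le x))
  obtain ⟨d, hd, hdT⟩ := hS.conj (hF.syl_stab hxy hT)
  refine (eq_of_le_of_card_ge hle ?_).symm
  rw [← card_cj d Q]
  refine card_le_of_le ?_
  rintro _ ⟨q, hq, rfl⟩
  exact mem_inf.2 ⟨hdT ▸ conj_mem_cj (hQS hq), h.Kx_normal (mem_stabilizer_iff.1 hd) (hQK hq)⟩

/-- The Frattini argument at a point. -/
theorem Facts.frattini {x y : G ⧸ H} (hxy : x ≠ y) {T : Subgroup G} (hT : IsSyl p T (Dp x y)) {g : G}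
    (hg : g ∈ stabilizer G x) :
    ∃ k ∈ Kx W x, ∃ m ∈ stabilizer G x ⊓ normalizer ((T ⊓ Kx W x : Subgroup G) : Set G), k * m = g := by
  have h := hF.par.hyp
  haveI := hF.fact
  have hP := hF.syl_Kx hxy hT
  have hgK : cj g (T ⊓ Kx W x) ≤ Kx W x := by
    rintro _ ⟨r, hr, rfl⟩
    exact h.Kx_normal (mem_stabilizer_iff.1 hg) (mem_inf.1 hr).2
  obtain ⟨k, hk, hkg⟩ := hP.conj (hP.of_card (isPGroup_cj hP.2.1 g) hgK (le_of_eq (card_cj _ _).symm))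
  refine ⟨k, hk, k⁻¹ * g, mem_inf.2 ⟨mul_mem (inv_mem (h.Kx_le x hk)) hg, mem_normalizer_of_cj ?_⟩,
    mul_inv_cancel_left k g⟩
  rw [← cj_cj, ← hkg, cj_cj, inv_mul_cancel, cj_one]

end Cfsg.Agent.SEAbelian
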